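import Mathlib
import Cfsg.Agent.S0494
import Cfsg.Agent.S0495
import Cfsg.Agent.S0497
import Cfsg.Agent.S0498
import Cfsg.Agent.S1011
import Cfsg.Agent.S1020
import Cfsg.Agent.S1021
import Cfsg.Agent.S0981
import Cfsg.Agent.S0813
import Cfsg.Agent.Lib.LinGroup.Simple
import Cfsg.Agent.Lib.LinGroup.ProjLine
import Cfsg.Agent.Lib.RankSeries.PSLDegrees
import Cfsg.Agent.Lib.SmallGroups.Basic

/-!
The small simple groups as two-dimensional linear groups: character degrees and automorphisms.
-/

set_option autoImplicit false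

namespace Cfsg.Agent.Lib.SmallSimple1

open Matrix

universe u v

/-- Isomorphic groups have automorphism groups of the same order. -/
theorem card_mulAut_congr {A : Type u} {B : Type v} [Group A] [Group B] (e : A ≃* B) :
    Nat.card (MulAut A) = Nat.card (MulAut B) :=
  Nat.card_congr
    { toFun := fun f => (e.symm.trans f).trans e
      invFun := fun f => (e.trans f).trans e.symm
      left_inv := fun f => by ext; simp
      right_inv := fun f => by ext; simp }

/-- Degree data of a group isomorphic to `PSL₂(q)` and the order of its automorphism group. -/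
structure LinearData (T : Type u) [Group T] (q a : ℕ) : Prop where
  degrees : ∀ d ∈ charDegrees T, RankSeries.DegreesSL q d
  self : q ∈ charDegrees T
  succ : q + 1 ∈ charDegrees T
  pred : q - 1 ∈ charDegrees T
  aut : Nat.card (MulAut T) = a

theorem card_psl_two (F : Type) [Field F] [Fintype F] {q : ℕ} (hF : Fintype.card F = q) :
    Nat.gcd 2 (q - 1) * ((q - 1) * Nat.card (ProjectiveSpecialLinearGroup (Fin 2) F)) =
      (q ^ 2 - 1) * (q ^ 2 - q) := by
  rw [← hF]
  exact LinGroup.card_PSL_two_mul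

theorem card_aut_psl_two (F : Type) [Field F] [Fintype F] (p f : ℕ) [Fact p.Prime] (hf : 1 ≤ f)
    (hF : Fintype.card F = p ^ f) (h4 : 4 ≤ p ^ f) :
    (p ^ f - 1) * Nat.card (MulAut (ProjectiveSpecialLinearGroup (Fin 2) F)) =
      f * ((p ^ (2 * f) - 1) * (p ^ (2 * f) - p ^ f)) := by
  rw [S0813.result p f hf hF 2 le_rfl fun _ => h4, if_pos rfl, one_mul,
    LinGroup.card_PGL_eq_card_SL, mul_left_comm, ← hF, LinGroup.card_SL_mul 2 (by norm_num),
    Fin.prod_univ_two, hF]
  simp [← pow_mul, mul_comm f 2]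

theorem linearData_of_iso {T : Type u} [Group T] [Finite T] (F : Type) [Field F] [Fintype F]
    (e : T ≃* ProjectiveSpecialLinearGroup (Fin 2) F) {q a : ℕ} (hF : Fintype.card F = q)
    (hq : (Even q ∧ 4 ≤ q) ∨ 5 < q)
    (ha : Nat.card (MulAut (ProjectiveSpecialLinearGroup (Fin 2) F)) = a) : LinearData T q a := by
  subst hF
  obtain ⟨h1, h2, h3, h4⟩ := RankSeries.charDegrees_data F (S := T) (Or.inl ⟨e⟩) hq
  exact ⟨h1, h2, h3, h4, by rw [card_mulAut_congr e, ha]⟩

theorem galois_card (p n : ℕ) [Fact p.Prime] (hn : n ≠ 0)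
    [Fintype (GaloisField p n)] : Fintype.card (GaloisField p n) = p ^ n := by
  rw [← Nat.card_eq_fintype_card, GaloisField.card p n hn]

variable {T : Type u} [Group T] [Finite T] [IsSimpleGroup T]

theorem data_60 (h : Nat.card T = 60) : LinearData T 4 120 := by
  haveI : Fact (Nat.Prime 2) := ⟨Nat.prime_two⟩
  letI : Fintype (GaloisField 2 2) := Fintype.ofFinite _
  have hF : Fintype.card (GaloisField 2 2) = 4 := galois_card 2 2 (by norm_num)
  haveI : IsSimpleGroup (ProjectiveSpecialLinearGroup (Fin 2) (GaloisField 2 2)) :=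
    LinGroup.isSimpleGroup_PSL_fin le_rfl fun _ => by rw [Nat.card_eq_fintype_card, hF]
  have h60 := card_psl_two _ hF
  norm_num [-Nat.card_eq_fintype_card] at h60
  obtain ⟨e⟩ := S0494.result h
  obtain ⟨e'⟩ := S0494.result
    (G := ProjectiveSpecialLinearGroup (Fin 2) (GaloisField 2 2)) (by omega)
  have ha := card_aut_psl_two (GaloisField 2 2) 2 2 (by norm_num) hF (by norm_num)
  norm_num [-Nat.card_eq_fintype_card] at ha
  exact linearData_of_iso _ (e.trans e'.symm) hF (Or.inl ⟨⟨2, rfl⟩, le_rfl⟩) (by omega)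

theorem data_168 (h : Nat.card T = 168) : LinearData T 7 336 := by
  haveI : Fact (Nat.Prime 7) := ⟨by norm_num⟩
  have hF : Fintype.card (ZMod 7) = 7 := ZMod.card 7
  obtain ⟨e⟩ := S0495.result h hF
  have ha := card_aut_psl_two (ZMod 7) 7 1 le_rfl (by simpa using hF) (by norm_num)
  norm_num [-Nat.card_eq_fintype_card] at ha
  exact linearData_of_iso _ e hF (Or.inr (by norm_num)) (by omega)

theorem data_360 (h : Nat.card T = 360) : LinearData T 9 1440 := by
  haveI : Fact (Nat.Prime 3) := ⟨Nat.prime_three⟩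
  letI : Fintype (GaloisField 3 2) := Fintype.ofFinite _
  have hF : Fintype.card (GaloisField 3 2) = 9 := galois_card 3 2 (by norm_num)
  haveI : IsSimpleGroup (ProjectiveSpecialLinearGroup (Fin 2) (GaloisField 3 2)) :=
    LinGroup.isSimpleGroup_PSL_fin le_rfl fun _ => by rw [Nat.card_eq_fintype_card, hF]; norm_num
  have h360 := card_psl_two _ hF
  norm_num [-Nat.card_eq_fintype_card] at h360
  obtain ⟨e⟩ := S0497.result h
  obtain ⟨e'⟩ := S0497.result
    (G := ProjectiveSpecialLinearGroup (Fin 2) (GaloisField 3 2)) (by omega)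
  have ha := card_aut_psl_two (GaloisField 3 2) 3 2 (by norm_num) hF (by norm_num)
  norm_num [-Nat.card_eq_fintype_card] at ha
  exact linearData_of_iso _ (e.trans e'.symm) hF (Or.inr (by norm_num)) (by omega)

theorem data_504 (h : Nat.card T = 504) : LinearData T 8 1512 := by
  haveI : Fact (Nat.Prime 2) := ⟨Nat.prime_two⟩
  letI : Fintype (GaloisField 2 3) := Fintype.ofFinite _
  have hF : Fintype.card (GaloisField 2 3) = 8 := galois_card 2 3 (by norm_num)
  obtain ⟨e⟩ := S1011.result h hF
  have ha := card_aut_psl_two (GaloisField 2 3) 2 3 (by norm_num) hF (by norm_num)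
  norm_num [-Nat.card_eq_fintype_card] at ha
  exact linearData_of_iso _ e hF (Or.inr (by norm_num)) (by omega)

theorem data_660 (h : Nat.card T = 660) : LinearData T 11 1320 := by
  haveI : Fact (Nat.Prime 11) := ⟨by norm_num⟩
  obtain ⟨e⟩ := S0498.result (G := T) 11 (Or.inl rfl) (by rw [h]; norm_num)
    (F := ZMod 11) (ZMod.card 11)
  have ha := card_aut_psl_two (ZMod 11) 11 1 le_rfl (by simp) (by norm_num)
  norm_num [-Nat.card_eq_fintype_card] at ha
  exact linearData_of_iso _ e (ZMod.card 11) (Or.inr (by norm_num)) (by omega)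

theorem data_1092 (h : Nat.card T = 1092) : LinearData T 13 2184 := by
  haveI : Fact (Nat.Prime 13) := ⟨by norm_num⟩
  obtain ⟨e⟩ := S0498.result (G := T) 13 (Or.inr rfl) (by rw [h]; norm_num)
    (F := ZMod 13) (ZMod.card 13)
  have ha := card_aut_psl_two (ZMod 13) 13 1 le_rfl (by simp) (by norm_num)
  norm_num [-Nat.card_eq_fintype_card] at ha
  exact linearData_of_iso _ e (ZMod.card 13) (Or.inr (by norm_num)) (by omega)

theorem data_2448 (h : Nat.card T = 2448) : LinearData T 17 4896 := by
  haveI : Fact (Nat.Prime 17) := ⟨by norm_num⟩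
  obtain ⟨e⟩ := S1020.result h (F := ZMod 17) (ZMod.card 17)
  have ha := card_aut_psl_two (ZMod 17) 17 1 le_rfl (by simp) (by norm_num)
  norm_num [-Nat.card_eq_fintype_card] at ha
  exact linearData_of_iso _ e (ZMod.card 17) (Or.inr (by norm_num)) (by omega)

theorem data_3420 (h : Nat.card T = 3420) : LinearData T 19 6840 := by
  haveI : Fact (Nat.Prime 19) := ⟨by norm_num⟩
  obtain ⟨e⟩ := S1021.result h (F := ZMod 19) (ZMod.card 19)
  have ha := card_aut_psl_two (ZMod 19) 19 1 le_rfl (by simp) (by norm_num)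
  norm_num [-Nat.card_eq_fintype_card] at ha
  exact linearData_of_iso _ e (ZMod.card 19) (Or.inr (by norm_num)) (by omega)

theorem data_4080 (h : Nat.card T = 4080) : LinearData T 16 16320 := by
  haveI : Fact (Nat.Prime 2) := ⟨Nat.prime_two⟩
  letI : Fintype (GaloisField 2 4) := Fintype.ofFinite _
  have hF : Fintype.card (GaloisField 2 4) = 16 := galois_card 2 4 (by norm_num)
  obtain ⟨e⟩ := S0981.result h hF
  have ha := card_aut_psl_two (GaloisField 2 4) 2 4 (by norm_num) hF (by norm_num)
  norm_num [-Nat.card_eq_fintype_card] at ha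
  exact linearData_of_iso _ e hF (Or.inr (by norm_num)) (by omega)

end Cfsg.Agent.Lib.SmallSimple1
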