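import Mathlib
import Cfsg.Agent.S0169
import Cfsg.Agent.S0887
import Cfsg.Prelude.Def_DegreeGraph
import Cfsg.Agent.Lib.Chars.PResidualDegree
import Cfsg.Agent.Lib.Clifford.Restriction
import Cfsg.Agent.Lib.RankSeries.Basic

/-!
Elementary relations between character degrees of a group, of a normal subgroup and of a quotient.
-/

set_option autoImplicit false

namespace Cfsg.Agent.Lib.SmallSimple1

open Cfsg
open Cfsg.Agent.Lib
open scoped ComplexConjugate

universe u

variable {G : Type u} [Group G] [Finite G]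

/-- A prime dividing a degree divides the index of every abelian normal subgroup. -/
theorem dvd_index_of_degreePrimes {p : ℕ} (hp : p ∈ degreePrimes G) (A : Subgroup G) [A.Normal]
    (hA : ∀ a ∈ A, ∀ b ∈ A, a * b = b * a) : p ∣ A.index := by
  obtain ⟨-, d, ⟨⟨χ, n, ρ, hρ, rfl⟩, rfl⟩, hpd⟩ := hp
  have := hρ
  refine hpd.trans ?_
  have h := S0169.result ρ A hA
  simpa [Cfsg.charDegree, Representation.char_one] using h

/-- An abelian normal Sylow subgroup excludes its prime as a vertex. -/
theorem not_mem_degreePrimes {p : ℕ} (A : Subgroup G) [A.Normal] [hA : IsMulCommutative A]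
    (h : ¬ p ∣ A.index) : p ∉ degreePrimes G := fun hp =>
  h (dvd_index_of_degreePrimes hp A fun a ha b hb =>
    congrArg Subtype.val (hA.is_comm.comm (⟨a, ha⟩ : A) ⟨b, hb⟩))

/-- The squares of the degrees of some irreducible characters sum to at most the order. -/
theorem sum_sq_le [Fintype G] (s : Finset (IrrCharacter G)) :
    ∑ χ ∈ s, charDegree (χ : G → ℂ) ^ 2 ≤ Nat.card G := by
  classical
  have h := Chars.sum_degree_sq (G := G)
  have h' : ((∑ χ : IrrCharacter G, charDegree (χ : G → ℂ) ^ 2 : ℕ) : ℂ) = (Nat.card G : ℂ) := by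
    rw [← h]
    push_cast
    exact Finset.sum_congr rfl fun χ _ => by rw [(Chars.charDegree_spec χ).2]
  rw [← (Nat.cast_inj (R := ℂ)).1 h']
  exact Finset.sum_le_univ_sum_of_nonneg fun _ => Nat.zero_le _

theorem one_mem_charDegrees : 1 ∈ charDegrees G :=
  ⟨Chars.trivialIrr G, by simp [charDegree, Chars.trivialIrr]⟩

/-- The squares of distinct degrees sum to at most the order. -/
theorem sum_sq_degrees_le (s : Finset ℕ) (hs : ∀ d ∈ s, d ∈ charDegrees G) :
    ∑ d ∈ s, d ^ 2 ≤ Nat.card G := by
  classical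
  cases nonempty_fintype G
  choose f hf using hs
  have e : ∑ d ∈ s, d ^ 2 =
      ∑ χ ∈ s.attach.image (fun d => f d.1 d.2), charDegree (χ : G → ℂ) ^ 2 := by
    rw [Finset.sum_image, ← Finset.sum_attach s]
    · exact Finset.sum_congr rfl fun d _ => by rw [hf]
    · intro a _ b _ hab
      have := congrArg (fun χ : IrrCharacter G => charDegree (χ : G → ℂ)) hab
      simp only [hf] at this
      exact Subtype.ext this
  rw [e]
  exact sum_sq_le _

/-- A degree of a normal subgroup divides a degree of the group. -/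
theorem exists_degree_above (H : Subgroup G) [H.Normal] {d : ℕ} (hd : d ∈ charDegrees H) :
    ∃ e ∈ charDegrees G, d ∣ e := by
  classical
  cases nonempty_fintype G
  cases nonempty_fintype H
  obtain ⟨θ, rfl⟩ := hd
  obtain ⟨hpos, hθ1⟩ := Chars.charDegree_spec θ
  have hch := Chars.isCharacter_indFun H (Chars.irr_isCharacter θ)
  obtain ⟨χ, hχ⟩ : ∃ χ : IrrCharacter G, classInner (indFun H (θ : H → ℂ)) (χ : G → ℂ) ≠ 0 := by
    by_contra! h0
    have := congrFun (Chars.isCharacter_eq_sum_classInner hch) 1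
    simp [h0, Chars.indFun_one_eq, Chars.irr_apply_one_ne_zero,
      Subgroup.index_ne_zero_of_finite] at this
  have hne : classInner (fun h : H => (χ : G → ℂ) h) (θ : H → ℂ) ≠ 0 := by
    rw [Chars.classInner_indFun_left H _ _ (Chars.irr_isClassFunction χ)] at hχ
    intro h
    rw [← Chars.conj_classInner, h, map_zero] at hχ
    exact hχ rfl
  exact ⟨_, ⟨χ, rfl⟩, (S0887.result H _ χ.2 _ θ.2 hne _ _ (Chars.charDegree_spec χ).2 hθ1).1⟩

/-- Every constituent of the restriction to a normal subgroup has degree tied to the whole. -/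
theorem constituent_degree (L : Subgroup G) [L.Normal] [Fintype L] (χ : IrrCharacter G)
    (θ : IrrCharacter L) (h : classInner (fun n : L => (χ : G → ℂ) n) (θ : L → ℂ) ≠ 0) :
    charDegree (θ : L → ℂ) ∣ charDegree (χ : G → ℂ) ∧
      charDegree (χ : G → ℂ) ∣ L.index * charDegree (θ : L → ℂ) := by
  cases nonempty_fintype G
  obtain ⟨h1, h2⟩ := S0887.result L _ χ.2 _ θ.2 h _ _ (Chars.charDegree_spec χ).2
    (Chars.charDegree_spec θ).2
  refine ⟨h1, ?_⟩
  obtain ⟨e, he⟩ := h1
  rw [he, Nat.mul_div_cancel_left _ (Chars.charDegree_spec θ).1] at h2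
  rw [he, mul_comm L.index]
  exact Nat.mul_dvd_mul_left _ h2

/-- A degree is a multiple of a degree of a normal subgroup and divides its product with the
index. -/
theorem exists_degree_below (L : Subgroup G) [L.Normal] {e : ℕ} (he : e ∈ charDegrees G) :
    ∃ d ∈ charDegrees L, d ∣ e ∧ e ∣ L.index * d := by
  classical
  cases nonempty_fintype L
  obtain ⟨χ, rfl⟩ := he
  obtain ⟨θ, hθ⟩ : ∃ θ : IrrCharacter L,
      classInner (fun n : L => (χ : G → ℂ) n) (θ : L → ℂ) ≠ 0 := by
    by_contra! h0
    have := congrFun (Chars.isCharacter_eq_sum_classInner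
      (Chars.isCharacter_restrict L (Chars.irr_isCharacter χ))) 1
    simp [h0, Chars.irr_apply_one_ne_zero] at this
  exact ⟨_, ⟨θ, rfl⟩, constituent_degree L χ θ hθ⟩

/-- A character of a subgroup of index two moved by the group induces to an irreducible one. -/
theorem two_mul_mem_charDegrees (K : Subgroup G) [K.Normal] (hK : K.index = 2)
    (φ : IrrCharacter K) (g : G) (hg : Clifford.conjFun g (φ : K → ℂ) ≠ (φ : K → ℂ)) :
    2 * charDegree (φ : K → ℂ) ∈ charDegrees G := by
  classical
  cases nonempty_fintype G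
  cases nonempty_fintype K
  have hin : ∀ x ∈ K, Clifford.conjFun x (φ : K → ℂ) = (φ : K → ℂ) := fun x hx =>
    funext fun n => Chars.irr_isClassFunction φ n ⟨x, hx⟩
  have hgK : g ∉ K := fun h => hg (hin g h)
  have hout : ∀ x, x ∉ K → Clifford.conjFun x (φ : K → ℂ) = Clifford.conjFun g (φ : K → ℂ) := by
    intro x hx
    have hk : x * g⁻¹ ∈ K :=
      (Subgroup.mul_mem_iff_of_index_two hK).2 (by simp [hx, hgK])
    conv_lhs => rw [show x = (x * g⁻¹) * g by group]
    rw [Clifford.conjFun_mul, hin _ hk]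
  have hirr := Clifford.isIrrCharacter_conjFun g φ.2
  have hne : classInner (φ : K → ℂ) (Clifford.conjFun g (φ : K → ℂ)) = 0 :=
    Chars.classInner_irr_of_ne (χ := φ) (ψ := ⟨_, hirr⟩)
      fun h => hg (congrArg Subtype.val h).symm
  have hch := Chars.isCharacter_indFun K (Chars.irr_isCharacter φ)
  have hi : IsIrrCharacter G (indFun K (φ : K → ℂ)) := by
    rw [Chars.isIrrCharacter_iff_classInner_eq_one hch,
      Chars.classInner_indFun_left K _ _ (Chars.isClassFunction_indFun K _)]
    change classInner (φ : K → ℂ) (Clifford.resFun K (indFun K (φ : K → ℂ))) = 1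
    rw [Clifford.resFun_indFun, Chars.classInner_smul_right, Chars.classInner_sum_right,
      ← Finset.sum_subset (Finset.subset_univ (Finset.univ.filter (· ∈ K)))
        (fun x _ hx => by rw [hout x (by simpa using hx), hne]),
      Finset.sum_congr rfl (fun x hx => by
        rw [hin x (by simpa using hx), Chars.classInner_irr_self φ])]
    rw [Finset.sum_const, nsmul_one, map_inv₀, Complex.conj_natCast,
      show (Finset.univ.filter (fun x : G => x ∈ K)).card = Nat.card K from by
        rw [Nat.card_eq_fintype_card, Fintype.card_subtype],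
      inv_mul_cancel₀ (Nat.cast_ne_zero.2 Nat.card_pos.ne')]
  refine ⟨⟨_, hi⟩, ?_⟩
  show ⌊(indFun K (φ : K → ℂ) 1).re⌋₊ = _
  rw [Chars.indFun_one_eq, (Chars.charDegree_spec φ).2, hK, ← Nat.cast_mul, Complex.natCast_re,
    Nat.floor_natCast]

/-- The modulus of an irreducible character at a product with a central element. -/
theorem norm_irr_mul_center (χ : IrrCharacter G) {z : G} (hz : z ∈ Subgroup.center G) (g : G) :
    ‖(χ : G → ℂ) (z * g)‖ = ‖(χ : G → ℂ) g‖ := by
  cases nonempty_fintype G
  obtain ⟨k, hk0, hk⟩ := Chars.isIrrCharacter_exists_degree_pos χ.2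
  have hk' : (χ : G → ℂ) 1 = (k : ℂ) := hk
  have h1 := RankSeries.irr_mul_of_mem_center χ.2 hz g
  have h2 := RankSeries.irr_mul_of_mem_center χ.2 hz z⁻¹
  rw [mul_inv_cancel, hk', Chars.irr_inv, Complex.mul_conj'] at h2
  rw [hk'] at h1
  have h3 : ‖(χ : G → ℂ) z‖ = k := by
    have : ((k : ℝ) * k : ℂ) = ((‖(χ : G → ℂ) z‖ ^ 2 : ℝ) : ℂ) := by push_cast at h2 ⊢; exact h2
    have h4 : (k : ℝ) * k = ‖(χ : G → ℂ) z‖ ^ 2 := by exact_mod_cast this
    nlinarith [norm_nonneg ((χ : G → ℂ) z), (Nat.cast_nonneg k : (0 : ℝ) ≤ k)]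
  have h5 := congrArg (‖·‖) h1
  simp only [norm_mul, Complex.norm_natCast, h3] at h5
  rw [mul_comm (k : ℝ)] at h5
  exact mul_right_cancel₀ (Nat.cast_ne_zero.2 hk0.ne') h5

end Cfsg.Agent.Lib.SmallSimple1
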