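import Mathlib
import Cfsg.Agent.Lib.Supersolvable.MinNormal

/-!
Normal subgroups of prime order in groups of small order.

If the prime `r` divides the order exactly once and no prime power dividing the order is `1` modulo
`r`, a solvable group has a normal subgroup of order `r`; the nonsolvable analogue needs that `r`
does not divide the order of the automorphism group of the simple section.
-/

set_option autoImplicit false

namespace Cfsg.Agent.Lib.SmallSimple1

open Subgroup

universe u

variable {G : Type u} [Group G] [Finite G]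

/-- A finite group in which `r` divides the order once and the only divisor congruent to `1`
modulo `r` is `1` has a normal subgroup of order `r`. -/
theorem exists_normal_of_divisors {r : ℕ} [hr : Fact r.Prime] (hdvd : r ∣ Nat.card G)
    (hr2 : ¬ r ^ 2 ∣ Nat.card G)
    (hd : ∀ d : ℕ, d ∣ Nat.card G → d % r = 1 → d = 1) :
    ∃ P : Subgroup G, P.Normal ∧ Nat.card P = r := by
  obtain ⟨P⟩ : Nonempty (Sylow r G) := inferInstance
  have h1 : Nat.card (Sylow r G) = 1 := by
    refine hd _ (P.card_dvd_index.trans (P : Subgroup G).index_dvd_card) ?_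
    have := card_sylow_modEq_one r G
    rw [Nat.ModEq, Nat.one_mod_eq_one.2 hr.out.ne_one] at this
    exact this
  haveI : Subsingleton (Sylow r G) := (Nat.card_eq_one_iff_unique.1 h1).1
  refine ⟨P, P.normal_of_subsingleton, ?_⟩
  obtain ⟨k, hk⟩ := IsPGroup.iff_card.1 P.isPGroup'
  have hk0 : k ≠ 0 := by
    intro h
    have := P.not_dvd_index
    rw [h, pow_zero] at hk
    have h2 := (P : Subgroup G).index_mul_card
    rw [hk, mul_one] at h2
    exact this (h2 ▸ hdvd)
  have hk2 : k < 2 := by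
    by_contra h
    exact hr2 ((pow_dvd_pow r (by omega : 2 ≤ k)).trans (hk ▸ Subgroup.card_subgroup_dvd_card _))
  rw [hk, show k = 1 by omega, pow_one]

/-- A subgroup of order `r` normal in a normal subgroup whose order `r` divides once is normal. -/
theorem normal_of_le_normal {r : ℕ} (hr : r.Prime) {J P : Subgroup G} (hJ : J.Normal)
    (hPJ : P ≤ J) (hP : (P.subgroupOf J).Normal) (hPc : Nat.card P = r)
    (hr2 : ¬ r ^ 2 ∣ Nat.card J) : P.Normal := by
  haveI := Fact.mk hr
  have hcard : Nat.card (P.subgroupOf J) = r :=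
    (Nat.card_congr (Subgroup.subgroupOfEquivOfLe hPJ).toEquiv).trans hPc
  have key : ∀ z : J, z ^ r = 1 → z ∈ P.subgroupOf J := by
    intro z hz
    rw [← QuotientGroup.eq_one_iff (N := P.subgroupOf J)]
    refine orderOf_eq_one_iff.1 ((Nat.dvd_prime hr).1 (orderOf_dvd_of_pow_eq_one ?_) |>.resolve_right
      fun he => hr2 ?_)
    · rw [← QuotientGroup.mk_pow, hz]
      rfl
    · rw [Subgroup.card_eq_card_quotient_mul_card_subgroup (P.subgroupOf J), hcard, pow_two]
      exact Nat.mul_dvd_mul (he ▸ orderOf_dvd_natCard _) dvd_rfl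
  refine ⟨fun x hx g => ?_⟩
  have hxr : x ^ r = 1 := by
    have h := pow_card_eq_one' (x := (⟨x, hx⟩ : P))
    rw [hPc] at h
    exact congrArg Subtype.val h
  exact Subgroup.mem_subgroupOf.1 (key ⟨g * x * g⁻¹, hJ.conj_mem x (hPJ hx) g⟩
    (Subtype.ext (by simp [conj_pow, hxr])))

/-- A normal subgroup of order `r` of a quotient by an `r'`-group lifts. -/
theorem lift_normal {r : ℕ} (hr : r.Prime) (N : Subgroup G) [N.Normal] (hN : ¬ r ∣ Nat.card N)
    (hd : ∀ d : ℕ, d ∣ Nat.card N → d % r = 1 → d = 1)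
    (K : Subgroup (G ⧸ N)) [K.Normal] (hK : Nat.card K = r) :
    ∃ P : Subgroup G, P.Normal ∧ Nat.card P = r := by
  haveI := Fact.mk hr
  set L := K.comap (QuotientGroup.mk' N) with hL
  haveI hLn : L.Normal := inferInstance
  have hcard : Nat.card L = r * Nat.card N := by
    have h1 := L.card_mul_index
    rw [hL, Subgroup.index_comap_of_surjective _ (QuotientGroup.mk'_surjective N)] at h1
    have h2 := K.card_mul_index
    have h3 := Subgroup.card_eq_card_quotient_mul_card_subgroup N
    rw [hK] at h2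
    rw [← h2] at h3
    have hpos : 0 < K.index := Nat.pos_of_ne_zero Subgroup.index_ne_zero_of_finite
    apply Nat.eq_of_mul_eq_mul_right hpos
    rw [hL]
    rw [h1, h3]
    ring
  have hr2 : ¬ r ^ 2 ∣ Nat.card L := by
    rw [hcard, pow_two]
    exact fun h => hN (Nat.dvd_of_mul_dvd_mul_left hr.pos h)
  obtain ⟨P⟩ : Nonempty (Sylow r L) := inferInstance
  have h1 : Nat.card (Sylow r L) = 1 := by
    have hm := card_sylow_modEq_one r L
    rw [Nat.ModEq, Nat.one_mod_eq_one.2 hr.ne_one] at hm
    refine hd _ ((Nat.Coprime.dvd_of_dvd_mul_left ?_)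
      (hcard ▸ P.card_dvd_index.trans (P : Subgroup L).index_dvd_card)) hm
    refine ((hr.coprime_iff_not_dvd).2 fun h => ?_).symm
    have := Nat.mod_eq_zero_of_dvd h
    omega
  haveI : Subsingleton (Sylow r L) := (Nat.card_eq_one_iff_unique.1 h1).1
  have hPn := P.normal_of_subsingleton
  have hPc : Nat.card (P : Subgroup L) = r := by
    obtain ⟨k, hk⟩ := IsPGroup.iff_card.1 P.isPGroup'
    have hdv : r ∣ Nat.card L := hcard ▸ dvd_mul_right _ _
    have hk0 : k ≠ 0 := by
      intro h
      have h2 := (P : Subgroup L).index_mul_card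
      rw [hk, h, pow_zero, mul_one] at h2
      exact P.not_dvd_index (h2 ▸ hdv)
    have hk2 : k < 2 := by
      by_contra h
      exact hr2 ((pow_dvd_pow r (by omega : 2 ≤ k)).trans (hk ▸ Subgroup.card_subgroup_dvd_card _))
    rw [hk, show k = 1 by omega, pow_one]
  refine ⟨(P : Subgroup L).map L.subtype, ?_, by
    rw [Subgroup.card_map_of_injective L.subtype_injective, hPc]⟩
  refine normal_of_le_normal hr hLn (Subgroup.map_subtype_le _) ?_ ?_ hr2
  · rw [Subgroup.subgroupOf, Subgroup.comap_map_eq_self_of_injective L.subtype_injective]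
    exact hPn
  · rw [Subgroup.card_map_of_injective L.subtype_injective, hPc]

/-- In a solvable group whose order has no prime power divisor congruent to `1` modulo `r`,
where `r` divides the order once, there is a normal subgroup of order `r`. -/
theorem exists_normal_of_solvable {r : ℕ} (hr : r.Prime) :
    ∀ (n : ℕ) (X : Type u) [Group X] [Finite X], Nat.card X = n → Group.IsSolvable X → r ∣ n →
      ¬ r ^ 2 ∣ n → (∀ q i : ℕ, q.Prime → 1 ≤ i → q ^ i ∣ n → q ^ i % r ≠ 1) →
      ∃ P : Subgroup X, P.Normal ∧ Nat.card P = r := by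
  intro n
  induction n using Nat.strong_induction_on with
  | _ n ih =>
  intro X _ _ hX hsol hdvd hr2 hq
  haveI := hsol
  haveI : Nontrivial X := Finite.one_lt_card_iff_nontrivial.1
    (lt_of_lt_of_le hr.one_lt (Nat.le_of_dvd Nat.card_pos (hX ▸ hdvd)))
  obtain ⟨N, hNn, hNne, -, -, q, hqp, hqN, -⟩ :=
    Supersolvable.exists_minimal_normal_solvable X
  haveI := hNn
  haveI := Fact.mk hqp
  obtain ⟨i, hi⟩ := IsPGroup.iff_card.1 hqN
  have hi1 : 1 ≤ i := by
    refine Nat.one_le_iff_ne_zero.2 fun h => hNne ?_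
    rw [h, pow_zero] at hi
    exact Subgroup.eq_bot_of_card_eq N hi
  have hNdvd : Nat.card N ∣ n := hX ▸ Subgroup.card_subgroup_dvd_card N
  by_cases hqr : q = r
  · subst hqr
    refine ⟨N, hNn, ?_⟩
    have : i < 2 := by
      by_contra h
      exact hr2 ((pow_dvd_pow q (by omega : 2 ≤ i)).trans (hi ▸ hNdvd))
    rw [hi, show i = 1 by omega, pow_one]
  have hrN : ¬ r ∣ Nat.card N := by
    rw [hi]
    exact fun h => hqr ((Nat.prime_dvd_prime_iff_eq hr hqp).1 (hr.dvd_of_dvd_pow h)).symm
  have hquot : n = Nat.card (X ⧸ N) * Nat.card N :=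
    hX ▸ Subgroup.card_eq_card_quotient_mul_card_subgroup N
  have hlt : Nat.card (X ⧸ N) < n := by
    rw [hquot]
    refine lt_mul_of_one_lt_right Nat.card_pos ?_
    rw [hi]
    exact Nat.one_lt_pow (by omega) hqp.one_lt
  have hdv' : Nat.card (X ⧸ N) ∣ n := ⟨_, hquot⟩
  have hrQ : r ∣ Nat.card (X ⧸ N) :=
    ((hr.dvd_mul.1 (hquot ▸ hdvd)).resolve_right hrN)
  obtain ⟨K, hKn, hKc⟩ := ih _ hlt (X ⧸ N) rfl inferInstance hrQ
    (fun h => hr2 (h.trans hdv')) fun q' i' h1 h2 h3 => hq q' i' h1 h2 (h3.trans hdv')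
  haveI := hKn
  refine lift_normal hr N hrN ?_ K hKc
  intro d hd h1
  rw [hi] at hd
  obtain ⟨j, -, rfl⟩ := (Nat.dvd_prime_pow hqp).1 hd
  by_contra hj
  exact hq q j hqp (Nat.one_le_iff_ne_zero.2 fun h => hj (by rw [h, pow_zero]))
    (hd.trans (hi ▸ hNdvd)) h1

omit [Finite G] in
/-- An element of order `r` fixing a normal `r'`-series `1 ≤ M ≤ L` pointwise centralises `L`. -/
theorem commute_of_series {r : ℕ} (hr : r.Prime) {y : G} (hy : orderOf y = r) {L M : Subgroup G}
    [Finite M] (hcop : ¬ r ∣ Nat.card M) (hM : ∀ u ∈ M, y * u = u * y)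
    (hLM : ∀ l ∈ L, l⁻¹ * (y * l * y⁻¹) ∈ M) : ∀ l ∈ L, y * l = l * y := by
  intro l hl
  set u := l⁻¹ * (y * l * y⁻¹) with hu
  have hstep : ∀ k : ℕ, y ^ k * l * (y ^ k)⁻¹ = l * u ^ k := by
    intro k
    induction k with
    | zero => simp
    | succ k ih =>
      have h1 : y * l * y⁻¹ = l * u := by simp [hu]
      have h2 : y * u ^ k * y⁻¹ = u ^ k := by
        rw [hM _ (M.pow_mem (hLM l hl) k), mul_inv_cancel_right]
      calc y ^ (k + 1) * l * (y ^ (k + 1))⁻¹ = y * (y ^ k * l * (y ^ k)⁻¹) * y⁻¹ := by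
            rw [pow_succ']; group
        _ = (y * l * y⁻¹) * (y * u ^ k * y⁻¹) := by rw [ih]; group
        _ = l * u ^ (k + 1) := by rw [h1, h2, mul_assoc, ← pow_succ']
  have h := hstep r
  rw [← hy, pow_orderOf_eq_one, one_mul, inv_one, mul_one, hy] at h
  have hur : u ^ r = 1 := left_eq_mul.1 h
  have hu1 : u = 1 := by
    refine orderOf_eq_one_iff.1 (((Nat.dvd_prime hr).1 (orderOf_dvd_of_pow_eq_one hur)).resolve_right
      fun he => hcop ?_)
    have := orderOf_dvd_natCard (⟨u, hLM l hl⟩ : M)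
    rwa [Subgroup.orderOf_mk, he] at this
  have h1 := hstep 1
  rw [pow_one, pow_one, hu1, mul_one] at h1
  exact mul_inv_eq_iff_eq_mul.1 h1

/-- Nonsolvable groups with a simple section whose automorphisms have order prime to `r`. -/
theorem exists_normal_of_section {r : ℕ} (hr : r.Prime) (hr2 : ¬ r ^ 2 ∣ Nat.card G)
    (L : Subgroup G) [hL : L.Normal] (M : Subgroup G) [hM : M.Normal] (hML : M ≤ L)
    (haut : ¬ r ∣ Nat.card (MulAut (L ⧸ M.subgroupOf L)))
    (hT : ¬ r ∣ Nat.card (L ⧸ M.subgroupOf L))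
    (hdvd : r ∣ L.index * Nat.card M)
    (hd : ∀ d : ℕ, d ∣ L.index * Nat.card M → d % r = 1 → d = 1) :
    ∃ P : Subgroup G, P.Normal ∧ Nat.card P = r := by
  classical
  haveI := Fact.mk hr
  by_cases hrM : r ∣ Nat.card M
  · obtain ⟨P, hPn, hPc⟩ := exists_normal_of_divisors (G := M) hrM
      (fun h => hr2 (h.trans (Subgroup.card_subgroup_dvd_card M)))
      fun d hd' => hd d (hd'.trans (dvd_mul_left _ _))
    refine ⟨P.map M.subtype, ?_, by rw [Subgroup.card_map_of_injective M.subtype_injective, hPc]⟩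
    refine normal_of_le_normal hr hM (Subgroup.map_subtype_le _) ?_
      (by rw [Subgroup.card_map_of_injective M.subtype_injective, hPc])
      fun h => hr2 (h.trans (Subgroup.card_subgroup_dvd_card M))
    rw [Subgroup.subgroupOf, Subgroup.comap_map_eq_self_of_injective M.subtype_injective]
    exact hPn
  have hridx : r ∣ L.index := (hr.dvd_mul.1 hdvd).resolve_right hrM
  have hrL : ¬ r ∣ Nat.card L := by
    intro h
    rw [Subgroup.card_eq_card_quotient_mul_card_subgroup (M.subgroupOf L),
      Nat.card_congr (Subgroup.subgroupOfEquivOfLe hML).toEquiv] at h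
    exact (hr.dvd_mul.1 h).elim hT hrM
  have hQ : Nat.card (G ⧸ L) = L.index := rfl
  obtain ⟨J, hJn, hJc⟩ := exists_normal_of_divisors (G := G ⧸ L) (r := r) hridx
    (fun h => hr2 (h.trans (hQ ▸ L.index_dvd_card)))
    fun d hd' => hd d (hd'.trans (hQ ▸ dvd_mul_right _ _))
  set J' := J.comap (QuotientGroup.mk' L) with hJ'
  haveI hJ'n : J'.Normal := inferInstance
  have hLJ : L ≤ J' := fun x hx => by
    rw [hJ', Subgroup.mem_comap]
    simpa [(QuotientGroup.eq_one_iff x).2 hx] using J.one_mem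
  have hcard : Nat.card J' = r * Nat.card L := by
    have h1 := J'.card_mul_index
    rw [hJ', Subgroup.index_comap_of_surjective _ (QuotientGroup.mk'_surjective L)] at h1
    have h2 := J.card_mul_index
    have h3 := Subgroup.card_eq_card_quotient_mul_card_subgroup L
    rw [hJc] at h2
    rw [← h2] at h3
    apply Nat.eq_of_mul_eq_mul_right (Nat.pos_of_ne_zero (Subgroup.index_ne_zero_of_finite (H := J)))
    rw [hJ']
    rw [h1, h3]
    ring
  obtain ⟨⟨y, hyJ⟩, hy⟩ := exists_prime_orderOf_dvd_card' r (hcard ▸ dvd_mul_right r _ : r ∣ Nat.card J')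
  rw [Subgroup.orderOf_mk] at hy
  -- the action of `y` on the section
  let f : G →* MulAut (L ⧸ M.subgroupOf L) :=
    { toFun := fun g => QuotientGroup.congr _ _ (MulAut.conjNormal g : MulAut L) (by
        ext x
        simp only [Subgroup.mem_map, Subgroup.mem_subgroupOf]
        constructor
        · rintro ⟨z, hz, rfl⟩
          simpa using hM.conj_mem _ hz g
        · intro hx
          exact ⟨(MulAut.conjNormal g : MulAut L).symm x, by simpa using hM.conj_mem' _ hx g,
            by simp⟩)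
      map_one' := by
        ext x
        induction x using QuotientGroup.induction_on with
        | H z => simp
      map_mul' := fun a b => by
        ext x
        induction x using QuotientGroup.induction_on with
        | H z => simp }
  have hfy : f y = 1 := by
    refine orderOf_eq_one_iff.1 (((Nat.dvd_prime hr).1 (hy ▸ orderOf_map_dvd f y)).resolve_right
      fun h => haut (h ▸ orderOf_dvd_natCard _))
  have hLM : ∀ l ∈ L, l⁻¹ * (y * l * y⁻¹) ∈ M := by
    intro l hl
    have h : f y ((⟨l, hl⟩ : L) : L ⧸ M.subgroupOf L) = ((⟨l, hl⟩ : L) : L ⧸ M.subgroupOf L) := by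
      rw [hfy]; rfl
    have h' : ((MulAut.conjNormal y (⟨l, hl⟩ : L) : L) : L ⧸ M.subgroupOf L) =
        ((⟨l, hl⟩ : L) : L ⧸ M.subgroupOf L) := by simpa [f] using h
    have h'' := (QuotientGroup.eq.1 h'.symm)
    rw [Subgroup.mem_subgroupOf] at h''
    simpa using h''
  -- `y` centralises `M`
  have hMy : ∀ u ∈ M, y * u = u * y := by
    set Y := M ⊔ Subgroup.zpowers y with hY
    have hYc : Nat.card Y ∣ r * Nat.card M := by
      have h := Subgroup.card_eq_card_quotient_mul_card_subgroup (M.subgroupOf Y)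
      rw [Nat.card_congr (Subgroup.subgroupOfEquivOfLe (le_sup_left : M ≤ Y)).toEquiv] at h
      rw [h]
      refine Nat.mul_dvd_mul ?_ dvd_rfl
      have hsurj : Function.Surjective ((QuotientGroup.mk' (M.subgroupOf Y)).comp
          (Subgroup.inclusion (le_sup_right : Subgroup.zpowers y ≤ Y))) := by
        intro q
        induction q using QuotientGroup.induction_on with
        | H z =>
          obtain ⟨m, hm, w, hw, hz⟩ := Subgroup.mem_sup_of_normal_left.1 z.2
          refine ⟨⟨w, hw⟩, ?_⟩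
          refine QuotientGroup.eq.2 (Subgroup.mem_subgroupOf.2 ?_)
          have := hM.conj_mem' m hm w
          simp [← hz]
          simpa [mul_assoc] using this
      refine (Subgroup.card_dvd_of_surjective _ hsurj).trans ?_
      rw [Nat.card_zpowers, hy]
    intro u hu
    have hr2Y : ¬ r ^ 2 ∣ Nat.card Y := fun h =>
      hr2 (h.trans (Subgroup.card_subgroup_dvd_card Y))
    have hyY : y ∈ Y := (le_sup_right : Subgroup.zpowers y ≤ Y) (Subgroup.mem_zpowers y)
    obtain ⟨P, hPn, hPc⟩ := exists_normal_of_divisors (G := Y) (r := r)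
      (by
        have := orderOf_dvd_natCard (⟨y, hyY⟩ : Y)
        rwa [Subgroup.orderOf_mk, hy] at this) hr2Y
      (fun d hd' h1 => by
        refine hd d ((Nat.Coprime.dvd_of_dvd_mul_left ?_ (hd'.trans hYc)).trans (dvd_mul_left _ _)) h1
        refine ((hr.coprime_iff_not_dvd).2 fun h => ?_).symm
        have := Nat.mod_eq_zero_of_dvd h
        omega)
    have hyP : (⟨y, hyY⟩ : Y) ∈ P := by
      rw [← QuotientGroup.eq_one_iff (N := P)]
      refine orderOf_eq_one_iff.1 (((Nat.dvd_prime hr).1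
        ((orderOf_map_dvd (QuotientGroup.mk' P) (⟨y, hyY⟩ : Y)).trans
          (by rw [Subgroup.orderOf_mk, hy]))).resolve_right fun he => hr2Y ?_)
      rw [Subgroup.card_eq_card_quotient_mul_card_subgroup P, hPc, pow_two]
      exact Nat.mul_dvd_mul (he ▸ orderOf_dvd_natCard _) dvd_rfl
    set v : Y := ⟨u, (le_sup_left : M ≤ Y) hu⟩
    have h1 : v * ⟨y, hyY⟩ * v⁻¹ * (⟨y, hyY⟩ : Y)⁻¹ ∈ P :=
      P.mul_mem (hPn.conj_mem _ hyP v) (P.inv_mem hyP)
    have h2 : u * y * u⁻¹ * y⁻¹ ∈ M := by
      have := M.mul_mem hu (hM.conj_mem _ (M.inv_mem hu) y)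
      simpa [mul_assoc] using this
    have h3 : u * y * u⁻¹ * y⁻¹ = 1 := by
      refine orderOf_eq_one_iff.1 (((Nat.dvd_prime hr).1 ?_).resolve_right fun he => hrM ?_)
      · refine orderOf_dvd_of_pow_eq_one ?_
        have h := pow_card_eq_one' (x := (⟨_, h1⟩ : P))
        rw [hPc] at h
        simpa [v] using congrArg (fun z : P => ((z : Y) : G)) h
      · have := orderOf_dvd_natCard (⟨_, h2⟩ : M)
        rwa [Subgroup.orderOf_mk, he] at this
    rw [mul_inv_eq_one, mul_inv_eq_iff_eq_mul] at h3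
    exact h3.symm
  have hcomm := commute_of_series hr hy hrM hMy hLM
  refine ⟨Subgroup.zpowers y, ?_, by rw [Nat.card_zpowers, hy]⟩
  refine normal_of_le_normal hr hJ'n (Subgroup.zpowers_le.2 hyJ) ?_ (by rw [Nat.card_zpowers, hy])
    fun h => hr2 (h.trans (Subgroup.card_subgroup_dvd_card J'))
  have hgen : L ⊔ Subgroup.zpowers y = J' := by
    refine Subgroup.eq_of_le_of_card_ge (sup_le hLJ (Subgroup.zpowers_le.2 hyJ)) ?_
    rw [hcard]
    refine Nat.le_of_dvd Nat.card_pos (Nat.Coprime.mul_dvd_of_dvd_of_dvd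
      ((hr.coprime_iff_not_dvd).2 hrL) ?_ ?_)
    · have := Subgroup.card_dvd_of_le (le_sup_right : Subgroup.zpowers y ≤ L ⊔ Subgroup.zpowers y)
      rwa [Nat.card_zpowers, hy] at this
    · exact Subgroup.card_dvd_of_le le_sup_left
  rw [Subgroup.normal_subgroupOf_iff_le_normalizer (Subgroup.zpowers_le.2 hyJ), ← hgen, sup_le_iff]
  refine ⟨fun l hl => Subgroup.centralizer_le_normalizer _ ?_, Subgroup.le_normalizer⟩
  rw [Subgroup.mem_centralizer_iff]
  intro z hz
  obtain ⟨k, rfl⟩ := Subgroup.mem_zpowers_iff.1 hz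
  exact (Commute.zpow_left (hcomm l hl : Commute y l) k).eq

end Cfsg.Agent.Lib.SmallSimple1
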