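import Mathlib
import Cfsg.Agent.Lib.SmallSimple1.Struct

/-!
The variant of the normal subgroup of prime order with one exceptional prime power, and the
simple section of a nonsolvable group.
-/

set_option autoImplicit false

namespace Cfsg.Agent.Lib.SmallSimple1

open Subgroup

universe u

variable {G : Type u} [Group G] [Finite G]

/-- An element of order `r` centralises a normal `r'`-subgroup if that subgroup has no divisor
congruent to `1` modulo `r` in its order. -/
theorem commute_normal_of_divisors {r : ℕ} (hr : r.Prime) (hr2 : ¬ r ^ 2 ∣ Nat.card G)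
    (M : Subgroup G) [hM : M.Normal] (hrM : ¬ r ∣ Nat.card M) {y : G} (hy : orderOf y = r)
    (hd : ∀ d : ℕ, d ∣ Nat.card M → d % r = 1 → d = 1) : ∀ u ∈ M, y * u = u * y := by
  haveI := Fact.mk hr
  set Y := M ⊔ Subgroup.zpowers y with hY
  have hyY : y ∈ Y := (le_sup_right : Subgroup.zpowers y ≤ Y) (Subgroup.mem_zpowers y)
  have hYc : Nat.card Y ∣ r * Nat.card M := by
    have h := Subgroup.card_eq_card_quotient_mul_card_subgroup (M.subgroupOf Y)
    rw [Nat.card_congr (Subgroup.subgroupOfEquivOfLe (le_sup_left : M ≤ Y)).toEquiv] at h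
    rw [h]
    refine Nat.mul_dvd_mul ?_ dvd_rfl
    have hsurj : Function.Surjective ((QuotientGroup.mk' (M.subgroupOf Y)).comp
        (Subgroup.inclusion (le_sup_right : Subgroup.zpowers y ≤ Y))) := by
      intro q
      induction q using QuotientGroup.induction_on with
      | H z =>
        obtain ⟨m, hm, w, hw, hz⟩ := Subgroup.mem_sup_of_normal_left.1 z.2
        refine ⟨⟨w, hw⟩, ?_⟩
        refine QuotientGroup.eq.2 (Subgroup.mem_subgroupOf.2 ?_)
        have := hM.conj_mem' m hm w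
        simp [← hz]
        simpa [mul_assoc] using this
    refine (Subgroup.card_dvd_of_surjective _ hsurj).trans ?_
    rw [Nat.card_zpowers, hy]
  have hr2Y : ¬ r ^ 2 ∣ Nat.card Y := fun h =>
    hr2 (h.trans (Subgroup.card_subgroup_dvd_card Y))
  obtain ⟨P, hPn, hPc⟩ := exists_normal_of_divisors (G := Y) (r := r)
    (by
      have := orderOf_dvd_natCard (⟨y, hyY⟩ : Y)
      rwa [Subgroup.orderOf_mk, hy] at this) hr2Y
    (fun d hd' h1 => by
      refine hd d (Nat.Coprime.dvd_of_dvd_mul_left ?_ (hd'.trans hYc)) h1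
      refine ((hr.coprime_iff_not_dvd).2 fun h => ?_).symm
      have := Nat.mod_eq_zero_of_dvd h
      omega)
  have hyP : (⟨y, hyY⟩ : Y) ∈ P := by
    rw [← QuotientGroup.eq_one_iff (N := P)]
    refine orderOf_eq_one_iff.1 (((Nat.dvd_prime hr).1
      ((orderOf_map_dvd (QuotientGroup.mk' P) (⟨y, hyY⟩ : Y)).trans
        (by rw [Subgroup.orderOf_mk, hy]))).resolve_right fun he => hr2Y ?_)
    rw [Subgroup.card_eq_card_quotient_mul_card_subgroup P, hPc, pow_two]
    exact Nat.mul_dvd_mul (he ▸ orderOf_dvd_natCard _) dvd_rfl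
  intro u hu
  set v : Y := ⟨u, (le_sup_left : M ≤ Y) hu⟩
  have h1 : v * ⟨y, hyY⟩ * v⁻¹ * (⟨y, hyY⟩ : Y)⁻¹ ∈ P :=
    P.mul_mem (hPn.conj_mem _ hyP v) (P.inv_mem hyP)
  have h2 : u * y * u⁻¹ * y⁻¹ ∈ M := by
    have := M.mul_mem hu (hM.conj_mem _ (M.inv_mem hu) y)
    simpa [mul_assoc] using this
  have h3 : u * y * u⁻¹ * y⁻¹ = 1 := by
    refine orderOf_eq_one_iff.1 (((Nat.dvd_prime hr).1 ?_).resolve_right fun he => hrM ?_)
    · refine orderOf_dvd_of_pow_eq_one ?_
      have h := pow_card_eq_one' (x := (⟨_, h1⟩ : P))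
      rw [hPc] at h
      simpa [v] using congrArg (fun z : P => ((z : Y) : G)) h
    · have := orderOf_dvd_natCard (⟨_, h2⟩ : M)
      rwa [Subgroup.orderOf_mk, he] at this
  rw [mul_inv_eq_one, mul_inv_eq_iff_eq_mul] at h3
  exact h3.symm

/-- An element of order `r` centralising a normal `r'`-subgroup `L` generates a normal subgroup
when `G/L` has a normal subgroup of order `r`. -/
theorem zpowers_normal_of_centralizes {r : ℕ} (hr : r.Prime) (hr2 : ¬ r ^ 2 ∣ Nat.card G)
    (L : Subgroup G) [L.Normal] (hrL : ¬ r ∣ Nat.card L) {y : G} (hy : orderOf y = r)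
    (hcomm : ∀ l ∈ L, y * l = l * y) (J : Subgroup (G ⧸ L)) [J.Normal] (hJc : Nat.card J = r) :
    (Subgroup.zpowers y).Normal := by
  haveI := Fact.mk hr
  set J' := J.comap (QuotientGroup.mk' L) with hJ'
  haveI hJ'n : J'.Normal := inferInstance
  have hr2Q : ¬ r ^ 2 ∣ Nat.card (G ⧸ L) := fun h =>
    hr2 (h.trans ⟨_, Subgroup.card_eq_card_quotient_mul_card_subgroup L⟩)
  have hyJ : y ∈ J' := by
    rw [hJ', Subgroup.mem_comap, ← QuotientGroup.eq_one_iff (N := J)]
    refine orderOf_eq_one_iff.1 (((Nat.dvd_prime hr).1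
      ((orderOf_map_dvd (QuotientGroup.mk' J) _).trans
        ((orderOf_map_dvd (QuotientGroup.mk' L) y).trans (by rw [hy])))).resolve_right
      fun he => hr2Q ?_)
    rw [Subgroup.card_eq_card_quotient_mul_card_subgroup J, hJc, pow_two]
    exact Nat.mul_dvd_mul (he ▸ orderOf_dvd_natCard _) dvd_rfl
  have hLJ : L ≤ J' := fun x hx => by
    rw [hJ', Subgroup.mem_comap]
    simpa [(QuotientGroup.eq_one_iff x).2 hx] using J.one_mem
  have hcard : Nat.card J' = r * Nat.card L := by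
    have h1 := J'.card_mul_index
    rw [hJ', Subgroup.index_comap_of_surjective _ (QuotientGroup.mk'_surjective L)] at h1
    have h2 := J.card_mul_index
    have h3 := Subgroup.card_eq_card_quotient_mul_card_subgroup L
    rw [hJc] at h2
    rw [← h2] at h3
    apply Nat.eq_of_mul_eq_mul_right
      (Nat.pos_of_ne_zero (Subgroup.index_ne_zero_of_finite (H := J)))
    rw [hJ']
    rw [h1, h3]
    ring
  refine normal_of_le_normal hr hJ'n (Subgroup.zpowers_le.2 hyJ) ?_ (by rw [Nat.card_zpowers, hy])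
    fun h => hr2 (h.trans (Subgroup.card_subgroup_dvd_card J'))
  have hgen : L ⊔ Subgroup.zpowers y = J' := by
    refine Subgroup.eq_of_le_of_card_ge (sup_le hLJ (Subgroup.zpowers_le.2 hyJ)) ?_
    rw [hcard]
    refine Nat.le_of_dvd Nat.card_pos (Nat.Coprime.mul_dvd_of_dvd_of_dvd
      ((hr.coprime_iff_not_dvd).2 hrL) ?_ ?_)
    · have := Subgroup.card_dvd_of_le
        (le_sup_right : Subgroup.zpowers y ≤ L ⊔ Subgroup.zpowers y)
      rwa [Nat.card_zpowers, hy] at this
    · exact Subgroup.card_dvd_of_le le_sup_left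
  rw [Subgroup.normal_subgroupOf_iff_le_normalizer (Subgroup.zpowers_le.2 hyJ), ← hgen, sup_le_iff]
  refine ⟨fun l hl => Subgroup.centralizer_le_normalizer _ ?_, Subgroup.le_normalizer⟩
  rw [Subgroup.mem_centralizer_iff]
  intro z hz
  obtain ⟨k, rfl⟩ := Subgroup.mem_zpowers_iff.1 hz
  exact (Commute.zpow_left (hcomm l hl : Commute y l) k).eq

omit [Finite G] in
/-- A divisor of a prime power congruent to `1` modulo `r` is trivial if no prime power is. -/
theorem divisor_eq_one_of_prime_pow {r q b : ℕ} (hq : q.Prime)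
    (h : ∀ i : ℕ, 1 ≤ i → i ≤ b → q ^ i % r ≠ 1) : ∀ d : ℕ, d ∣ q ^ b → d % r = 1 → d = 1 := by
  intro d hd h1
  obtain ⟨j, hj, rfl⟩ := (Nat.dvd_prime_pow hq).1 hd
  by_contra hj0
  exact h j (Nat.one_le_iff_ne_zero.2 fun h => hj0 (by rw [h, pow_zero])) hj h1

/-- In a solvable group in which `q ^ a` is the only prime power divisor congruent to `1` modulo
`r`, either there is a normal subgroup of order `r` or an abelian normal one of order `q ^ a`. -/
theorem exists_normal_or_sylow {r q a : ℕ} (hr : r.Prime) (hqp : q.Prime) (hqr : q ≠ r) :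
    ∀ (n : ℕ) (X : Type u) [Group X] [Finite X], Nat.card X = n → Group.IsSolvable X → r ∣ n →
      ¬ r ^ 2 ∣ n → ¬ q ^ (a + 1) ∣ n →
      (∀ s i : ℕ, s.Prime → 1 ≤ i → s ^ i ∣ n → s ^ i % r = 1 → s = q ∧ i = a) →
      (∃ P : Subgroup X, P.Normal ∧ Nat.card P = r) ∨
        ∃ A : Subgroup X, A.Normal ∧ Nat.card A = q ^ a ∧ IsMulCommutative A := by
  intro n
  induction n using Nat.strong_induction_on with
  | _ n ih =>
  intro X _ _ hX hsol hdvd hr2 hqa hq
  haveI := hsol
  haveI := Fact.mk hqp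
  haveI := Fact.mk hr
  have hr2X : ¬ r ^ 2 ∣ Nat.card X := hX.symm ▸ hr2
  by_cases hQ : ∃ Q : Subgroup X, Q.Normal ∧ Q ≠ ⊥ ∧ IsPGroup q Q
  · obtain ⟨Q, hQn, hQne, hQp⟩ := hQ
    haveI := hQn
    haveI : Nontrivial Q := (Subgroup.nontrivial_iff_ne_bot Q).2 hQne
    haveI : Nontrivial (Subgroup.center Q) := hQp.center_nontrivial
    set N := (Subgroup.center Q).map Q.subtype with hN
    haveI hNn : N.Normal := inferInstance
    have hNq : IsPGroup q N := (hQp.to_subgroup _).map _
    have hNne : N ≠ ⊥ := fun h => (Subgroup.nontrivial_iff_ne_bot _).1 ‹_›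
      ((Subgroup.map_eq_bot_iff_of_injective _ Q.subtype_injective).1 h)
    haveI hNc : IsMulCommutative N := inferInstance
    obtain ⟨b, hb⟩ := IsPGroup.iff_card.1 hNq
    have hb1 : 1 ≤ b := Nat.one_le_iff_ne_zero.2 fun h => hNne
      (Subgroup.eq_bot_of_card_eq N (by rw [hb, h, pow_zero]))
    have hNdvd : Nat.card N ∣ n := hX ▸ Subgroup.card_subgroup_dvd_card N
    have hba : b ≤ a := by
      by_contra h
      exact hqa ((pow_dvd_pow q (by omega : a + 1 ≤ b)).trans (hb ▸ hNdvd))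
    rcases eq_or_lt_of_le hba with rfl | hlt
    · exact Or.inr ⟨N, hNn, hb, hNc⟩
    have hquot : n = Nat.card (X ⧸ N) * Nat.card N :=
      hX ▸ Subgroup.card_eq_card_quotient_mul_card_subgroup N
    have hrN : ¬ r ∣ Nat.card N := by
      rw [hb]
      exact fun h => hqr ((Nat.prime_dvd_prime_iff_eq hr hqp).1 (hr.dvd_of_dvd_pow h)).symm
    obtain ⟨K, hKn, hKc⟩ := exists_normal_of_solvable hr _ (X ⧸ N) rfl inferInstance
      ((hr.dvd_mul.1 (hquot ▸ hdvd)).resolve_right hrN) (fun h => hr2 (h.trans ⟨_, hquot⟩))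
      fun s i hs hi hsi h1 => by
        obtain ⟨rfl, rfl⟩ := hq s i hs hi (hsi.trans ⟨_, hquot⟩) h1
        refine hqa ((pow_dvd_pow s (by omega : i + 1 ≤ i + b)).trans ?_)
        rw [hquot, hb, pow_add]
        exact Nat.mul_dvd_mul hsi dvd_rfl
    haveI := hKn
    refine Or.inl (lift_normal hr N hrN ?_ K hKc)
    rw [hb]
    refine divisor_eq_one_of_prime_pow hqp fun i hi hib h1 => ?_
    have := (hq q i hqp hi ((pow_dvd_pow q hib).trans (hb ▸ hNdvd)) h1).2
    omega
  push Not at hQ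
  haveI : Nontrivial X := Finite.one_lt_card_iff_nontrivial.1
    (lt_of_lt_of_le hr.one_lt (Nat.le_of_dvd Nat.card_pos (hX ▸ hdvd)))
  obtain ⟨N, hNn, hNne, hNc, -, s, hsp, hsN, -⟩ :=
    Supersolvable.exists_minimal_normal_solvable X
  haveI := hNn
  have hsq : s ≠ q := fun h => hQ N hNn hNne (h ▸ hsN)
  haveI := Fact.mk hsp
  obtain ⟨b, hb⟩ := IsPGroup.iff_card.1 hsN
  have hb1 : 1 ≤ b := Nat.one_le_iff_ne_zero.2 fun h => hNne
    (Subgroup.eq_bot_of_card_eq N (by rw [hb, h, pow_zero]))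
  have hNdvd : Nat.card N ∣ n := hX ▸ Subgroup.card_subgroup_dvd_card N
  by_cases hsr : s = r
  · subst hsr
    refine Or.inl ⟨N, hNn, ?_⟩
    have : b < 2 := by
      by_contra h
      exact hr2 ((pow_dvd_pow s (by omega : 2 ≤ b)).trans (hb ▸ hNdvd))
    rw [hb, show b = 1 by omega, pow_one]
  have hrN : ¬ r ∣ Nat.card N := by
    rw [hb]
    exact fun h => hsr ((Nat.prime_dvd_prime_iff_eq hr hsp).1 (hr.dvd_of_dvd_pow h)).symm
  have hdN : ∀ d : ℕ, d ∣ Nat.card N → d % r = 1 → d = 1 := by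
    rw [hb]
    exact divisor_eq_one_of_prime_pow hsp fun i hi hib h1 =>
      hsq (hq s i hsp hi ((pow_dvd_pow s hib).trans (hb ▸ hNdvd)) h1).1
  have hquot : n = Nat.card (X ⧸ N) * Nat.card N :=
    hX ▸ Subgroup.card_eq_card_quotient_mul_card_subgroup N
  have hdv' : Nat.card (X ⧸ N) ∣ n := ⟨_, hquot⟩
  have hrQ : r ∣ Nat.card (X ⧸ N) := (hr.dvd_mul.1 (hquot ▸ hdvd)).resolve_right hrN
  have hlt : Nat.card (X ⧸ N) < n := by
    rw [hquot]
    refine lt_mul_of_one_lt_right Nat.card_pos ?_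
    rw [hb]
    exact Nat.one_lt_pow (by omega) hsp.one_lt
  rcases ih _ hlt (X ⧸ N) rfl inferInstance hrQ (fun h => hr2 (h.trans hdv'))
      (fun h => hqa (h.trans hdv'))
      (fun s' i h1 h2 h3 h4 => hq s' i h1 h2 (h3.trans hdv') h4) with
    ⟨K, hKn, hKc⟩ | ⟨K, hKn, hKc, hKcomm⟩
  · haveI := hKn
    exact Or.inl (lift_normal hr N hrN hdN K hKc)
  haveI := hKn
  obtain ⟨x, hx⟩ := exists_prime_orderOf_dvd_card' r (hX.symm ▸ hdvd : r ∣ Nat.card X)
  have hxN := commute_normal_of_divisors hr hr2X N hrN hx hdN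
  set K' := K.comap (QuotientGroup.mk' N) with hK'
  haveI : K'.Normal := inferInstance
  set D := Subgroup.centralizer (N : Set X) ⊓ K' with hD
  haveI hDn : D.Normal := Subgroup.normal_inf_normal _ _
  have hDN : ∀ z : X, z ∈ D → z ∈ N := by
    -- otherwise the Sylow `q`-subgroup of `D` would be normal
    let f : D →* K := ((QuotientGroup.mk' N).comp D.subtype).codRestrict K fun z =>
      (Subgroup.mem_inf.1 z.2).2
    letI : CommGroup K := { (inferInstance : Group K) with
      mul_comm := fun a b => hKcomm.is_comm.comm a b }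
    haveI : Group.IsNilpotent D := Subgroup.isNilpotent_of_ker_le_center f (fun z hz => by
      have hzN : (z : X) ∈ N := (QuotientGroup.eq_one_iff _).1 (congrArg Subtype.val hz)
      rw [Subgroup.mem_center_iff]
      intro w
      exact Subtype.ext (((Subgroup.mem_inf.1 w.2).1 _ hzN).symm))
    obtain ⟨P⟩ : Nonempty (Sylow q D) := inferInstance
    haveI := Sylow.normal_of_normalizerCondition Group.normalizerCondition_of_isNilpotent P
    haveI := Sylow.characteristic_of_normal P inferInstance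
    have hP : (P : Subgroup D).map D.subtype = ⊥ := by
      by_contra h
      exact hQ _ inferInstance h (P.isPGroup'.map _)
    rw [Subgroup.map_eq_bot_iff_of_injective _ D.subtype_injective] at hP
    intro z hz
    rw [← QuotientGroup.eq_one_iff (N := N)]
    have h1 : orderOf ((z : X) : X ⧸ N) ∣ q ^ a := hKc ▸ Subgroup.orderOf_dvd_natCard _ (f ⟨z, hz⟩).2
    obtain ⟨i, -, hi⟩ := (Nat.dvd_prime_pow hqp).1 h1
    by_contra h
    have hqD : q ∣ Nat.card D := by
      refine (dvd_trans (dvd_trans ?_ (orderOf_map_dvd (QuotientGroup.mk' N) z))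
        (Subgroup.orderOf_dvd_natCard _ hz))
      have hi0 : i ≠ 0 := fun h0 => h (orderOf_eq_one_iff.1 (by rw [hi, h0, pow_zero]))
      show q ∣ orderOf ((z : X) : X ⧸ N)
      rw [hi]
      exact dvd_pow_self q hi0
    have := P.not_dvd_index
    rw [hP, Subgroup.index_bot] at this
    exact this hqD
  -- the image of `x` centralises `K`
  set xb := QuotientGroup.mk' N x with hxb
  have hcomm : ∀ k ∈ K, xb * k = k * xb := by
    intro k hk
    obtain ⟨k', rfl⟩ := QuotientGroup.mk'_surjective N k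
    have hc1 : x * k' * x⁻¹ * k'⁻¹ ∈ K' := by
      refine K'.mul_mem ((inferInstance : K'.Normal).conj_mem k' hk x) (K'.inv_mem hk)
    have hc2 : x * k' * x⁻¹ * k'⁻¹ ∈ Subgroup.centralizer (N : Set X) := by
      rw [Subgroup.mem_centralizer_iff]
      intro u hu
      have hc : ∀ v ∈ N, x⁻¹ * v * x = v := fun v hv => by
        rw [mul_assoc, ← hxN v hv, inv_mul_cancel_left]
      have hc' : ∀ v ∈ N, x * v * x⁻¹ = v := fun v hv => by
        rw [hxN v hv, mul_inv_cancel_right]
      have key : (x * k' * x⁻¹ * k'⁻¹) * u * (x * k' * x⁻¹ * k'⁻¹)⁻¹ = u := by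
        have e : (x * k' * x⁻¹ * k'⁻¹) * u * (x * k' * x⁻¹ * k'⁻¹)⁻¹ =
            x * (k' * (x⁻¹ * (k'⁻¹ * u * k') * x) * k'⁻¹) * x⁻¹ := by group
        rw [e, hc _ (hNn.conj_mem' u hu k'),
          show k' * (k'⁻¹ * u * k') * k'⁻¹ = u by group, hc' u hu]
      exact ((mul_inv_eq_iff_eq_mul).1 key).symm
    have h := hDN _ (Subgroup.mem_inf.2 ⟨hc2, hc1⟩)
    rw [← QuotientGroup.eq_one_iff (N := N)] at h
    have h' : xb * QuotientGroup.mk' N k' * xb⁻¹ * (QuotientGroup.mk' N k')⁻¹ = 1 := by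
      simpa [hxb] using h
    rwa [mul_inv_eq_one, mul_inv_eq_iff_eq_mul] at h'
  have hxbr : orderOf xb = r := by
    refine ((Nat.dvd_prime hr).1 (hx ▸ orderOf_map_dvd _ x)).resolve_left fun h => hrN ?_
    exact hx ▸ Subgroup.orderOf_dvd_natCard _
      ((QuotientGroup.eq_one_iff x).1 (orderOf_eq_one_iff.1 h))
  have hrK : ¬ r ∣ Nat.card K := by
    rw [hKc]
    exact fun h => hqr ((Nat.prime_dvd_prime_iff_eq hr hqp).1 (hr.dvd_of_dvd_pow h)).symm
  have hr2Q : ¬ r ^ 2 ∣ Nat.card (X ⧸ N) := fun h => hr2 (h.trans hdv')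
  have hquot2 := Subgroup.card_eq_card_quotient_mul_card_subgroup K
  have hdv2 : Nat.card ((X ⧸ N) ⧸ K) ∣ n :=
    (dvd_trans ⟨_, hquot2⟩ hdv')
  obtain ⟨J, hJn, hJc⟩ := exists_normal_of_solvable hr _ ((X ⧸ N) ⧸ K) rfl inferInstance
    ((hr.dvd_mul.1 (hquot2 ▸ hrQ)).resolve_right hrK) (fun h => hr2 (h.trans hdv2))
    fun s' i h1 h2 h3 h4 => by
      obtain ⟨rfl, rfl⟩ := hq s' i h1 h2 (h3.trans hdv2) h4
      refine hqa ((pow_dvd_pow s' (by omega : i + 1 ≤ i + i)).trans ?_)
      refine dvd_trans ?_ hdv'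
      rw [hquot2, hKc, pow_add]
      exact Nat.mul_dvd_mul h3 dvd_rfl
  haveI := hJn
  haveI := zpowers_normal_of_centralizes hr hr2Q K hrK hxbr hcomm J hJc
  exact Or.inl (lift_normal hr N hrN hdN (Subgroup.zpowers xb) (by rw [Nat.card_zpowers, hxbr]))

/-- A nonsolvable finite group has a perfect normal subgroup with a non-abelian simple
quotient. -/
theorem exists_section (h : ¬ Group.IsSolvable G) :
    ∃ L : Subgroup G, L.Normal ∧ commutator L = ⊤ ∧
      ∃ (M : Subgroup L) (_ : M.Normal), IsSimpleGroup (L ⧸ M) ∧ ¬ IsMulCommutative (L ⧸ M) := by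
  classical
  obtain ⟨k, hk⟩ : ∃ k, derivedSeries G (k + 1) = derivedSeries G k := by
    haveI : Nonempty {H : Subgroup G // ∃ k, derivedSeries G k = H} := ⟨⟨_, 0, rfl⟩⟩
    obtain ⟨L, hL⟩ := Finite.exists_min (fun L : {H : Subgroup G // ∃ k, derivedSeries G k = H} =>
      Nat.card L.1)
    obtain ⟨⟨H, k, rfl⟩, hk⟩ : ∃ L : {H : Subgroup G // ∃ k, derivedSeries G k = H},
        ∀ L' : {H : Subgroup G // ∃ k, derivedSeries G k = H},
          Nat.card L.1 ≤ Nat.card L'.1 := ⟨L, hL⟩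
    refine ⟨k, Subgroup.eq_of_le_of_card_ge (derivedSeries_antitone G (Nat.le_succ k)) ?_⟩
    exact hk ⟨_, k + 1, rfl⟩
  set L := derivedSeries G k with hL
  have hLne : L ≠ ⊥ := fun e => h ⟨⟨k, e⟩⟩
  have hperf : commutator L = ⊤ := by
    apply Subgroup.map_injective L.subtype_injective
    rw [Subgroup.map_subtype_commutator, ← MonoidHom.range_eq_map, Subgroup.range_subtype]
    exact hk
  refine ⟨L, derivedSeries_normal G k, hperf, ?_⟩
  haveI : Nontrivial L := (Subgroup.nontrivial_iff_ne_bot L).2 hLne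
  haveI : Nonempty {N : Subgroup L // N.Normal ∧ N ≠ ⊤} := ⟨⟨⊥, inferInstance, bot_ne_top⟩⟩
  obtain ⟨⟨M, hMn, hMtop⟩, hmax⟩ := Finite.exists_max
    (fun N : {N : Subgroup L // N.Normal ∧ N ≠ ⊤} => Nat.card N.1)
  haveI := hMn
  haveI : Nontrivial (L ⧸ M) := QuotientGroup.nontrivial_iff.2 hMtop
  have hsimple : IsSimpleGroup (L ⧸ M) := by
    refine ⟨fun K hK => ?_⟩
    haveI := hK
    set K' := K.comap (QuotientGroup.mk' M) with hK'
    have hMK : M ≤ K' := fun x hx => by
      rw [hK', Subgroup.mem_comap]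
      simpa [(QuotientGroup.eq_one_iff x).2 hx] using K.one_mem
    by_cases ht : K' = ⊤
    · refine Or.inr ?_
      rw [eq_top_iff]
      intro z _
      induction z using QuotientGroup.induction_on with
      | H w => exact Subgroup.mem_comap.1 (ht ▸ Subgroup.mem_top w : w ∈ K')
    · refine Or.inl ?_
      have heq : M = K' := Subgroup.eq_of_le_of_card_ge hMK (hmax ⟨K', inferInstance, ht⟩)
      rw [eq_bot_iff]
      intro z hz
      induction z using QuotientGroup.induction_on with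
      | H w =>
        rw [Subgroup.mem_bot, QuotientGroup.eq_one_iff, heq]
        exact hz
  refine ⟨M, hMn, hsimple, fun hc => ?_⟩
  have hle : commutator L ≤ M := by
    rw [_root_.commutator_def, Subgroup.commutator_le]
    intro a _ b _
    rw [← QuotientGroup.eq_one_iff (N := M)]
    have := hc.is_comm.comm ((a : L) : L ⧸ M) ((b : L) : L ⧸ M)
    rw [commutatorElement_def]
    simp only [QuotientGroup.mk_mul, QuotientGroup.mk_inv]
    rw [this]
    group
  exact hMtop (top_le_iff.1 (hperf ▸ hle))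

/-- A solvable normal subgroup below a nonabelian simple quotient of a normal subgroup is normal. -/
theorem normal_map_of_solvable (L : Subgroup G) [hL : L.Normal] (M : Subgroup L) [hM : M.Normal]
    [IsSimpleGroup (L ⧸ M)] (hT : ¬ IsMulCommutative (L ⧸ M)) (hs : Group.IsSolvable M) :
    (M.map L.subtype).Normal := by
  refine ⟨fun x hx g => ?_⟩
  obtain ⟨u, hu, rfl⟩ := hx
  refine ⟨MulAut.conjNormal g u, ?_, by simp⟩
  haveI := hs
  set c : L →* L ⧸ M := (QuotientGroup.mk' M).comp (MulAut.conjNormal g : MulAut L).toMonoidHom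
  have hsurj : Function.Surjective c :=
    (QuotientGroup.mk'_surjective M).comp (MulAut.conjNormal g : MulAut L).surjective
  haveI hn : (M.map c).Normal := hM.map c hsurj
  rcases hn.eq_bot_or_eq_top with h | h
  · refine (QuotientGroup.eq_one_iff _).1 ?_
    exact (Subgroup.mem_bot.1 (h ▸ Subgroup.mem_map_of_mem c hu))
  · exfalso
    refine hT ⟨⟨(IsSimpleGroup.comm_iff_isSolvable).2 ?_⟩⟩
    refine Group.isSolvable_of_surjective (f := c.comp M.subtype) ?_
    intro z
    obtain ⟨w, hw, rfl⟩ := (h ▸ Subgroup.mem_top z : z ∈ M.map c)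
    exact ⟨⟨w, hw⟩, rfl⟩

end Cfsg.Agent.Lib.SmallSimple1
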