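/-
No simple group has order 1512, 1620 or 2160: the principal block at the largest prime against the
principal blocks at the primes two and three.
-/
import Mathlib
import Cfsg.Agent.Lib.BrauerTuan.FiveSetting
import Cfsg.Agent.Lib.BrauerTuan.Main
import Cfsg.Agent.Lib.Chars.DefectZero
import Cfsg.Agent.Lib.SmallGroups.PrimeChar.Involutions

set_option autoImplicit false
set_option linter.unusedSectionVars false
set_option linter.style.haveILetI false

namespace Cfsg.Agent.Lib.SmallSimple1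

open scoped ComplexConjugate
open Cfsg Cfsg.Agent.Lib Subgroup
open Cfsg.Agent.Lib.DefectOne Cfsg.Agent.Lib.BrauerReynolds Cfsg.Agent.Lib.BrauerTuan
open Cfsg.Agent.Lib.SmallGroups.PrimeChar (xp xp_one)

universe u

variable {G : Type u} [Group G] [Fintype G] [IsSimpleGroup G]

/-- The local data at a prime `p ≥ 5` in a group of order `p * 3 ^ a * 2 ^ b`. -/
theorem exists_setting_two_three (hG : ¬ IsMulCommutative G) {p a b : ℕ} [hp : Fact p.Prime]
    (h5 : 5 ≤ p) (h : Nat.card G = p * 3 ^ a * 2 ^ b) :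
    ∃ D : Setting p G, Nonempty (Frame D) ∧ p * (D.e * (1 + D.n * p)) = Nat.card G ∧
      Nat.card (centralizer ({D.S.x} : Set G)) = p := by
  classical
  have hm : ¬ p ∣ 3 ^ a * 2 ^ b := fun hd => by
    rcases hp.out.dvd_mul.mp hd with h' | h' <;>
      have := Nat.le_of_dvd (by norm_num) (hp.out.dvd_of_dvd_pow h') <;> omega
  have hdvd : p ∣ Nat.card G := by rw [h, mul_assoc]; exact dvd_mul_right _ _
  have hR := reduced_of_simple hG hdvd
  obtain ⟨P⟩ := (inferInstance : Nonempty (Sylow p G))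
  have hP : Nat.card P = p := by
    show Nat.card (P : Subgroup G) = p
    rw [SmallGroups.card_sylow_eq P (k := 1) (m := 3 ^ a * 2 ^ b) (by rw [h]; ring) hm, pow_one]
  obtain ⟨n, hn⟩ : ∃ n, Nat.card (Sylow p G) = 1 + n * p := by
    have h1 := card_sylow_modEq_one p G
    have h2 : 1 ≤ Nat.card (Sylow p G) := Nat.card_pos
    obtain ⟨j, hj⟩ := (Nat.modEq_iff_dvd' h2).mp h1.symm
    exact ⟨j, by rw [mul_comm]; omega⟩
  obtain ⟨D, -, -⟩ := exists_setting hR P hP n hn
  have hC := Cfsg.Agent.S1001.result p a b hp.out h D.S.x D.S.order_x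
  have hCp : Nat.card (centralizer ({D.S.x} : Set G)) = p := by
    rw [hC, Nat.card_zpowers, D.S.order_x]
  have hV : D.S.V = ⊥ := by
    have h1 := card_centralizer_x D.S
    rw [hCp] at h1
    refine Subgroup.card_eq_one.mp (Nat.eq_of_mul_eq_mul_left hp.out.pos ?_)
    rw [mul_one]
    linarith
  have hG' := D.card_group
  rw [hV, Subgroup.card_bot, mul_one] at hG'
  exact ⟨D, exists_frame D hV, hG'.symm, hCp⟩

theorem exists_nonabelian (hG : ¬ IsMulCommutative G) : ∃ a b : G, a * b ≠ b * a := by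
  by_contra hh
  push Not at hh
  exact hG ⟨⟨hh⟩⟩

/-- A sum over characters with four possible degrees. -/
theorem sum_four {M : Type*} [AddCommMonoid M] (S : Finset (IrrCharacter G)) (a b c d : ℕ)
    (hab : a ≠ b) (hac : a ≠ c) (had : a ≠ d) (hbc : b ≠ c) (hbd : b ≠ d) (hcd : c ≠ d)
    (h : ∀ χ ∈ S, degOf χ ∈ ({a, b, c, d} : Finset ℕ)) (F : IrrCharacter G → M) :
    ∑ χ ∈ S, F χ = ∑ χ ∈ S.filter (fun χ => degOf χ = a), F χ + (∑ χ ∈ S.filter (fun χ => degOf χ = b), F χ +
      (∑ χ ∈ S.filter (fun χ => degOf χ = c), F χ + ∑ χ ∈ S.filter (fun χ => degOf χ = d), F χ)) := by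
  classical
  rw [← Finset.sum_fiberwise_of_maps_to h F, Finset.sum_insert (by simp [hab, hac, had]),
    Finset.sum_insert (by simp [hbc, hbd]), Finset.sum_insert (by simp [hcd]), Finset.sum_singleton]

/-- On four possible degrees the signed sum is a combination of the multiplicities. -/
theorem sum_four_const (S : Finset (IrrCharacter G)) (a b c d : ℕ)
    (hab : a ≠ b) (hac : a ≠ c) (had : a ≠ d) (hbc : b ≠ c) (hbd : b ≠ d) (hcd : c ≠ d)
    (h : ∀ χ ∈ S, degOf χ ∈ ({a, b, c, d} : Finset ℕ)) (g : ℕ → ℤ) :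
    ∑ χ ∈ S, g (degOf χ) = (S.filter (fun χ => degOf χ = a)).card * g a +
      ((S.filter (fun χ => degOf χ = b)).card * g b + ((S.filter (fun χ => degOf χ = c)).card * g c +
        (S.filter (fun χ => degOf χ = d)).card * g d)) := by
  classical
  rw [sum_four S a b c d hab hac had hbc hbd hcd h]
  refine congrArg₂ (· + ·) ?_ (congrArg₂ (· + ·) ?_ (congrArg₂ (· + ·) ?_ ?_)) <;>
    rw [Finset.sum_congr rfl fun χ hχ => by rw [(Finset.mem_filter.mp hχ).2], Finset.sum_const,
      nsmul_eq_mul]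

/-- The sum of the squares of the nontrivial degrees in a set. -/
theorem sum_sq_lt (S : Finset (IrrCharacter G)) (h1 : Chars.trivialIrr G ∉ S) :
    1 + ∑ χ ∈ S, (degOf χ : ℤ) * degOf χ ≤ Nat.card G := by
  classical
  have h2 : ∑ ψ : IrrCharacter G, degOf ψ * degOf ψ = Nat.card G := by
    apply Nat.cast_injective (R := ℂ)
    push_cast
    rw [← Chars.sum_degree_sq]
    exact Finset.sum_congr rfl fun ψ _ => by rw [apply_one_eq_degOf, sq]
  have h3 := Finset.sum_le_sum_of_subset (f := fun ψ : IrrCharacter G => degOf ψ * degOf ψ)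
    (Finset.subset_univ (insert (Chars.trivialIrr G) S))
  rw [h2, Finset.sum_insert h1, degOf_trivial] at h3
  exact_mod_cast h3

/-- A character value at an involution is congruent to the degree modulo two. -/
theorem exists_int_apply_parity (χ : IrrCharacter G) {t : G} (ht : orderOf t = 2) :
    ∃ k : ℤ, (χ : G → ℂ) t = ((2 * k - degOf χ : ℤ) : ℂ) := by
  haveI : Fact (Nat.Prime 2) := ⟨Nat.prime_two⟩
  obtain ⟨k, hk⟩ := Lib.SmallGroups.PrimeChar.exists_mult_nat ht χ (0 : ZMod 2)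
  refine ⟨k, ?_⟩
  have h : Lib.SmallGroups.PrimeChar.mult 2 t χ 0 = 2⁻¹ * ((degOf χ : ℂ) + (χ : G → ℂ) t) := by
    rw [Lib.SmallGroups.PrimeChar.mult, show (Finset.univ : Finset (ZMod 2)) = {0, 1} from rfl,
      Finset.sum_pair zero_ne_one]
    simp [Lib.SmallGroups.PrimeChar.xp_zero, xp_one, apply_one_eq_degOf]
  rw [h] at hk
  push_cast
  linear_combination 2 * hk

theorem false_2160_aux (hG : ¬ IsMulCommutative G) (h : Nat.card G = 2160) : False := by
  classical
  haveI : Fact (Nat.Prime 5) := ⟨by norm_num⟩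
  have hna := exists_nonabelian hG
  obtain ⟨D, ⟨K⟩, het, he2, hcard, hC5⟩ := exists_five_setting hG (a := 3) (b := 4) (by rw [h]; norm_num)
  have hR := reduced_of_simple hG (p := 5) (by rw [h]; norm_num)
  have he4 : D.e ≤ 4 := Nat.le_of_dvd (by norm_num) (Dvd.intro _ het)
  rw [h] at hcard
  have he : D.e = 2 := by interval_cases hh : D.e <;> omega
  have ht : D.t = 2 := by rw [he] at het; omega
  have hN : D.e * (1 + D.n * 5) = 432 := by omega
  set one := Chars.trivialIrr G with hone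
  have happ : ∀ χ ∈ D.A, (χ : G → ℂ) D.S.x = (D.δ χ : ℂ) := fun χ hχ => by
    rw [show D.S.x = xp 5 D.S.x 1 from xp_one.symm]
    exact D.applyA χ hχ 1 one_ne_zero
  have h1A : one ∈ D.A := by
    rcases Finset.mem_union.mp D.triv_mem with h1 | h1
    · exact h1
    · exfalso
      have h2 := Int.modEq_iff_dvd.mp (D.congrB _ h1)
      rw [he, degOf_trivial] at h2
      rcases D.ε_unit with hε | hε <;> rw [hε] at h2 <;> omega
  have hδ1 : D.δ one = 1 := by
    have h1 := happ one h1A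
    rw [hone, Chars.trivialIrr_apply] at h1
    exact_mod_cast h1.symm
  obtain ⟨χ, hχ⟩ : ∃ χ, D.A.erase one = {χ} := Finset.card_eq_one.mp (by
    rw [Finset.card_erase_of_mem h1A, D.cardA, he])
  have hχA : χ ∈ D.A ∧ χ ≠ one := by
    have h1 : χ ∈ D.A.erase one := hχ ▸ Finset.mem_singleton_self χ
    exact ⟨Finset.mem_of_mem_erase h1, Finset.ne_of_mem_erase h1⟩
  have hAsum : ∀ F : IrrCharacter G → ℂ, ∑ ψ ∈ D.A, F ψ = F one + F χ := fun F => by
    rw [← Finset.add_sum_erase _ _ h1A, hχ, Finset.sum_singleton]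
  set f := degOf χ with hf
  have hf1 : 1 < f := one_lt_degOf hR hχA.2
  have hfd : f ∈ Nat.divisors 432 :=
    Nat.mem_divisors.mpr ⟨hN ▸ D.dvdA χ hχA.1, by norm_num⟩
  have hfδ := Int.modEq_iff_dvd.mp (D.congrA χ hχA.1)
  have hθ : ∀ θ ∈ D.B, (D.ε : ℤ) * degOf θ = 1 + D.δ χ * f ∧ degOf θ ∣ 432 := by
    intro θ hθ
    refine ⟨?_, hN ▸ D.dvdB θ hθ⟩
    have h0 := D.rel θ hθ 1 (by norm_num)
    rw [hAsum, hδ1] at h0
    simp only [apply_one_eq_degOf, hone, degOf_trivial] at h0
    apply Int.cast_injective (α := ℂ)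
    push_cast at h0 ⊢
    linear_combination h0
  obtain ⟨θ, hθB⟩ : D.B.Nonempty := Finset.card_pos.mp (by rw [D.cardB, ht]; norm_num)
  have htable : ∀ f ∈ Nat.divisors 432, 1 < f →
      (f % 5 = 1 → ¬ (f + 1) ∣ 432) ∧ (f % 5 = 4 → (f - 1) ∣ 432 → f = 4 ∨ f = 9) := by
    decide +kernel
  obtain ⟨hδ, hcases, hd⟩ : D.δ χ = -1 ∧ (f = 4 ∨ f = 9) ∧ ∀ θ ∈ D.B, degOf θ = f - 1 := by
    obtain ⟨hb, hbd⟩ := hθ θ hθB
    obtain ⟨hp, hm⟩ := htable f hfd hf1
    rw [← hf] at hfδ
    rcases D.δ_unit χ hχA.1 with hδ | hδ <;> rw [hδ] at hb hfδ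
    · exfalso
      refine hp (by omega) ?_
      rcases D.ε_unit with hε | hε <;> rw [hε] at hb
      · rwa [show f + 1 = degOf θ by omega]
      · omega
    · have hε : D.ε = -1 := by
        rcases D.ε_unit with hε | hε
        · rw [hε] at hb; omega
        · exact hε
      refine ⟨hδ, hm (by omega) ?_, fun ψ hψ => ?_⟩
      · rw [hε] at hb
        rwa [show f - 1 = degOf θ by omega]
      · obtain ⟨hb', -⟩ := hθ ψ hψ
        rw [hε, hδ] at hb'
        omega
  have key : ∀ q k : ℕ, q.Prime → q ≠ 5 → (∃ j, f - 1 = q ^ j) → q ^ k ∣ 2160 →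
      ¬ ((q : ℤ) ^ k ∣ 1) → ¬ ((q : ℤ) ^ k ∣ 1 - f) → False := by
    intro q k hq hq5 hj hk n1 n2
    haveI := Fact.mk hq
    obtain ⟨j, hj⟩ := hj
    obtain ⟨M, hM⟩ := Glauberman.exists_isPModular hq
    haveI := Blocks.isPModular_isPrime hM
    have hnB : ∀ ψ ∈ D.B, ψ ∉ principalBlock M G := fun ψ hψ =>
      notMem_principal_of_pow hna hM (fun hh => Finset.disjoint_left.mp D.disj h1A (by
        rw [hone, ← hh]; exact hψ)) ((hd ψ hψ).trans hj)
    let z : ℤ := 1 + if χ ∈ principalBlock M G then -(f : ℤ) else 0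
    have hdvd : ((q ^ (Nat.card G).factorization q : ℕ) : ℤ) ∣ z := by
      refine principal_dvd hM (x := D.S.x) (by
        rw [D.S.order_x]
        exact fun hd => hq5 ((Nat.prime_dvd_prime_iff_eq hq (Fact.out : Nat.Prime 5)).mp hd))
        D.A (fun ψ hψM hψ => ?_) ?_
      · have hψB : ψ ∉ D.B := fun hh => hnB ψ hh hψM
        rw [show D.S.x = xp 5 D.S.x 1 from xp_one.symm,
          ← K.profile_eq ψ 1, D.profile_rest ψ hψ hψB 1 one_ne_zero]
      · rw [Finset.sum_filter, hAsum, if_pos trivial_mem_principal, hone, Chars.trivialIrr_apply,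
          degOf_trivial]
        by_cases hm : χ ∈ principalBlock M G
        · simp only [z, if_pos hm]
          rw [happ χ hχA.1, hδ]
          push_cast
          ring
        · simp only [z, if_neg hm]
          push_cast
          ring
    have hk' : (q : ℤ) ^ k ∣ z := by
      refine dvd_trans ?_ hdvd
      push_cast
      exact pow_dvd_pow _ ((hq.pow_dvd_iff_le_factorization Nat.card_pos.ne').mp (h ▸ hk))
    by_cases hm : χ ∈ principalBlock M G
    · simp only [z, if_pos hm] at hk'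
      exact n2 (by rwa [sub_eq_add_neg])
    · simp only [z, if_neg hm, add_zero] at hk'
      exact n1 hk'
  rcases hcases with h4 | h9
  · exact key 3 3 Nat.prime_three (by norm_num) ⟨1, by rw [h4]; norm_num⟩ (by norm_num) (by norm_num)
      (by rw [h4]; norm_num)
  · exact key 2 4 Nat.prime_two (by norm_num) ⟨3, by rw [h9]; norm_num⟩ (by norm_num) (by norm_num)
      (by rw [h9]; norm_num)

theorem false_1620_aux (hG : ¬ IsMulCommutative G) (h : Nat.card G = 1620) : False := by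
  classical
  haveI : Fact (Nat.Prime 5) := ⟨by norm_num⟩
  haveI : Fact (Nat.Prime 3) := ⟨Nat.prime_three⟩
  have hna := exists_nonabelian hG
  obtain ⟨D, ⟨K⟩, het, he2, hcard, hC5⟩ := exists_five_setting hG (a := 4) (b := 2) (by rw [h]; norm_num)
  have hR := reduced_of_simple hG (p := 5) (by rw [h]; norm_num)
  have he4 : D.e ≤ 4 := Nat.le_of_dvd (by norm_num) (Dvd.intro _ het)
  rw [h] at hcard
  have he : D.e = 4 := by interval_cases hh : D.e <;> omega
  have hN : D.e * (1 + D.n * 5) = 324 := by omega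
  obtain ⟨T, s, hT, h1T, hs1, hprops, hrest, hrel⟩ := exists_star D K (by rw [he] at het; omega)
  set one := Chars.trivialIrr G with hone
  set S := T.erase one with hS
  have hScard : S.card = 4 := by rw [hS, Finset.card_erase_of_mem h1T, hT, he]
  have htable : ∀ f ∈ Nat.divisors 324, 1 < f → f < 41 → (f % 5 = 1 ∨ f % 5 = 4) →
      f ∈ ({4, 6, 9, 36} : Finset ℕ) := by decide +kernel
  let sg : ℕ → ℤ := fun f => if f % 5 = 1 then f else -f
  have hdeg : ∀ χ ∈ S, degOf χ ∈ ({4, 6, 9, 36} : Finset ℕ) ∧ (s χ : ℤ) * degOf χ = sg (degOf χ) := by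
    intro χ hχ
    obtain ⟨hχ1, hχT⟩ := Finset.mem_erase.mp hχ
    obtain ⟨hu, -, hcg, hdv⟩ := hprops _ hχT
    have hf := one_lt_degOf hR hχ1
    have hsq := sq_degOf_lt hχ1
    rw [h] at hsq
    have h41 : degOf χ < 41 := by
      by_contra hcon
      have := Nat.mul_le_mul (not_lt.mp hcon) (not_lt.mp hcon)
      omega
    have hd5 := Int.modEq_iff_dvd.mp hcg
    refine ⟨htable _ (Nat.mem_divisors.mpr ⟨hN ▸ hdv, by norm_num⟩) hf h41 ?_, ?_⟩
    · rcases hu with hh | hh <;> rw [hh] at hd5 <;> omega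
    · rcases hu with hh | hh <;> rw [hh] at hd5 ⊢ <;> simp only [sg] <;> split_ifs <;> omega
  have hsum0 : 1 + ∑ χ ∈ S, sg (degOf χ) = 0 := by
    have h0 := hrel 1 (by norm_num)
    rw [← Finset.add_sum_erase _ _ h1T, hs1, ← hS] at h0
    rw [Finset.sum_congr rfl fun χ hχ => ((hdeg χ hχ).2).symm]
    apply Int.cast_injective (α := ℂ)
    simp only [apply_one_eq_degOf, degOf_trivial, hone] at h0
    push_cast at h0 ⊢
    linear_combination h0
  have hsq := sum_sq_lt S (by rw [hS]; exact Finset.notMem_erase _ _)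
  rw [h] at hsq
  have hmem : ∀ χ ∈ S, degOf χ ∈ ({4, 6, 9, 36} : Finset ℕ) := fun χ hχ => (hdeg χ hχ).1
  rw [sum_four_const S 4 6 9 36 (by norm_num) (by norm_num) (by norm_num) (by norm_num) (by norm_num)
    (by norm_num) hmem sg] at hsum0
  rw [sum_four_const S 4 6 9 36 (by norm_num) (by norm_num) (by norm_num) (by norm_num) (by norm_num)
    (by norm_num) hmem (fun f => (f : ℤ) * f)] at hsq
  have hcnt := sum_four_const S 4 6 9 36 (by norm_num) (by norm_num) (by norm_num) (by norm_num) (by norm_num)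
    (by norm_num) hmem (fun _ => 1)
  rw [Finset.sum_const, hScard] at hcnt
  simp only [sg] at hsum0
  norm_num at hsum0 hsq hcnt
  obtain ⟨M, hM⟩ := Glauberman.exists_isPModular Nat.prime_three
  haveI := Blocks.isPModular_isPrime hM
  set B := S.filter (· ∈ principalBlock M G) with hB
  have hdvd : ((3 ^ (Nat.card G).factorization 3 : ℕ) : ℤ) ∣ 1 + ∑ χ ∈ B, sg (degOf χ) := by
    refine principal_dvd hM (x := D.S.x) (by rw [D.S.order_x]; norm_num) T (fun ψ _ hψ => hrest ψ hψ) ?_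
    rw [Finset.sum_filter, ← Finset.add_sum_erase _ _ h1T, if_pos trivial_mem_principal, ← hS,
      ← Finset.sum_filter, ← hB, hone, Chars.trivialIrr_apply, degOf_trivial]
    push_cast
    rw [one_mul]
    congr 1
    refine Finset.sum_congr rfl fun χ hχ => ?_
    have hχS := (Finset.mem_filter.mp hχ).1
    rw [← (hdeg χ hχS).2, (hprops _ (Finset.mem_of_mem_erase hχS)).2.1]
    push_cast
    ring
  have h9 : B.filter (fun χ => degOf χ = 9) = ∅ := Finset.filter_eq_empty_iff.mpr fun χ hχ hd =>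
    notMem_principal_of_pow hna hM (Finset.ne_of_mem_erase (Finset.mem_filter.mp hχ).1)
      (k := 2) (by rw [hd]; norm_num) (Finset.mem_filter.mp hχ).2
  have hle : ∀ d, (B.filter (fun χ => degOf χ = d)).card ≤ (S.filter (fun χ => degOf χ = d)).card :=
    fun d => Finset.card_le_card (Finset.filter_subset_filter _ (Finset.filter_subset _ _))
  rw [sum_four_const B 4 6 9 36 (by norm_num) (by norm_num) (by norm_num) (by norm_num) (by norm_num)
    (by norm_num) (fun χ hχ => hmem χ (Finset.mem_filter.mp hχ).1) sg, h9] at hdvd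
  simp only [sg, Finset.card_empty] at hdvd
  have h81 : (81 : ℤ) ∣ ((3 ^ (Nat.card G).factorization 3 : ℕ) : ℤ) := by
    push_cast
    rw [show (81 : ℤ) = 3 ^ 4 by norm_num]
    exact pow_dvd_pow _ ((Nat.prime_three.pow_dvd_iff_le_factorization Nat.card_pos.ne').mp
      (by rw [h]; norm_num))
  have hdvd81 := h81.trans hdvd
  norm_num at hdvd81
  have := hle 4
  have := hle 6
  have := hle 36
  omega

/-- An involution inverting `x` gives pairs of conjugate involutions with product conjugate to `x`. -/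
theorem pairs_sum_ne_zero {x t : G}
    {v₀ : G} (hv₀ : IsConj (t * (v₀ * t * v₀⁻¹)) x) :
    (Nat.card G : ℂ) * ∑ χ : IrrCharacter G,
      (χ : G → ℂ) t ^ 2 * conj ((χ : G → ℂ) x) / (χ : G → ℂ) 1 ≠ 0 := by
  classical
  have hterm : ∀ χ : IrrCharacter G, (Nat.card G : ℂ) *
      ((χ : G → ℂ) t ^ 2 * conj ((χ : G → ℂ) x) / (χ : G → ℂ) 1) =
      ∑ v : G, (χ : G → ℂ) (t * (v * t * v⁻¹)) * conj ((χ : G → ℂ) x) := fun χ => by
    rw [← Finset.sum_mul, Blocks.sum_irr_mul_conj]
    ring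
  rw [Finset.mul_sum, Finset.sum_congr rfl fun χ _ => hterm χ, Finset.sum_comm,
    Finset.sum_congr rfl fun v _ => by rw [column_sum], ← Nat.cast_sum, Nat.cast_ne_zero]
  intro h0
  rw [Finset.sum_eq_zero_iff] at h0
  have h1 := Finset.card_eq_zero.mp (h0 v₀ (Finset.mem_univ _))
  obtain ⟨d, hd⟩ := isConj_iff.mp hv₀
  exact Finset.notMem_empty d (h1 ▸ Finset.mem_filter.mpr ⟨Finset.mem_univ _, hd⟩)

set_option maxHeartbeats 1000000 in
theorem false_1512_aux (hG : ¬ IsMulCommutative G) (h : Nat.card G = 1512) : False := by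
  classical
  haveI : Fact (Nat.Prime 7) := ⟨by norm_num⟩
  haveI : Fact (Nat.Prime 3) := ⟨Nat.prime_three⟩
  haveI : Fact (Nat.Prime 2) := ⟨Nat.prime_two⟩
  have hna := exists_nonabelian hG
  obtain ⟨D, ⟨K⟩, hcard, hC7⟩ := exists_setting_two_three hG (p := 7) (a := 3) (b := 3) (by norm_num)
    (by rw [h]; norm_num)
  have hR := reduced_of_simple hG (p := 7) (by rw [h]; norm_num)
  have het := D.het
  have he2 := D.two_le_e
  have he6 : D.e ≤ 6 := Nat.le_of_dvd (by norm_num) (Dvd.intro _ het)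
  rw [h] at hcard
  have he : D.e = 6 := by interval_cases hh : D.e <;> omega
  have hN : D.e * (1 + D.n * 7) = 216 := by omega
  obtain ⟨T, s, hT, h1T, hs1, hprops, hrest, hrel⟩ := exists_star D K (by rw [he] at het; omega)
  set one := Chars.trivialIrr G with hone
  set S := T.erase one with hS
  have hScard : S.card = 6 := by rw [hS, Finset.card_erase_of_mem h1T, hT, he]
  have htable : ∀ f ∈ Nat.divisors 216, 1 < f → f < 39 → (f % 7 = 1 ∨ f % 7 = 6) →
      f ∈ ({6, 8, 27, 36} : Finset ℕ) := by decide +kernel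
  let sg : ℕ → ℤ := fun f => if f % 7 = 1 then f else -f
  have hdeg : ∀ χ ∈ S, degOf χ ∈ ({6, 8, 27, 36} : Finset ℕ) ∧ (s χ : ℤ) * degOf χ = sg (degOf χ) := by
    intro χ hχ
    obtain ⟨hχ1, hχT⟩ := Finset.mem_erase.mp hχ
    obtain ⟨hu, -, hcg, hdv⟩ := hprops _ hχT
    have hf := one_lt_degOf hR hχ1
    have hsq := sq_degOf_lt hχ1
    rw [h] at hsq
    have h39 : degOf χ < 39 := by
      by_contra hcon
      have := Nat.mul_le_mul (not_lt.mp hcon) (not_lt.mp hcon)
      omega
    have hd7 := Int.modEq_iff_dvd.mp hcg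
    refine ⟨htable _ (Nat.mem_divisors.mpr ⟨hN ▸ hdv, by norm_num⟩) hf h39 ?_, ?_⟩
    · rcases hu with hh | hh <;> rw [hh] at hd7 <;> omega
    · rcases hu with hh | hh <;> rw [hh] at hd7 ⊢ <;> simp only [sg] <;> split_ifs <;> omega
  have hsum0 : 1 + ∑ χ ∈ S, sg (degOf χ) = 0 := by
    have h0 := hrel 1 (by norm_num)
    rw [← Finset.add_sum_erase _ _ h1T, hs1, ← hS] at h0
    rw [Finset.sum_congr rfl fun χ hχ => ((hdeg χ hχ).2).symm]
    apply Int.cast_injective (α := ℂ)
    simp only [apply_one_eq_degOf, degOf_trivial, hone] at h0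
    push_cast at h0 ⊢
    linear_combination h0
  have hsq := sum_sq_lt S (by rw [hS]; exact Finset.notMem_erase _ _)
  rw [h] at hsq
  have hmem : ∀ χ ∈ S, degOf χ ∈ ({6, 8, 27, 36} : Finset ℕ) := fun χ hχ => (hdeg χ hχ).1
  rw [sum_four_const S 6 8 27 36 (by norm_num) (by norm_num) (by norm_num) (by norm_num) (by norm_num)
    (by norm_num) hmem sg] at hsum0
  rw [sum_four_const S 6 8 27 36 (by norm_num) (by norm_num) (by norm_num) (by norm_num) (by norm_num)
    (by norm_num) hmem (fun f => (f : ℤ) * f)] at hsq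
  have hcnt := sum_four_const S 6 8 27 36 (by norm_num) (by norm_num) (by norm_num) (by norm_num) (by norm_num)
    (by norm_num) hmem (fun _ => 1)
  rw [Finset.sum_const, hScard] at hcnt
  simp only [sg] at hsum0
  norm_num at hsum0 hsq hcnt
  have h6c : (S.filter (fun χ => degOf χ = 6)).card = 1 := by omega
  have h27c : (S.filter (fun χ => degOf χ = 27)).card = 1 := by omega
  have h36c : (S.filter (fun χ => degOf χ = 36)).card = 0 := by omega
  obtain ⟨χ6, h6⟩ := Finset.card_eq_one.mp h6c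
  obtain ⟨χ27, h27⟩ := Finset.card_eq_one.mp h27c
  rw [Finset.card_eq_zero] at h36c
  have hm6 : χ6 ∈ S ∧ degOf χ6 = 6 := Finset.mem_filter.mp (h6 ▸ Finset.mem_singleton_self χ6)
  have hm27 : χ27 ∈ S ∧ degOf χ27 = 27 := Finset.mem_filter.mp (h27 ▸ Finset.mem_singleton_self χ27)
  -- an involution inverting `x` and centralizing an element of order three
  set x := D.S.x with hx
  have hox : orderOf x = 7 := D.S.order_x
  set P := zpowers x with hP
  have hPc : Nat.card P = 7 := by rw [hP, Nat.card_zpowers, hox]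
  have hCx : centralizer ({x} : Set G) = P :=
    Cfsg.Agent.S1001.result 7 3 3 (by norm_num) (by rw [h]; norm_num) x hox
  obtain ⟨P₀, hP₀⟩ := (IsPGroup.of_card (p := 7) (n := 1) (G := P) (by rw [hPc, pow_one])).exists_le_sylow
  have hP₀c : Nat.card (P₀ : Subgroup G) = 7 :=
    (SmallGroups.card_sylow_eq P₀ (k := 1) (m := 216) (by rw [h]; norm_num) (by norm_num)).trans (pow_one 7)
  have hPP : P = (P₀ : Subgroup G) := Subgroup.eq_of_le_of_card_ge hP₀ (by rw [hP₀c, hPc])
  set N := normalizer (P : Set G) with hNdef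
  have hNc : Nat.card N = 42 := by
    have h1 := SmallGroups.card_normalizer_sylow_mul P₀
    rw [D.card_sylow, ← hPP, ← hNdef, h] at h1
    have h2 : 1 + D.n * 7 = 36 := by rw [he] at hN; omega
    rw [h2] at h1
    omega
  have hconjP : ∀ g ∈ N, ∀ y ∈ P, g * y * g⁻¹ ∈ P := fun g hg y hy => (mem_normalizer_iff.mp hg y).mp hy
  have hcommP : ∀ y ∈ P, ∀ z ∈ P, y * z = z * y := fun y hy z hz => by
    obtain ⟨i, rfl⟩ := mem_zpowers_iff.mp hy
    obtain ⟨j, rfl⟩ := mem_zpowers_iff.mp hz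
    rw [← zpow_add, ← zpow_add, add_comm]
  have hP7 : ∀ y ∈ P, y ^ 7 = 1 := fun y hy => by
    have := pow_card_eq_one' (x := (⟨y, hy⟩ : P))
    rw [hPc] at this
    exact congrArg Subtype.val this
  obtain ⟨u₀, hu₀⟩ := exists_prime_orderOf_dvd_card' (G := N) 2 (by rw [hNc]; norm_num)
  rw [← Subgroup.orderOf_coe] at hu₀
  set u : G := (u₀ : G) with hu
  have huu : u * u = 1 := by rw [← sq, ← hu₀]; exact pow_orderOf_eq_one u
  have huinv : u⁻¹ = u := inv_eq_of_mul_eq_one_right huu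
  have hinv : ∀ y ∈ P, u * y * u = y⁻¹ := by
    intro y hy
    have hy' : u * y * u ∈ P := by simpa [huinv] using hconjP u u₀.2 y hy
    set z := y * (u * y * u) with hz
    by_contra hne
    have hz1 : z ≠ 1 := fun hz1 => hne (eq_inv_of_mul_eq_one_right hz1)
    have hzP : z ∈ P := mul_mem hy hy'
    have huz : u * z = z * u := by
      calc u * z = u * y * u * y * u := by rw [hz]; group
        _ = y * (u * y * u) * u := by rw [hcommP _ hy' _ hy]
        _ = z * u := by rw [hz]
    have hoz : orderOf z = 7 := orderOf_eq_prime (hP7 z hzP) hz1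
    have hCz := Cfsg.Agent.S1001.result 7 3 3 (by norm_num) (by rw [h]; norm_num) z hoz
    have h2 : u ∈ zpowers z := hCz ▸ mem_centralizer_singleton_iff.mpr huz
    have h3 := orderOf_dvd_natCard (zpowers z) h2
    rw [hu₀, Nat.card_zpowers, hoz] at h3
    norm_num at h3
  obtain ⟨r₀, hr₀⟩ := exists_prime_orderOf_dvd_card' (G := N) 3 (by rw [hNc]; norm_num)
  set r : G := (r₀ : G) with hr
  set c := u * r * u * r⁻¹ with hc
  have hcP : c ∈ P := by
    rw [← hCx, mem_centralizer_singleton_iff]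
    have hxP : x ∈ P := mem_zpowers x
    have h1 : r⁻¹ * x * r ∈ P := by simpa using hconjP r⁻¹ (inv_mem r₀.2) x hxP
    have h2 := hinv _ h1
    have h3 := hinv x hxP
    have huu' : ∀ z : G, u * (u * z) = z := fun z => by rw [← mul_assoc, huu, one_mul]
    calc c * x = u * r * (u * (r⁻¹ * x * r) * u) * u * r⁻¹ := by
          simp [hc, mul_assoc, huu']
      _ = u * (x⁻¹) * u * (u * r * u * r⁻¹) := by
          rw [h2]; simp [mul_assoc, huu']
      _ = x * c := by rw [hinv _ (inv_mem hxP), inv_inv, hc]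
  set r' := c ^ 4 * r with hr'
  have hr'C : r' ∈ centralizer ({u} : Set G) := by
    have h1 : u * c ^ 4 * u = (c ^ 4)⁻¹ := hinv _ (pow_mem hcP 4)
    rw [mem_centralizer_singleton_iff, hr']
    have h7 : (c ^ 4)⁻¹ * c = c ^ 4 := by
      calc (c ^ 4)⁻¹ * c = (c ^ 4)⁻¹ * c * c ^ 7 := by rw [hP7 c hcP, mul_one]
        _ = c ^ 4 := by group
    have h2 : u * (c ^ 4 * r) * u = c ^ 4 * r := by
      calc u * (c ^ 4 * r) * u = u * c ^ 4 * (u * u) * r * u := by rw [huu, mul_one]; group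
        _ = (u * c ^ 4 * u) * (u * r * u * r⁻¹) * r := by group
        _ = c ^ 4 * r := by rw [h1, ← hc, h7]
    calc c ^ 4 * r * u = u * (c ^ 4 * r) * (u * u) := by
          conv_lhs => rw [← h2]
          group
      _ = u * (c ^ 4 * r) := by rw [huu, mul_one]
  have hC3 : 3 ∣ Nat.card (centralizer ({u} : Set G)) := by
    refine dvd_trans ?_ (orderOf_dvd_natCard _ hr'C)
    by_contra h3
    have hN' : r' ∈ N := mul_mem (le_normalizer (pow_mem hcP 4)) r₀.2
    have h42 : orderOf r' ∣ 42 := hNc ▸ orderOf_dvd_natCard _ hN'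
    have h14 : orderOf r' ∣ 14 := by
      refine (Nat.Coprime.dvd_of_dvd_mul_right ?_ (show orderOf r' ∣ 14 * 3 from h42))
      exact ((Nat.prime_three.coprime_iff_not_dvd).mpr h3).symm
    haveI : (P.subgroupOf N).Normal := inferInstance
    have h1 : QuotientGroup.mk' (P.subgroupOf N) ⟨r', hN'⟩ = QuotientGroup.mk' (P.subgroupOf N) r₀ := by
      rw [show (⟨r', hN'⟩ : N) = ⟨c ^ 4, le_normalizer (pow_mem hcP 4)⟩ * r₀ from Subtype.ext rfl, map_mul,
        show QuotientGroup.mk' (P.subgroupOf N) ⟨c ^ 4, le_normalizer (pow_mem hcP 4)⟩ = 1 from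
          (QuotientGroup.eq_one_iff _).mpr (mem_subgroupOf.mpr (pow_mem hcP 4)), one_mul]
    have h2 : QuotientGroup.mk' (P.subgroupOf N) (r₀ ^ 14) = 1 := by
      rw [map_pow, ← h1, ← map_pow,
        show (⟨r', hN'⟩ : N) ^ 14 = 1 from Subtype.ext (orderOf_dvd_iff_pow_eq_one.mp h14), map_one]
    have h4 : (r₀ ^ 14 : N) ∈ P.subgroupOf N := (QuotientGroup.eq_one_iff _).mp h2
    have h5 := hP7 _ (mem_subgroupOf.mp h4)
    have h6 : orderOf r₀ ∣ 98 := orderOf_dvd_of_pow_eq_one (Subtype.ext (by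
      simpa [← pow_mul] using h5))
    rw [hr₀] at h6
    norm_num at h6
  have hC7' : ¬ 7 ∣ Nat.card (centralizer ({u} : Set G)) := by
    intro hd
    obtain ⟨y, hy⟩ := exists_prime_orderOf_dvd_card' 7 hd
    rw [← Subgroup.orderOf_coe] at hy
    have hCy := Cfsg.Agent.S1001.result 7 3 3 (by norm_num) (by rw [h]; norm_num) (y : G) hy
    have h2 : u ∈ zpowers (y : G) :=
      hCy ▸ mem_centralizer_singleton_iff.mpr (mem_centralizer_singleton_iff.mp y.2).symm
    have h3 := orderOf_dvd_natCard (zpowers (y : G)) h2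
    rw [hu₀, Nat.card_zpowers, hy] at h3
    norm_num at h3
  -- values at `u`
  have h8 : ∀ χ ∈ S.filter (fun χ => degOf χ = 8), (χ : G → ℂ) u = 0 := by
    intro χ hχ
    obtain ⟨m, ρ, hρ, hρχ⟩ := Chars.irr_exists_rep χ
    rw [← hρχ]
    haveI := hρ
    refine Chars.char_eq_zero_of_defect_zero ρ Nat.prime_two (n := 3) (by rw [h]; norm_num)
      (by rw [h]; norm_num) ?_ u (by rw [hu₀])
    have h1 : ρ.character 1 = (χ : G → ℂ) 1 := by rw [hρχ]
    rw [Representation.char_one, apply_one_eq_degOf, (Finset.mem_filter.mp hχ).2] at h1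
    rw [show Module.finrank ℂ (Fin m → ℂ) = 8 by exact_mod_cast h1]
    norm_num
  obtain ⟨k6, hk6⟩ := exists_int_apply_parity χ6 hu₀
  rw [hm6.2] at hk6
  set a : ℤ := 2 * k6 - (6 : ℕ) with ha
  obtain ⟨b, hb⟩ := Lib.SmallGroups.PrimeChar.exists_int_apply_involution χ27 hu₀
  have hs6 : s χ6 = -1 := by
    have := (hdeg _ hm6.1).2; rw [hm6.2] at this; simp only [sg] at this; norm_num at this; omega
  have hs27 : s χ27 = -1 := by
    have := (hdeg _ hm27.1).2; rw [hm27.2] at this; simp only [sg] at this; norm_num at this; omega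
  have hsplit : ∀ F : IrrCharacter G → ℂ, (∀ χ ∈ S.filter (fun χ => degOf χ = 8), F χ = 0) →
      ∑ ψ ∈ T, F ψ = F one + (F χ6 + F χ27) := by
    intro F hF
    rw [← Finset.add_sum_erase _ _ h1T, ← hS, sum_four S 6 8 27 36 (by norm_num) (by norm_num)
      (by norm_num) (by norm_num) (by norm_num) (by norm_num) hmem F, Finset.sum_eq_zero hF, h6, h27,
      h36c, Finset.sum_singleton, Finset.sum_singleton, Finset.sum_empty, zero_add, add_zero]
  have hb1 : b = 1 - a := by
    have h0 := hrel u (by rw [hu₀]; norm_num)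
    rw [hsplit _ (fun χ hχ => by rw [h8 χ hχ, mul_zero]), hs1, hs6, hs27, hk6, hb, hone,
      Chars.trivialIrr_apply] at h0
    apply Int.cast_injective (α := ℂ)
    push_cast at h0 ⊢
    linear_combination -h0
  obtain ⟨k, hk⟩ := pairs_dvd hox hC7 huu hC7'
  have hv : u * (x ^ 3 * u * (x ^ 3)⁻¹) = x := by
    have h1 : u * x ^ 3 * u = (x ^ 3)⁻¹ := hinv _ (pow_mem (mem_zpowers x) 3)
    calc u * (x ^ 3 * u * (x ^ 3)⁻¹) = u * x ^ 3 * u * (x ^ 3)⁻¹ := by group
      _ = (x ^ 3)⁻¹ * (x ^ 3)⁻¹ * x ^ 7 := by rw [h1, hP7 x (mem_zpowers x), mul_one]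
      _ = x := by group
  have hk0 : k ≠ 0 := by
    intro hk0
    refine pairs_sum_ne_zero (x := x) (t := u) (v₀ := x ^ 3) (by rw [hv]) ?_
    rw [hk, hk0, mul_zero, Nat.cast_zero]
  rw [← Finset.sum_subset (Finset.subset_univ T) (fun ψ _ hψ => by
    rw [hrest ψ hψ, map_zero, mul_zero, zero_div]),
    hsplit _ (fun χ hχ => by rw [h8 χ hχ, zero_pow two_ne_zero, zero_mul, zero_div]), h] at hk
  simp only [hone, Chars.trivialIrr_apply, (hprops _ (Finset.mem_of_mem_erase hm6.1)).2.1,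
    (hprops _ (Finset.mem_of_mem_erase hm27.1)).2.1, hs6, hs27, apply_one_eq_degOf, hm6.2, hm27.2,
    hk6, hb, map_intCast, map_one] at hk
  set C := Nat.card (centralizer ({u} : Set G))
  have hZ : (1512 : ℤ) - 252 * (a * a) - 56 * (b * b) = 7 * (C * C) * k := by
    apply Int.cast_injective (α := ℂ)
    push_cast at hk ⊢
    linear_combination hk
  obtain ⟨C', hC'⟩ := hC3
  have hpos : (0 : ℤ) < 7 * (C * C) * k := by
    have : (0 : ℤ) < C := by exact_mod_cast (Nat.card_pos : 0 < C)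
    have : (0 : ℤ) < k := by exact_mod_cast Nat.pos_of_ne_zero hk0
    positivity
  have ha6 : a * a ≤ 5 := by
    have := mul_self_nonneg b
    omega
  have ha2 : -3 < a ∧ a < 3 := by
    constructor <;> by_contra hlt <;> push Not at hlt
    · have := mul_le_mul (show (3 : ℤ) ≤ -a by omega) (show (3 : ℤ) ≤ -a by omega) (by norm_num) (by omega)
      rw [neg_mul_neg] at this
      omega
    · have := mul_le_mul hlt hlt (by norm_num) (by omega)
      omega
  have h9 : (9 : ℤ) ∣ 1512 - 252 * (a * a) - 56 * (b * b) := ⟨7 * (C' * C') * k, by rw [hZ, hC']; push_cast; ring⟩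
  rw [hb1] at hZ h9
  obtain ⟨m, hm⟩ := h9
  push_cast at ha
  have : a = -2 ∨ a = 0 ∨ a = 2 := by omega
  rcases this with e | e | e <;> rw [e] at hm hZ <;> omega

end Cfsg.Agent.Lib.SmallSimple1
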