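/-
No simple group has order in the list of survivors of the filter between 1200 and 2160.
-/
import Mathlib
import Cfsg.Agent.Lib.SmallGroups.Below6232.Single
import Cfsg.Agent.Lib.SmallGroups.Below6232.Orders
import Cfsg.Agent.Lib.SmallGroups.Below1092.Small
import Cfsg.Agent.S1015
import Cfsg.Agent.Lib.SmallSimple1.RangeABlocks

set_option autoImplicit false
set_option linter.style.haveILetI false

namespace Cfsg.Agent.Lib.SmallSimple1

open Subgroup MulAction
open Cfsg.Agent.Lib
open Cfsg.Agent.Lib.SmallGroups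
open Cfsg.Agent.Lib.SmallGroups.Below6232
open Cfsg.Agent.Lib.SmallGroups.Below1092 (okNum okNum_mem)

universe u

variable {G : Type u} [Group G] [Finite G] [IsSimpleGroup G]

theorem false_1200 (_hG : ¬ IsMulCommutative G) (h : Nat.card G = 1200) : False :=
  Cfsg.Agent.S1015.result h

theorem false_1224 (hG : ¬ IsMulCommutative G) (h : Nat.card G = 1224) : False := by
  refine false_of_cube hG (p := 17) (by norm_num) ?_ ?_ ?_ ?_ <;> rw [h] <;> norm_num

theorem false_1232 (hG : ¬ IsMulCommutative G) (h : Nat.card G = 1232) : False := by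
  refine false_of_cube hG (p := 11) (by norm_num) ?_ ?_ ?_ ?_ <;> rw [h] <;> norm_num

theorem false_1344 (hG : ¬ IsMulCommutative G) (h : Nat.card G = 1344) : False := by
  refine false_of_simple_order hG 7 2 6 3 (by norm_num) Nat.prime_two (by norm_num) ?_ (by norm_num) ?_ ?_ <;>
    rw [h] <;> norm_num

theorem false_1404 (hG : ¬ IsMulCommutative G) (h : Nat.card G = 1404) : False := by
  refine false_of_cube hG (p := 13) (by norm_num) ?_ ?_ ?_ ?_ <;> rw [h] <;> norm_num

theorem false_1560 (hG : ¬ IsMulCommutative G) (h : Nat.card G = 1560) : False := by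
  refine false_of_cube hG (p := 13) (by norm_num) ?_ ?_ ?_ ?_ <;> rw [h] <;> norm_num

theorem false_1716 (hG : ¬ IsMulCommutative G) (h : Nat.card G = 1716) : False := by
  haveI : Fact (Nat.Prime 13) := ⟨by norm_num⟩
  haveI : Fact (Nat.Prime 11) := ⟨by norm_num⟩
  haveI : Fact (Nat.Prime 3) := ⟨Nat.prime_three⟩
  obtain ⟨P⟩ := (inferInstance : Nonempty (Sylow 13 G))
  obtain ⟨Q⟩ := (inferInstance : Nonempty (Sylow 11 G))
  obtain ⟨R⟩ := (inferInstance : Nonempty (Sylow 3 G))
  obtain ⟨hP, t, ht, hnP, -, -⟩ := exists_choice hG h (m := 132) (by norm_num) (by norm_num) P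
  obtain ⟨hQ, s, hs, hnQ, -, -⟩ := exists_choice hG h (m := 156) (by norm_num) (by norm_num) Q
  obtain ⟨hR, r, hr, hnR, -, -⟩ := exists_choice hG h (m := 572) (by norm_num) (by norm_num) R
  rw [show choices 1716 13 = [(66, 2, 13)] from by decide +kernel] at ht
  rw [show choices 1716 11 = [(78, 2, 11)] from by decide +kernel] at hs
  rw [show choices 1716 3 = [(286, 2, 3)] from by decide +kernel] at hr
  simp only [List.mem_cons, List.not_mem_nil, or_false] at ht hs hr
  subst ht hs hr
  have hc := counting (p := 13) (q := 11) (r := 3) (by norm_num) (by norm_num) (by norm_num) P hP Q hQ R hR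
  rw [hnP, hnQ, hnR, h] at hc
  norm_num at hc

theorem false_1920 (hG : ¬ IsMulCommutative G) (h : Nat.card G = 1920) : False := by
  refine false_of_simple_order hG 5 2 7 3 (by norm_num) Nat.prime_two (by norm_num) ?_ (by norm_num) ?_ ?_ <;>
    rw [h] <;> norm_num

theorem false_2080 (hG : ¬ IsMulCommutative G) (h : Nat.card G = 2080) : False := by
  refine false_of_cube hG (p := 13) (by norm_num) ?_ ?_ ?_ ?_ <;> rw [h] <;> norm_num

theorem false_1575 (hG : ¬ IsMulCommutative G) (h : Nat.card G = 1575) : False := by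
  haveI : Fact (Nat.Prime 5) := ⟨by norm_num⟩
  have hn := okNum_mem hG (q := 5) (a := 2) (m := 63) h (by norm_num) (by norm_num) two_ne_zero
  rw [show (Nat.divisors 63).filter (fun d => d % 5 = 1 ∧ okNum 1575 5 2 d = true) = {21} from by
    decide +kernel, Finset.mem_singleton] at hn
  exact Cfsg.Agent.S1010.result hn

theorem false_2100 (hG : ¬ IsMulCommutative G) (h : Nat.card G = 2100) : False := by
  haveI : Fact (Nat.Prime 5) := ⟨by norm_num⟩
  have hn := okNum_mem hG (q := 5) (a := 2) (m := 84) h (by norm_num) (by norm_num) two_ne_zero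
  rw [show (Nat.divisors 84).filter (fun d => d % 5 = 1 ∧ okNum 2100 5 2 d = true) = {21} from by
    decide +kernel, Finset.mem_singleton] at hn
  exact Cfsg.Agent.S1010.result hn

theorem false_1400 (hG : ¬ IsMulCommutative G) (h : Nat.card G = 1400) : False := by
  haveI : Fact (Nat.Prime 5) := ⟨by norm_num⟩
  have hn := okNum_mem hG (q := 5) (a := 2) (m := 56) h (by norm_num) (by norm_num) two_ne_zero
  rw [show (Nat.divisors 56).filter (fun d => d % 5 = 1 ∧ okNum 1400 5 2 d = true) = {56} from by
    decide +kernel, Finset.mem_singleton] at hn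
  obtain ⟨P⟩ := (inferInstance : Nonempty (Sylow 5 G))
  have hP : Nat.card (P : Subgroup G) = 5 ^ 2 :=
    card_sylow_eq P (k := 2) (m := 56) (by rw [h]; norm_num) (by norm_num)
  have hmul := card_normalizer_sylow_mul P
  rw [h, hn] at hmul
  exact false_of_self hG (by rw [h]; norm_num) P hP
    (show Nat.card (normalizer ((P : Subgroup G) : Set G)) = _ by omega)

theorem false_1764 (hG : ¬ IsMulCommutative G) (h : Nat.card G = 1764) : False := by
  haveI : Fact (Nat.Prime 7) := ⟨by norm_num⟩
  have hn := okNum_mem hG (q := 7) (a := 2) (m := 36) h (by norm_num) (by norm_num) two_ne_zero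
  rw [show (Nat.divisors 36).filter (fun d => d % 7 = 1 ∧ okNum 1764 7 2 d = true) = {36} from by
    decide +kernel, Finset.mem_singleton] at hn
  obtain ⟨P⟩ := (inferInstance : Nonempty (Sylow 7 G))
  have hP : Nat.card (P : Subgroup G) = 7 ^ 2 :=
    card_sylow_eq P (k := 2) (m := 36) (by rw [h]; norm_num) (by norm_num)
  have hmul := card_normalizer_sylow_mul P
  rw [h, hn] at hmul
  exact false_of_self hG (by rw [h]; norm_num) P hP
    (show Nat.card (normalizer ((P : Subgroup G) : Set G)) = _ by omega)

theorem false_1800 (hG : ¬ IsMulCommutative G) (h : Nat.card G = 1800) : False := by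
  haveI : Fact (Nat.Prime 5) := ⟨by norm_num⟩
  have hP : ∀ Q : Sylow 5 G, Nat.card (Q : Subgroup G) = 5 ^ 2 := fun Q =>
    card_sylow_eq Q (k := 2) (m := 72) (by rw [h]; norm_num) (by norm_num)
  have hn := okNum_mem hG (q := 5) (a := 2) (m := 72) h (by norm_num) (by norm_num) two_ne_zero
  rw [show (Nat.divisors 72).filter (fun d => d % 5 = 1 ∧ okNum 1800 5 2 d = true) = {36} from by
    decide +kernel, Finset.mem_singleton] at hn
  obtain ⟨P, R, D, hne, hD, -, hD1⟩ := exists_meet hP (by rw [hn]; decide)
  have hDP : D ≤ (P : Subgroup G) := hD ▸ inf_le_left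
  have hmul := card_normalizer_sylow_mul P
  rw [h, hn] at hmul
  have hN : Nat.card (normalizer ((P : Subgroup G) : Set G)) = 50 := by omega
  obtain ⟨t, ht, -, -, hj⟩ := exists_localOrder hG h (m := 72) (by norm_num) (by norm_num) P R hne
    hDP (hD ▸ inf_le_right) hD1
  rw [hN, show localOrders 1800 5 50 = [(150, 6, 25)] from by decide +kernel] at ht
  simp only [List.mem_cons, List.not_mem_nil, or_false] at ht
  subst ht
  rw [inf_eq_left.mpr (normalizer_le_of_two hG P (hP P) (by rw [hN]; norm_num) hDP), hN] at hj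
  norm_num at hj

theorem false_1260 (hG : ¬ IsMulCommutative G) (h : Nat.card G = 1260) : False := by
  haveI : Fact (Nat.Prime 7) := ⟨by norm_num⟩
  haveI : Fact (Nat.Prime 2) := ⟨Nat.prime_two⟩
  obtain ⟨P⟩ := (inferInstance : Nonempty (Sylow 7 G))
  obtain ⟨hP, t, ht, hn, hC, -⟩ := exists_choice hG h (m := 180) (by norm_num) (by norm_num) P
  rw [show choices 1260 7 = [(15, 6, 14)] from by decide +kernel] at ht
  simp only [List.mem_cons, List.not_mem_nil, or_false] at ht
  subst ht
  simp only [] at hn hC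
  set N := normalizer ((P : Subgroup G) : Set G) with hNdef
  have hidx : N.index = 15 := by rw [← hn, P.card_eq_index_normalizer]; rfl
  obtain ⟨v, hv⟩ := exists_prime_orderOf_dvd_card' (G := centralizer ((P : Subgroup G) : Set G)) 2
    (by rw [hC]; norm_num)
  rw [← Subgroup.orderOf_coe] at hv
  have hNt : N ≠ ⊤ := normalizer_sylow_ne_top hG (by rw [h]; norm_num) P
  have h4 := card_fixedBy_mod_four hG (X := G ⧸ N) hv
  rw [← index_eq_card, hidx] at h4
  have h7 : Nat.card (fixedBy (G ⧸ N) (v : G)) ≡ 1 [MOD 7] :=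
    Order5040.card_fixedBy_modEq_one P hP le_rfl v.2
  have hne := Order5040.card_fixedBy_ne_index hNt hv
  have hle : Nat.card (fixedBy (G ⧸ N) (v : G)) ≤ N.index := by
    rw [index_eq_card]
    exact Nat.card_le_card_of_injective Subtype.val Subtype.val_injective
  rw [hidx] at hle hne
  unfold Nat.ModEq at h7
  omega

theorem false_1980 (hG : ¬ IsMulCommutative G) (h : Nat.card G = 1980) : False := by
  haveI : Fact (Nat.Prime 11) := ⟨by norm_num⟩
  obtain ⟨P⟩ := (inferInstance : Nonempty (Sylow 11 G))
  obtain ⟨hP, t, ht, hn, hC, hN⟩ := exists_choice hG h (m := 180) (by norm_num) (by norm_num) P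
  rw [show choices 1980 11 = [(45, 2, 22)] from by decide +kernel] at ht
  simp only [List.mem_cons, List.not_mem_nil, or_false] at ht
  subst ht
  simp only [] at hn hC hN
  set N := normalizer ((P : Subgroup G) : Set G) with hNdef
  have hidx : N.index = 45 := by rw [← hn, P.card_eq_index_normalizer]; rfl
  obtain ⟨u, hu, huC, hle⟩ := exists_involution_central (j := 2) P hP (by norm_num)
    (by rw [← hNdef, hN]; norm_num) (by rw [hC]; norm_num)
  refine false_of_unique_fixed hG P hP hu huC ?_ fun f hf h4 hm => ?_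
  · have hr := relIndex_mod_of_normalizer_le P hle
    have hmul := relIndex_mul_index hle
    rw [← hNdef, hidx] at hmul
    have hd : N.relIndex (centralizer ({u} : Set G)) ∣ 45 := Dvd.intro _ hmul
    have hlt : N.relIndex (centralizer ({u} : Set G)) ≠ 45 := by
      intro he
      rw [he] at hmul
      refine centralizer_ne_top hG (x := u) (fun hh => ?_) (index_eq_one.mp (by omega))
      rw [hh, orderOf_one] at hu; norm_num at hu
    rw [← hNdef] at hr
    have h1 := Nat.le_of_dvd (by norm_num) hd
    have hone : N.relIndex (centralizer ({u} : Set G)) = 1 := by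
      interval_cases N.relIndex (centralizer ({u} : Set G)) <;> omega
    exact le_antisymm (relIndex_eq_one.mp hone) hle
  · rw [← hNdef, hidx] at hf h4
    unfold Nat.ModEq at hm
    omega

theorem false_1680 (hG : ¬ IsMulCommutative G) (h : Nat.card G = 1680) : False := by
  haveI : Fact (Nat.Prime 5) := ⟨by norm_num⟩
  haveI : Fact (Nat.Prime 3) := ⟨Nat.prime_three⟩
  obtain ⟨P₀⟩ := (inferInstance : Nonempty (Sylow 5 G))
  obtain ⟨Q⟩ := (inferInstance : Nonempty (Sylow 3 G))
  obtain ⟨hP₀, t, ht, -, hCP, -⟩ := exists_choice hG h (m := 336) (by norm_num) (by norm_num) P₀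
  obtain ⟨hQ, s, hs, -, hCQ, hNQ⟩ := exists_choice hG h (m := 560) (by norm_num) (by norm_num) Q
  rw [show choices 1680 5 = [(56, 2, 15)] from by decide +kernel] at ht
  rw [show choices 1680 3 = [(28, 2, 30), (40, 2, 21), (70, 2, 12), (280, 2, 3)] from by
    decide +kernel] at hs
  simp only [List.mem_cons, List.not_mem_nil, or_false] at ht hs
  subst ht
  have h5 := dvd_centralizer_symm P₀ hP₀ Q hQ (by rw [hCP]; norm_num)
  rcases hs with rfl | rfl | rfl | rfl <;> simp only [] at hCQ hNQ
  swap; · rw [hCQ] at h5; norm_num at h5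
  swap; · rw [hCQ] at h5; norm_num at h5
  swap; · rw [hCQ] at h5; norm_num at h5
  set C := centralizer ((Q : Subgroup G) : Set G) with hCdef
  obtain ⟨P, hP⟩ := exists_sylow_le (p := 5) (k := 1) (m := 336) (by rw [h]; norm_num) (by norm_num)
    (H := C) (by rw [hCQ]; norm_num)
  obtain ⟨hPc, t, ht, -, -, hNP⟩ := exists_choice hG h (m := 336) (by norm_num) (by norm_num) P
  rw [show choices 1680 5 = [(56, 2, 15)] from by decide +kernel] at ht
  simp only [List.mem_cons, List.not_mem_nil, or_false] at ht
  subst ht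
  obtain ⟨hmod, hcard, -, h5', hle⟩ := sylow_count_of_le P hP
  set M := Nat.card (normalizer ((P : Subgroup G) : Set G) ⊓ C : Subgroup G) with hM
  have h3 : 3 ∣ M := by
    have hQle : (Q : Subgroup G) ≤ normalizer ((P : Subgroup G) : Set G) ⊓ C := by
      haveI : IsMulCommutative (Q : Subgroup G) := by
        haveI := isCyclic_of_prime_card hQ
        infer_instance
      refine le_inf (fun q hq => centralizer_le_normalizer' _ (mem_centralizer_iff.mpr fun x hx => ?_))
        (le_centralizer _)
      exact (mem_centralizer_iff.mp (hP hx) q hq).symm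
    have := card_dvd_of_le hQle
    rwa [hQ] at this
  rw [hPc] at h5'
  have h15 : 15 ∣ M := Nat.Coprime.mul_dvd_of_dvd_of_dvd (by norm_num : Nat.Coprime 3 5) h3 h5'
  obtain ⟨c, hc⟩ := h15
  rw [hCQ, hc] at hcard
  have hone : Nat.card (Sylow 5 C) = 1 := by
    have h2 : Nat.card (Sylow 5 C) * c = 2 := by
      nlinarith
    have : Nat.card (Sylow 5 C) ≤ 2 := Nat.le_of_dvd (by norm_num) (Dvd.intro c h2)
    omega
  have hCN : C ≤ normalizer ((P : Subgroup G) : Set G) := hle hone
  have hNle : normalizer ((Q : Subgroup G) : Set G) ≤ normalizer ((P : Subgroup G) : Set G) := by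
    intro g hg
    refine Sylow.smul_eq_iff_mem_normalizer.mp (eq_of_le_normalizer P (g • P) ?_)
    rw [Sylow.coe_subgroup_smul]
    rintro _ ⟨x, hx, rfl⟩
    refine hCN (mem_centralizer_iff.mpr fun q hq => ?_)
    show q * (g * x * g⁻¹) = g * x * g⁻¹ * q
    have hq' : g⁻¹ * q * g ∈ (Q : Subgroup G) := (mem_normalizer_iff''.mp hg q).mp hq
    have hcom : g⁻¹ * q * g * x = x * (g⁻¹ * q * g) := mem_centralizer_iff.mp (hP hx) _ hq'
    calc q * (g * x * g⁻¹) = g * (g⁻¹ * q * g * x) * g⁻¹ := by group
      _ = g * x * g⁻¹ * q := by rw [hcom]; group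
  have := card_dvd_of_le hNle
  rw [hNQ, hNP] at this
  norm_num at this

theorem false_1512 (hG : ¬ IsMulCommutative G) (h : Nat.card G = 1512) : False :=
  haveI := Fintype.ofFinite G
  false_1512_aux hG h

theorem false_1620 (hG : ¬ IsMulCommutative G) (h : Nat.card G = 1620) : False :=
  haveI := Fintype.ofFinite G
  false_1620_aux hG h

theorem false_2160 (hG : ¬ IsMulCommutative G) (h : Nat.card G = 2160) : False :=
  haveI := Fintype.ofFinite G
  false_2160_aux hG h

end Cfsg.Agent.Lib.SmallSimple1
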