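/-
A simple group of order 5616: the normaliser of a subgroup of order thirteen has order 39, and
what follows for involutions.
-/
import Mathlib
import Cfsg.Agent.Lib.SmallGroups.Below6232.Tools
import Cfsg.Agent.Lib.SmallGroups.PrimeChar.Gram

set_option autoImplicit false
set_option linter.style.haveILetI false

namespace Cfsg.Agent.Lib.SmallSimple1.L33

open Subgroup
open Cfsg.Agent.Lib.SmallGroups
open Cfsg.Agent.Lib.SmallGroups.PrimeChar (fusion card_normalizer_zpowers)

universe u

instance fact_thirteen : Fact (Nat.Prime 13) := ⟨by norm_num⟩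

theorem choices_thirteen : Below6232.choices 5616 13 = [(144, 3, 13)] := by decide +kernel

variable {G : Type u} [Group G] [Finite G] [IsSimpleGroup G]

theorem not_comm (h : Nat.card G = 5616) : ¬ IsMulCommutative G :=
  not_isMulCommutative_of_not_prime (by rw [h]; norm_num)

theorem thirteen_local (h : Nat.card G = 5616) {r : G} (hr : orderOf r = 13) :
    Nat.card (centralizer ({r} : Set G)) = 13 ∧
      Nat.card (normalizer ((zpowers r : Subgroup G) : Set G)) = 39 ∧ (fusion 13 r).card = 3 := by
  obtain ⟨P, hP⟩ := (IsPGroup.of_card (p := 13) (n := 1) (G := zpowers r)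
    (by rw [Nat.card_zpowers, hr, pow_one])).exists_le_sylow
  obtain ⟨hPc, c, hc, -, hC, hN⟩ := Below6232.exists_choice (not_comm h) (p := 13) (m := 432) h
    (by norm_num) (by norm_num) P
  rw [choices_thirteen, List.mem_singleton] at hc
  subst hc
  have hPr : zpowers r = (P : Subgroup G) :=
    Subgroup.eq_of_le_of_card_ge hP (by rw [hPc, Nat.card_zpowers, hr])
  rw [← hPr] at hC hN
  simp only [Nat.reduceMul] at hC hN
  rw [zpowers_eq_closure, centralizer_closure] at hC
  refine ⟨hC, hN, ?_⟩
  have h2 := card_normalizer_zpowers (p := 13) hr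
  rw [hN, hC] at h2
  omega

/-- No involution inverts an element of order thirteen. -/
theorem not_inverted (h : Nat.card G = 5616) {t y : G} (ht : orderOf t = 2) (hy : orderOf y = 13) :
    t * y * t⁻¹ ≠ y⁻¹ := by
  intro he
  have hmem : t ∈ normalizer ((zpowers y : Subgroup G) : Set G) := by
    rw [mem_normalizer_iff_conj_image_eq]
    have h1 : (zpowers y).map (MulAut.conj t).toMonoidHom = zpowers y := by
      refine (MonoidHom.map_zpowers _ y).trans ?_
      show zpowers (t * y * t⁻¹) = zpowers y
      rw [he, zpowers_inv]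
    exact congrArg (fun H : Subgroup G => (H : Set G)) h1
  have h2 := orderOf_dvd_natCard _ hmem
  rw [ht, (thirteen_local h hy).2.1] at h2
  norm_num at h2

/-- A product of two involutions does not have order thirteen. -/
theorem mul_ne_thirteen (h : Nat.card G = 5616) {s t : G} (hs : orderOf s = 2) (ht : orderOf t = 2) :
    orderOf (s * t) ≠ 13 := by
  intro h13
  have hs2 : s⁻¹ = s := inv_eq_of_mul_eq_one_right (by rw [← pow_two, ← hs, pow_orderOf_eq_one])
  have ht2 : t⁻¹ = t := inv_eq_of_mul_eq_one_right (by rw [← pow_two, ← ht, pow_orderOf_eq_one])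
  refine not_inverted h hs h13 ?_
  rw [mul_inv_rev, ht2, hs2, ← mul_assoc s s t]
  nth_rw 2 [← hs2]
  rw [mul_inv_cancel, one_mul]

/-- Centralisers of involutions have order dividing 432. -/
theorem card_centralizer_dvd (h : Nat.card G = 5616) {t : G} (ht : orderOf t = 2) :
    Nat.card (centralizer ({t} : Set G)) ∣ 432 := by
  have h1 := card_subgroup_dvd_card (centralizer ({t} : Set G))
  rw [h, show (5616 : ℕ) = 13 * 432 by norm_num] at h1
  refine (Nat.Coprime.dvd_of_dvd_mul_left ?_ h1)
  rw [Nat.coprime_comm, Nat.Prime.coprime_iff_not_dvd (by norm_num)]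
  intro hd
  obtain ⟨⟨y, hy⟩, hyo⟩ := exists_prime_orderOf_dvd_card' (G := centralizer ({t} : Set G)) 13 hd
  rw [Subgroup.orderOf_mk] at hyo
  have hc : t ∈ centralizer ({y} : Set G) :=
    mem_centralizer_singleton_iff.mpr (mem_centralizer_singleton_iff.mp hy).symm
  have h2 := orderOf_dvd_natCard _ hc
  rw [ht, (thirteen_local h hyo).1] at h2
  norm_num at h2

end Cfsg.Agent.Lib.SmallSimple1.L33
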