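/-
Four integer vectors of norm three with mutual products two: a common pair and one further place
each, unless they lie on four places.
-/
import Mathlib

set_option autoImplicit false

namespace Cfsg.Agent.Lib.SmallSimple1.L33

open Finset

variable {X : Type*} [Fintype X] [DecidableEq X]

/-- The support of a vector. -/
def supp (v : X → ℤ) : Finset X := univ.filter fun x => v x ≠ 0

theorem mem_supp {v : X → ℤ} {x : X} : x ∈ supp v ↔ v x ≠ 0 := by simp [supp]

theorem unit_of_norm_three {v : X → ℤ} (h : ∑ x, v x * v x = 3) :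
    (∀ x ∈ supp v, v x = 1 ∨ v x = -1) ∧ (supp v).card = 3 := by
  have hone : ∀ x ∈ supp v, v x = 1 ∨ v x = -1 := by
    intro x hx
    have hle : v x * v x ≤ 3 :=
      h ▸ single_le_sum (f := fun y => v y * v y) (fun _ _ => mul_self_nonneg _) (mem_univ x)
    have h1 : v x ≤ 1 := by nlinarith
    have h2 : -1 ≤ v x := by nlinarith
    have h3 := mem_supp.mp hx
    omega
  refine ⟨hone, ?_⟩
  have h1 : ∑ x ∈ supp v, v x * v x = 3 := by
    rw [← h]
    refine sum_subset (subset_univ _) fun x _ hx => ?_
    rw [mem_supp, not_not] at hx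
    rw [hx, mul_zero]
  rw [sum_congr rfl (g := fun _ => (1 : ℤ)) fun x hx => by
    rcases hone x hx with e | e <;> rw [e] <;> norm_num, sum_const, nsmul_eq_mul, mul_one] at h1
  exact_mod_cast h1

theorem inter_of_dot_two {v w : X → ℤ} (hv : ∑ x, v x * v x = 3) (hw : ∑ x, w x * w x = 3)
    (h : ∑ x, v x * w x = 2) :
    (supp v ∩ supp w).card = 2 ∧ ∀ x ∈ supp v ∩ supp w, v x = w x := by
  obtain ⟨uv, cv⟩ := unit_of_norm_three hv
  obtain ⟨uw, -⟩ := unit_of_norm_three hw
  set S := supp v ∩ supp w
  have hsum : ∑ x ∈ S, v x * w x = 2 := by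
    rw [← h]
    refine sum_subset (subset_univ _) fun x _ hx => ?_
    simp only [S, mem_inter, mem_supp, not_and_or, not_not] at hx
    rcases hx with e | e <;> rw [e] <;> simp
  have hterm : ∀ x ∈ S, v x * w x = 1 ∨ v x * w x = -1 := by
    intro x hx
    rcases uv x (mem_inter.mp hx).1 with e | e <;> rcases uw x (mem_inter.mp hx).2 with e' | e' <;>
      rw [e, e'] <;> norm_num
  set m := (S.filter fun x => v x * w x = -1).card
  have hm : ∑ x ∈ S, v x * w x = (S.card : ℤ) - 2 * m := by
    rw [sum_congr rfl (g := fun x => 1 - 2 * if v x * w x = -1 then (1 : ℤ) else 0) fun x hx => by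
      rcases hterm x hx with e | e <;> rw [e] <;> norm_num]
    rw [sum_sub_distrib, ← mul_sum, sum_boole, sum_const, nsmul_eq_mul, mul_one]
  have hle : S.card ≤ 3 := cv ▸ card_le_card inter_subset_left
  rw [hsum] at hm
  have hS : S.card = 2 ∧ m = 0 := by omega
  refine ⟨hS.1, fun x hx => ?_⟩
  have h1 : v x * w x ≠ -1 := fun e =>
    absurd (mem_filter.mpr ⟨hx, e⟩) (by
      rw [card_eq_zero.mp hS.2]
      exact notMem_empty x)
  rcases uv x (mem_inter.mp hx).1 with e | e <;> rcases uw x (mem_inter.mp hx).2 with e' | e' <;>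
    rw [e, e'] at h1 ⊢ <;> norm_num at h1

/-- The structure of four such vectors carrying a common linear relation. -/
theorem four_triples (v : Fin 4 → X → ℤ) (n : X → ℤ) (hrel : ∀ q, ∑ x, n x * v q x = 1)
    (hn : ∀ q, ∑ x, v q x * v q x = 3) (hd : ∀ q q', q ≠ q' → ∑ x, v q x * v q' x = 2) :
    ∃ (A B : X) (s s' : ℤ) (C : Fin 4 → X) (ε : Fin 4 → ℤ), A ≠ B ∧ Function.Injective C ∧
      (∀ q, C q ≠ A ∧ C q ≠ B) ∧ (s = 1 ∨ s = -1) ∧ (s' = 1 ∨ s' = -1) ∧
      (∀ q, ε q = 1 ∨ ε q = -1) ∧
      ∀ q x, v q x =
        (if x = A then s else 0) + (if x = B then s' else 0) + (if x = C q then ε q else 0) := by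
  have hu := fun q => unit_of_norm_three (hn q)
  have hi := fun q q' (h : q ≠ q') => inter_of_dot_two (hn q) (hn q') (hd q q' h)
  set S : Fin 4 → Finset X := fun q => supp (v q) with hS
  have heq : ∀ q q' x, x ∈ S q → x ∈ S q' → v q x = v q' x := by
    intro q q' x hx hx'
    rcases eq_or_ne q q' with rfl | hne
    · rfl
    · exact (hi q q' hne).2 x (mem_inter.mpr ⟨hx, hx'⟩)
  have hinj : Function.Injective S := by
    intro q q' e
    by_contra hne
    have h2 := (hi q q' hne).1
    change (S q ∩ S q').card = 2 at h2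
    have h3 : (S q').card = 3 := (hu q').2
    rw [e, inter_self] at h2
    omega
  obtain ⟨A, B, hAB, hK⟩ := card_eq_two.mp (hi 0 1 (by decide)).1
  by_cases hall : ∀ q, A ∈ S q ∧ B ∈ S q
  · have hC : ∀ q, ∃ c, S q = {A, B, c} ∧ c ≠ A ∧ c ≠ B := by
      intro q
      have hsub : ({A, B} : Finset X) ⊆ S q := by
        intro x hx
        rcases mem_insert.mp hx with rfl | hx
        · exact (hall q).1
        · rw [mem_singleton.mp hx]; exact (hall q).2
      have h1 : (S q \ {A, B}).card = 1 := by
        rw [card_sdiff_of_subset hsub, card_pair hAB]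
        have h3 : (S q).card = 3 := (hu q).2
        omega
      obtain ⟨c, hc⟩ := card_eq_one.mp h1
      have hcm : c ∈ S q \ {A, B} := hc ▸ mem_singleton_self c
      simp only [mem_sdiff, mem_insert, mem_singleton, not_or] at hcm
      refine ⟨c, ?_, hcm.2.1, hcm.2.2⟩
      rw [← union_sdiff_of_subset hsub, hc]
      ext x
      simp [or_assoc]
    choose C hC hCA hCB using hC
    refine ⟨A, B, v 0 A, v 0 B, C, fun q => v q (C q), hAB, ?_, fun q => ⟨hCA q, hCB q⟩,
      (hu 0).1 A (hall 0).1, (hu 0).1 B (hall 0).2, ?_, ?_⟩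
    · intro q q' e
      exact hinj (by rw [hC q, hC q', e])
    · intro q
      refine (hu q).1 _ ?_
      show C q ∈ S q
      rw [hC q]
      simp
    · intro q x
      by_cases hx : x ∈ S q
      · rw [hC q, mem_insert, mem_insert, mem_singleton] at hx
        rcases hx with rfl | rfl | rfl
        · rw [if_pos rfl, if_neg hAB, if_neg (hCA q).symm, add_zero, add_zero]
          exact heq q 0 _ (hall q).1 (hall 0).1
        · rw [if_neg hAB.symm, if_pos rfl, if_neg (hCB q).symm, zero_add, add_zero]
          exact heq q 0 _ (hall q).2 (hall 0).2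
        · rw [if_neg (hCA q), if_neg (hCB q), if_pos rfl, zero_add, zero_add]
      · have h0 : v q x = 0 := by simpa [hS, mem_supp] using hx
        have hne : x ≠ A ∧ x ≠ B ∧ x ≠ C q := by
          rw [hC q, mem_insert, mem_insert, mem_singleton, not_or, not_or] at hx
          exact hx
        rw [h0, if_neg hne.1, if_neg hne.2.1, if_neg hne.2.2]
        rfl
  · exfalso
    obtain ⟨j, hj⟩ := not_forall.mp hall
    set U := S 0 ∪ S 1 with hUdef
    have hU : U.card = 4 := by
      have h1 := card_union_add_card_inter (S 0) (S 1)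
      have h2 : (S 0 ∩ S 1).card = 2 := (hi 0 1 (by decide)).1
      have h3 : (S 0).card = 3 := (hu 0).2
      have h4 : (S 1).card = 3 := (hu 1).2
      rw [← hUdef] at h1
      omega
    have hKm : ∀ x, x = A ∨ x = B ↔ x ∈ S 0 ∧ x ∈ S 1 := by
      intro x
      have h : x ∈ supp (v 0) ∩ supp (v 1) ↔ x ∈ ({A, B} : Finset X) := by rw [hK]
      rw [mem_inter, mem_insert, mem_singleton] at h
      exact h.symm
    -- a set lacking one of the common pair lies in the four places
    have hjU : S j ⊆ U := by
      obtain ⟨a, b, ha, hjab⟩ : ∃ a b : X, (∀ x, x = a ∨ x = b ↔ x ∈ S 0 ∧ x ∈ S 1) ∧ a ∉ S j := by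
        rcases not_and_or.mp hj with h | h
        · exact ⟨A, B, hKm, h⟩
        · exact ⟨B, A, fun x => or_comm.trans (hKm x), h⟩
      intro x hx
      by_contra hxU
      simp only [hUdef, mem_union, not_or] at hxU
      have key : ∀ i, i = 0 ∨ i = 1 → S j ∩ S i = (S j).erase x := by
        intro i hi'
        refine eq_of_subset_of_card_le (fun y hy => ?_) ?_
        · obtain ⟨h1, h2⟩ := mem_inter.mp hy
          refine mem_erase.mpr ⟨fun e => ?_, h1⟩
          subst e
          rcases hi' with rfl | rfl
          · exact hxU.1 h2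
          · exact hxU.2 h2
        · rw [card_erase_of_mem hx]
          have h3 : (S j).card = 3 := (hu j).2
          have hji : j ≠ i := by
            rintro rfl
            rcases hi' with rfl | rfl
            · exact hxU.1 hx
            · exact hxU.2 hx
          have h2 : (S j ∩ S i).card = 2 := (hi j i hji).1
          omega
      have hsub : (S j).erase x ⊆ ({b} : Finset X) := by
        intro y hy
        have hy0 : y ∈ S 0 := (mem_inter.mp ((key 0 (Or.inl rfl)).symm ▸ hy)).2
        have hy1 : y ∈ S 1 := (mem_inter.mp ((key 1 (Or.inr rfl)).symm ▸ hy)).2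
        rcases (ha y).mpr ⟨hy0, hy1⟩ with rfl | rfl
        · exact absurd (mem_erase.mp hy).2 hjab
        · exact mem_singleton_self _
      have := card_le_card hsub
      rw [card_erase_of_mem hx, card_singleton] at this
      have h3 : (S j).card = 3 := (hu j).2
      omega
    have hallU : ∀ q, S q ⊆ U := by
      intro q x hx
      by_contra hxU
      have hq0 : q ≠ 0 := fun e => hxU (mem_union_left _ (e ▸ hx))
      have hq1 : q ≠ 1 := fun e => hxU (mem_union_right _ (e ▸ hx))
      have key : ∀ i, q ≠ i → S i ⊆ U → S q ∩ S i = (S q).erase x := by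
        intro i hne hiU
        refine eq_of_subset_of_card_le (fun y hy => ?_) ?_
        · obtain ⟨h1, h2⟩ := mem_inter.mp hy
          exact mem_erase.mpr ⟨fun e => hxU (e ▸ hiU h2), h1⟩
        · rw [card_erase_of_mem hx]
          have h3 : (S q).card = 3 := (hu q).2
          have h2 : (S q ∩ S i).card = 2 := (hi q i hne).1
          omega
      have hqj : q ≠ j := fun e => hxU (hjU (e ▸ hx))
      have hKq : (S q).erase x = S 0 ∩ S 1 := by
        refine eq_of_subset_of_card_le (fun y hy => ?_) ?_
        · exact mem_inter.mpr ⟨(mem_inter.mp ((key 0 hq0 subset_union_left).symm ▸ hy)).2,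
            (mem_inter.mp ((key 1 hq1 subset_union_right).symm ▸ hy)).2⟩
        · rw [card_erase_of_mem hx]
          have h3 : (S q).card = 3 := (hu q).2
          have h2 : (S 0 ∩ S 1).card = 2 := (hi 0 1 (by decide)).1
          omega
      refine hj ⟨?_, ?_⟩
      · have h1 : A ∈ (S q).erase x := by
          rw [hKq, mem_inter]; exact (hKm A).mp (Or.inl rfl)
        rw [← key j hqj hjU] at h1
        exact (mem_inter.mp h1).2
      · have h1 : B ∈ (S q).erase x := by
          rw [hKq, mem_inter]; exact (hKm B).mp (Or.inr rfl)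
        rw [← key j hqj hjU] at h1
        exact (mem_inter.mp h1).2
    set σ : X → ℤ := fun x => if x ∈ S 0 then v 0 x else v 1 x with hσ
    set g : X → ℤ := fun x => n x * σ x with hg
    have hval : ∀ q, ∀ x ∈ S q, v q x = σ x := by
      intro q x hx
      simp only [hσ]
      split_ifs with h0
      · exact heq q 0 x hx h0
      · exact heq q 1 x hx ((mem_union.mp (hallU q hx)).resolve_left h0)
    have hsum : ∀ q, ∑ x ∈ S q, g x = 1 := by
      intro q
      rw [← hrel q]
      refine (sum_congr rfl fun x hx => ?_).trans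
        (sum_subset (subset_univ (S q)) fun x _ hx => ?_)
      · rw [hg]; exact congrArg (n x * ·) (hval q x hx).symm
      · have h0 : v q x = 0 := by simpa [hS, mem_supp] using hx
        rw [h0, mul_zero]
    have hmiss : ∀ q, ∃ m, U \ S q = {m} := fun q => card_eq_one.mp (by
      rw [card_sdiff_of_subset (hallU q), hU]
      have h3 : (S q).card = 3 := (hu q).2
      omega)
    choose m hm using hmiss
    have hminj : Function.Injective m := by
      intro q q' e
      refine hinj ?_
      rw [← Finset.sdiff_sdiff_eq_self (hallU q), ← Finset.sdiff_sdiff_eq_self (hallU q'), hm, hm, e]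
    have himg : univ.image m = U := by
      refine eq_of_subset_of_card_le (fun x hx => ?_) ?_
      · obtain ⟨q, -, rfl⟩ := mem_image.mp hx
        exact (mem_sdiff.mp ((hm q).symm ▸ mem_singleton_self (m q))).1
      · rw [card_image_of_injective _ hminj, card_univ, Fintype.card_fin, hU]
    have hT : ∀ q, g (m q) = ∑ x ∈ U, g x - 1 := by
      intro q
      rw [← sum_sdiff (hallU q), hm, sum_singleton, hsum q]
      ring
    have htot : ∑ q, g (m q) = ∑ x ∈ U, g x := by
      rw [← himg, sum_image fun a _ b _ h => hminj h]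
    rw [sum_congr rfl fun q _ => hT q, sum_const, card_univ, Fintype.card_fin, nsmul_eq_mul] at htot
    push_cast at htot
    omega

end Cfsg.Agent.Lib.SmallSimple1.L33
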