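/-
A simple group of order 5616: the column of an element of order thirteen.
-/
import Mathlib
import Cfsg.Agent.Lib.SmallSimple1.L33Local
import Cfsg.Agent.Lib.SmallSimple1.L33Vectors
import Cfsg.Agent.Lib.SmallGroups.PrimeChar.Involutions

set_option autoImplicit false
set_option linter.style.haveILetI false

namespace Cfsg.Agent.Lib.SmallSimple1.L33

open Finset Cfsg Cfsg.Agent.Lib Cfsg.Agent.Lib.Chars
open Cfsg.Agent.Lib.SmallGroups Cfsg.Agent.Lib.SmallGroups.PrimeChar

universe u

/-- Representatives of the four classes of residues. -/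
def rep : Fin 4 → ZMod 13 := ![1, 2, 4, 7]

theorem rep_ne_zero : ∀ q, rep q ≠ 0 := by decide +kernel

theorem cube_roots : ∀ u : ZMod 13, u ^ 3 = 1 → u ∈ ({1, 3, 9} : Finset (ZMod 13)) := by
  decide +kernel

theorem rep_fibres : ∀ q q' : Fin 4, ((({1, 3, 9} : Finset (ZMod 13)).filter
    fun u => rep q' * u = rep q).card : ℕ) = if q = q' then 1 else 0 := by
  decide +kernel

theorem rep_cover : (univ : Finset (ZMod 13)).erase 0 =
    (univ : Finset (Fin 4 × Fin 3)).image fun z => rep z.1 * ![1, 3, 9] z.2 := by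
  decide +kernel

theorem rep_cover_inj : ∀ z z' : Fin 4 × Fin 3,
    rep z.1 * ![1, 3, 9] z.2 = rep z'.1 * ![1, 3, 9] z'.2 → z = z' := by
  decide +kernel

theorem mult_mem : ∀ i : Fin 3, (![1, 3, 9] i : ZMod 13) ∈ ({1, 3, 9} : Finset (ZMod 13)) := by
  decide +kernel

theorem degree_plus : ∀ n ∈ Nat.divisors 5616, 1 < n → n * n < 5616 → n % 13 = 12 → n = 12 := by
  decide +kernel

theorem degree_minus : ∀ n ∈ Nat.divisors 5616, 1 < n → n * n < 5616 → n % 13 = 1 → n = 27 := by
  decide +kernel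

theorem not_degree : 23 ∉ Nat.divisors 5616 ∧ 55 ∉ Nat.divisors 5616 := by decide +kernel

variable {G : Type u} [Group G] [Fintype G]

theorem fusion_thirteen {r : G} (hr : orderOf r = 13) (hcard : (fusion 13 r).card = 3) :
    fusion 13 r = {1, 3, 9} := by
  refine eq_of_subset_of_card_le (fun u hu => cube_roots u ?_) (by rw [hcard]; decide)
  have hu0 := ne_zero_of_mem_fusion hr hu
  have himg : (fusion 13 r).image (u * ·) = fusion 13 r := by
    refine eq_of_subset_of_card_le ?_ ?_
    · intro v hv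
      obtain ⟨w', hw', rfl⟩ := mem_image.mp hv
      exact mul_mem_fusion hr hu hw'
    · rw [card_image_of_injective _ (mul_right_injective₀ hu0)]
  have hprod : ∏ v ∈ (fusion 13 r).image (u * ·), v = ∏ v ∈ fusion 13 r, v := by rw [himg]
  rw [prod_image fun a _ b _ h => mul_right_injective₀ hu0 h, prod_mul_distrib, prod_const,
    hcard] at hprod
  exact mul_eq_right₀ (prod_ne_zero_iff.mpr fun v hv => ne_zero_of_mem_fusion hr hv) |>.mp hprod

/-- The column of an element of order thirteen. -/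
structure Column (G : Type u) [Group G] [Fintype G] where
  n : IrrCharacter G → ℕ
  deg : ∀ χ : IrrCharacter G, (χ : G → ℂ) 1 = n χ
  A : IrrCharacter G
  B : IrrCharacter G
  C : Fin 4 → IrrCharacter G
  R : Finset (IrrCharacter G)
  nA : n A = 12
  nB : n B = 27
  nC : ∀ q, n (C q) = 16
  nR : ∀ χ ∈ R, 13 ∣ n χ
  split : ∀ f : IrrCharacter G → ℂ,
    ∑ χ, f χ = f (trivialIrr G) + f A + f B + ∑ q, f (C q) + ∑ χ ∈ R, f χ
  lin : ∀ g : G, orderOf g ≠ 13 → ∀ q,
    (A : G → ℂ) g - (B : G → ℂ) g + (C q : G → ℂ) g = 1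
  quad : ∀ t : G, orderOf t = 2 → ∀ q,
    ((A : G → ℂ) t) ^ 2 / 12 - ((B : G → ℂ) t) ^ 2 / 27 + ((C q : G → ℂ) t) ^ 2 / 16 = 1

theorem nonempty_column [IsSimpleGroup G] (h : Nat.card G = 5616) : Nonempty (Column G) := by
  classical
  have hG := not_comm h
  obtain ⟨r, hr⟩ := exists_prime_orderOf_dvd_card' (G := G) 13 (by rw [h]; norm_num)
  obtain ⟨hC, hN, hcard⟩ := thirteen_local h hr
  have hU := fusion_thirteen hr hcard
  choose n hn0 hn hndvd using fun χ : IrrCharacter G => irr_degree_dvd_card χ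
  have hnT : n (trivialIrr G) = 1 := by
    have := hn (trivialIrr G)
    rw [trivialIrr_apply] at this
    exact_mod_cast this.symm
  have htot : ∑ χ : IrrCharacter G, n χ ^ 2 = 5616 := by
    have h' := sum_degree_sq (G := G)
    simp only [hn, h] at h'
    exact_mod_cast h'
  have hn1 : ∀ χ, χ ≠ trivialIrr G → n χ ∈ Nat.divisors 5616 ∧ 1 < n χ ∧ n χ * n χ < 5616 := by
    intro χ hχ
    refine ⟨Nat.mem_divisors.mpr ⟨h ▸ hndvd χ, by norm_num⟩, ?_, ?_⟩
    · rcases Nat.lt_or_ge 1 (n χ) with h' | h'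
      · exact h'
      exfalso
      have h1 : n χ = 1 := by have := hn0 χ; omega
      obtain ⟨φ, hφ⟩ := exists_hom_of_degree_one (irr_isCharacter χ) (by rw [hn, h1, Nat.cast_one])
      refine hχ (Subtype.ext ?_)
      funext g
      simp [hφ, hom_commGroup_eq_one hG φ]
    · have h2 := sum_le_sum_of_subset (f := fun ψ : IrrCharacter G => n ψ ^ 2)
        (subset_univ ({χ, trivialIrr G} : Finset (IrrCharacter G)))
      rw [sum_pair hχ, htot, hnT, one_pow, pow_two] at h2
      omega
  let X := {χ : IrrCharacter G // χ ≠ trivialIrr G}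
  have hX : ∀ {M : Type} [AddCommMonoid M] (f : IrrCharacter G → M),
      ∑ χ : IrrCharacter G, f χ = f (trivialIrr G) + ∑ χ : X, f χ.1 := by
    intro M _ f
    rw [← add_sum_erase _ _ (mem_univ (trivialIrr G)),
      sum_subtype (p := fun χ => χ ≠ trivialIrr G) _ (by simp)]
  let v : Fin 4 → X → ℤ := fun q χ => w hr (rep q) χ.1
  have hgram : ∀ q q', ∑ χ, v q χ * v q' χ = (if q = q' then 1 else 0) + 2 := by
    intro q q'
    have h' := gram hr hC (rep_ne_zero q) (rep_ne_zero q')
    rw [hX, w_trivial hr (rep_ne_zero q), w_trivial hr (rep_ne_zero q'), hcard, hU,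
      rep_fibres q q'] at h'
    push_cast at h'
    simp only [v]
    linarith
  have hrel : ∀ q, ∑ χ, (n χ.1 : ℤ) * v q χ = 1 := by
    intro q
    have h' := sum_degree_mul_w hr (rep q)
    simp only [hn] at h'
    rw [hX, w_trivial hr (rep_ne_zero q), hnT] at h'
    apply Int.cast_injective (α := ℂ)
    push_cast at h' ⊢
    simp only [v]
    linear_combination h'
  obtain ⟨A, B, s, s', C, ε, hAB, hCinj, hCne, hs, hs', hε, hv⟩ :=
    four_triples v (fun χ => (n χ.1 : ℤ)) hrel (fun q => by rw [hgram, if_pos rfl]; rfl)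
      (fun q q' hq => by rw [hgram, if_neg hq]; rfl)
  -- evaluation of a weighted sum
  have hsupp : ∀ (f : IrrCharacter G → ℂ) q, ∑ χ, f χ * (w hr (rep q) χ : ℂ) =
      -f (trivialIrr G) + s * f A.1 + s' * f B.1 + ε q * f (C q).1 := by
    intro f q
    rw [hX, w_trivial hr (rep_ne_zero q)]
    have h' : ∀ χ : X, f χ.1 * (w hr (rep q) χ.1 : ℂ) =
        (if χ = A then (s : ℂ) * f χ.1 else 0) + (if χ = B then (s' : ℂ) * f χ.1 else 0) +
          (if χ = C q then (ε q : ℂ) * f χ.1 else 0) := by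
      intro χ
      rw [show w hr (rep q) χ.1 = v q χ from rfl, hv]
      push_cast
      split_ifs <;> ring
    rw [sum_congr rfl fun χ _ => h' χ, sum_add_distrib, sum_add_distrib, sum_ite_eq',
      sum_ite_eq', sum_ite_eq', if_pos (mem_univ _), if_pos (mem_univ _), if_pos (mem_univ _)]
    push_cast
    ring
  have hdeg : ∀ q, s * (n A.1 : ℤ) + s' * n B.1 + ε q * n (C q).1 = 1 := by
    intro q
    have h' := hsupp (fun χ => (n χ : ℂ)) q
    have h0 : ∑ χ : IrrCharacter G, (n χ : ℂ) * (w hr (rep q) χ : ℂ) = 0 := by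
      rw [← sum_degree_mul_w hr (rep q)]
      exact sum_congr rfl fun χ _ => by rw [hn]
    rw [h0, hnT] at h'
    apply Int.cast_injective (α := ℂ)
    push_cast at h' ⊢
    linear_combination -h'
  -- congruences
  have hcong : ∀ χ : X, (13 : ℤ) ∣ (n χ.1 : ℤ) - 3 * ∑ q, v q χ := by
    intro χ
    refine ⟨multNat hr χ.1 0, ?_⟩
    rw [degree_eq hr χ.1 (hn χ.1), rep_cover, sum_image fun a _ b _ h => rep_cover_inj a b h,
      Fintype.sum_prod_type]
    have h' : ∀ q i, w hr (rep q * ![1, 3, 9] i) χ.1 = v q χ := fun q i =>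
      w_mul_fusion hr (hU ▸ mult_mem i) (rep q) χ.1
    simp only [h', sum_const, card_univ, Fintype.card_fin, nsmul_eq_mul, ← mul_sum]
    push_cast
    ring
  have hvA : ∀ q, v q A = s := fun q => by
    rw [hv, if_pos rfl, if_neg hAB, if_neg (hCne q).1.symm, add_zero, add_zero]
  have hvB : ∀ q, v q B = s' := fun q => by
    rw [hv, if_neg hAB.symm, if_pos rfl, if_neg (hCne q).2.symm, zero_add, add_zero]
  have hend : ∀ (χ : X) (s : ℤ), (∀ q, v q χ = s) → (s = 1 ∨ s = -1) →
      (s = 1 ∧ n χ.1 = 12) ∨ (s = -1 ∧ n χ.1 = 27) := by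
    intro χ s hsv hs
    have h' := hcong χ
    simp only [hsv, sum_const, card_univ, Fintype.card_fin, nsmul_eq_mul] at h'
    obtain ⟨hd, h1, h2⟩ := hn1 χ.1 χ.2
    push_cast at h'
    rcases hs with rfl | rfl
    · exact Or.inl ⟨rfl, degree_plus _ hd h1 h2 (by omega)⟩
    · exact Or.inr ⟨rfl, degree_minus _ hd h1 h2 (by omega)⟩
  have hR : ∀ χ : X, χ ≠ A → χ ≠ B → (∀ q, χ ≠ C q) → 13 ∣ n χ.1 := by
    intro χ hA hB hCq
    have h' := hcong χ
    rw [sum_eq_zero fun q _ => by
      rw [hv, if_neg hA, if_neg hB, if_neg (hCq q)]; rfl, mul_zero, sub_zero] at h'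
    exact_mod_cast h'
  have build : ∀ (A B : X), A ≠ B → (∀ q, C q ≠ A ∧ C q ≠ B) → n A.1 = 12 → n B.1 = 27 →
      (∀ q, n (C q).1 = 16) → (∀ χ : X, χ ≠ A → χ ≠ B → (∀ q, χ ≠ C q) → 13 ∣ n χ.1) →
      (∀ (f : IrrCharacter G → ℂ) q, ∑ χ, f χ * (w hr (rep q) χ : ℂ) =
        -f (trivialIrr G) + f A.1 - f B.1 + f (C q).1) → Nonempty (Column G) := by
    intro A B hAB hCne hA hB hC16 hR hsupp
    set T : Finset X := {A, B} ∪ univ.image C with hT
    refine ⟨⟨n, hn, A.1, B.1, fun q => (C q).1, (univ \ T).map ⟨Subtype.val, Subtype.val_injective⟩,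
      hA, hB, hC16, ?_, ?_, ?_, ?_⟩⟩
    · intro ψ hψ
      obtain ⟨χ, hχ, rfl⟩ := mem_map.mp hψ
      have hn' := (mem_sdiff.mp hχ).2
      rw [hT] at hn'
      exact hR χ (fun e => hn' (by rw [e]; simp)) (fun e => hn' (by rw [e]; simp))
        fun q e => hn' (by rw [e]; simp)
    · intro f
      rw [hX, sum_map, ← sum_sdiff (subset_univ T)]
      have h' : ∑ χ ∈ T, f χ.1 = f A.1 + f B.1 + ∑ q, f (C q).1 := by
        rw [hT, sum_union, sum_pair hAB, sum_image fun a _ b _ h => hCinj h]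
        rw [disjoint_left]
        intro χ hχ hχ'
        obtain ⟨q, -, rfl⟩ := mem_image.mp hχ'
        rcases mem_insert.mp hχ with e | e
        · exact (hCne q).1 e
        · exact (hCne q).2 (mem_singleton.mp e)
      rw [h']
      simp only [Function.Embedding.coeFn_mk]
      ring
    · intro g hg q
      have h' := hsupp (fun χ => (χ : G → ℂ) g) q
      rw [sum_apply_mul_w hr (rep q) (fun j hj hc => hg ?_), trivialIrr_apply] at h'
      · linear_combination -h'
      · obtain ⟨c, hc⟩ := isConj_iff.mp hc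
        rw [← hc, ← MulAut.conj_apply, MulEquiv.orderOf_eq]
        refine orderOf_eq_of_prime (P := Subgroup.zpowers r) (by rw [Nat.card_zpowers, hr])
          (pow_mem (Subgroup.mem_zpowers r) _) fun h => hj ?_
        exact xp_injective hr (h.trans xp_zero.symm)
    · intro t ht q
      have hzero : ∑ χ : IrrCharacter G,
          ((χ : G → ℂ) t) ^ 2 / (χ : G → ℂ) 1 * (w hr (rep q) χ : ℂ) = 0 := by
        have h0 : ∑ x : G, ∑ χ : IrrCharacter G,
            (χ : G → ℂ) (t * (x * t * x⁻¹)) * (w hr (rep q) χ : ℂ) = 0 := by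
          refine sum_eq_zero fun x _ => sum_apply_mul_w hr (rep q) fun j hj hc => ?_
          refine mul_ne_thirteen h ht (t := x * t * x⁻¹)
            (by rw [← MulAut.conj_apply, MulEquiv.orderOf_eq, ht]) ?_
          obtain ⟨c, hc⟩ := isConj_iff.mp hc
          rw [← hc, ← MulAut.conj_apply, MulEquiv.orderOf_eq]
          refine orderOf_eq_of_prime (P := Subgroup.zpowers r) (by rw [Nat.card_zpowers, hr])
            (pow_mem (Subgroup.mem_zpowers r) _) fun h => hj ?_
          exact xp_injective hr (h.trans xp_zero.symm)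
        rw [sum_comm] at h0
        simp only [← sum_mul, CharCount.sum_conj_mul] at h0
        refine mul_left_cancel₀ (natCard_ne_zero (G := G)) ?_
        rw [mul_zero, ← h0, mul_sum]
        exact sum_congr rfl fun χ _ => by ring
      rw [hsupp] at hzero
      simp only [trivialIrr_apply, hn, hA, hB, hC16 q, hnT] at hzero
      push_cast at hzero
      linear_combination hzero
  have hA' := hend A s hvA hs
  have hB' := hend B s' hvB hs'
  have hCdeg : ∀ q, n (C q).1 ∈ Nat.divisors 5616 := fun q => (hn1 _ (C q).2).1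
  rcases hA' with ⟨rfl, hA⟩ | ⟨rfl, hA⟩ <;> rcases hB' with ⟨rfl, hB⟩ | ⟨rfl, hB⟩
  · exfalso
    have h1 := hdeg 0
    rw [hA, hB] at h1
    rcases hε 0 with e | e <;> rw [e] at h1
    · omega
    · exact not_degree.1 ((show n (C 0).1 = 23 by omega) ▸ hCdeg 0)
  · have h16 : ∀ q, ε q = 1 ∧ n (C q).1 = 16 := by
      intro q
      have h1 := hdeg q
      rw [hA, hB] at h1
      rcases hε q with e | e <;> rw [e] at h1 <;> omega
    exact build A B hAB hCne hA hB (fun q => (h16 q).2) hR fun f q => by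
      rw [hsupp f q, (h16 q).1]; push_cast; ring
  · have h16 : ∀ q, ε q = 1 ∧ n (C q).1 = 16 := by
      intro q
      have h1 := hdeg q
      rw [hA, hB] at h1
      rcases hε q with e | e <;> rw [e] at h1 <;> omega
    exact build B A hAB.symm (fun q => ⟨(hCne q).2, (hCne q).1⟩) hB hA (fun q => (h16 q).2)
      (fun χ h1 h2 h3 => hR χ h2 h1 h3) fun f q => by
      rw [hsupp f q, (h16 q).1]; push_cast; ring
  · exfalso
    have h1 := hdeg 0
    rw [hA, hB] at h1
    rcases hε 0 with e | e <;> rw [e] at h1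
    · exact not_degree.2 ((show n (C 0).1 = 55 by omega) ▸ hCdeg 0)
    · omega

end Cfsg.Agent.Lib.SmallSimple1.L33
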