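/-
A simple group of order 5616: facts about involutions read off from the column of an element of
order thirteen.
-/
import Mathlib
import Cfsg.Agent.Lib.SmallSimple1.L33Column
import Cfsg.Agent.Lib.BrauerTuan.InvolutionDet

set_option autoImplicit false
set_option linter.style.haveILetI false

namespace Cfsg.Agent.Lib.SmallSimple1.L33

open Finset Cfsg Cfsg.Agent.Lib Cfsg.Agent.Lib.Chars
open Cfsg.Agent.Lib.SmallGroups Cfsg.Agent.Lib.SmallGroups.PrimeChar
open scoped ComplexConjugate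

universe u

theorem value_pairs : ∀ a ∈ Finset.Icc (-20 : ℤ) 20, ∀ b ∈ Finset.Icc (-20 : ℤ) 20,
    36 * (a * a) - 16 * (b * b) + 27 * ((1 - a + b) * (1 - a + b)) = 432 →
    a * a + b * b + 4 * ((1 - a + b) * (1 - a + b)) ≤ 431 → 4 ∣ 12 - a → 4 ∣ 27 - b →
    (a = 4 ∧ b = 3) ∨ (a = 0 ∧ b = -9) := by
  decide +kernel

theorem order_cases : ∀ m ∈ Nat.divisors 432,
    (26 ≤ m → 27 ∣ 5616 / m * 3 → m = 48) ∧ (338 ≤ m → ¬ 27 ∣ 5616 / m * 9) := by
  decide +kernel

theorem cube_bound : ∀ d ∈ Finset.Icc (1 : ℤ) 4, ∀ z ∈ Finset.Icc (-4 : ℤ) 4, 4 ∣ 13 * d - z →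
    0 ≤ z ^ 3 + d * z ^ 2 + 18 * d * (if d = 1 ∧ z = -3 then 1 else 0) := by
  decide +kernel

variable {G : Type u} [Group G] [Fintype G]

namespace Column

variable (D : Column G)

theorem split_int (f : IrrCharacter G → ℤ) :
    ∑ χ, f χ = f (trivialIrr G) + f D.A + f D.B + ∑ q, f (D.C q) + ∑ χ ∈ D.R, f χ := by
  have h := D.split fun χ => (f χ : ℂ)
  exact_mod_cast h

theorem split_rat (f : IrrCharacter G → ℚ) :
    ∑ χ, f χ = f (trivialIrr G) + f D.A + f D.B + ∑ q, f (D.C q) + ∑ χ ∈ D.R, f χ := by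
  have h := D.split fun χ => (f χ : ℂ)
  exact_mod_cast h

theorem n_pos (χ : IrrCharacter G) : 0 < D.n χ := by
  rcases Nat.eq_zero_or_pos (D.n χ) with h | h
  · exact absurd (by rw [D.deg, h, Nat.cast_zero]) (irr_apply_one_ne_zero χ)
  · exact h

theorem n_trivial : D.n (trivialIrr G) = 1 := by
  have := D.deg (trivialIrr G)
  rw [trivialIrr_apply] at this
  exact_mod_cast this.symm

theorem sum_sq_rest (h : Nat.card G = 5616) : ∑ χ ∈ D.R, (D.n χ : ℤ) ^ 2 = 3718 := by
  have h' := sum_degree_sq (G := G)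
  simp only [D.deg, h] at h'
  have h2 : ∑ χ : IrrCharacter G, (D.n χ : ℤ) ^ 2 = 5616 := by exact_mod_cast h'
  rw [D.split_int, D.n_trivial, D.nA, D.nB] at h2
  simp only [D.nC, sum_const, card_univ, Fintype.card_fin] at h2
  norm_num at h2
  linarith

end Column

/-- The values of an involution. -/
structure Values (D : Column G) (t : G) where
  z : IrrCharacter G → ℤ
  val : ∀ χ : IrrCharacter G, (χ : G → ℂ) t = z χ
  zA : z D.A = 4
  zB : z D.B = 3
  zC : ∀ q, z (D.C q) = 0
  zT : z (trivialIrr G) = 1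
  four : ∀ χ, (4 : ℤ) ∣ (D.n χ : ℤ) - z χ
  cent : Nat.card (Subgroup.centralizer ({t} : Set G)) = 48
  sq : ∑ χ ∈ D.R, z χ * z χ = 22
  mixed : ∑ χ ∈ D.R, (D.n χ : ℤ) * z χ = -130

variable [IsSimpleGroup G]

theorem nonempty_values (h : Nat.card G = 5616) (D : Column G) {t : G} (ht : orderOf t = 2) :
    Nonempty (Values D t) := by
  classical
  have hG := not_comm h
  choose z hz using fun χ : IrrCharacter G => exists_int_apply_involution χ ht
  set m := Nat.card (Subgroup.centralizer ({t} : Set G)) with hm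
  have htt : t * t = 1 := by rw [← pow_two, ← ht, pow_orderOf_eq_one]
  have hzT : z (trivialIrr G) = 1 := by
    have := hz (trivialIrr G)
    rw [trivialIrr_apply] at this
    exact_mod_cast this.symm
  have h4 : ∀ χ, (4 : ℤ) ∣ (D.n χ : ℤ) - z χ := by
    intro χ
    have hdeg : DefectOne.degOf χ = D.n χ := by
      have h1 := DefectOne.apply_one_eq_degOf χ
      rw [D.deg] at h1
      exact_mod_cast h1.symm
    exact hdeg ▸ BrauerTuan.dvd_sub_apply_involution hG χ htt (hz χ)
  set a := z D.A with ha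
  set b := z D.B with hb
  have hlin : ∀ q, z (D.C q) = 1 - a + b := by
    intro q
    have h1 := D.lin t (by rw [ht]; norm_num) q
    rw [hz, hz, hz] at h1
    have h2 : z D.A - z D.B + z (D.C q) = 1 := by exact_mod_cast h1
    omega
  have hsum : ∑ χ, z χ * z χ = (m : ℤ) := by
    have h1 := column_orthogonality_of_isConj (g := t) (h := t) (IsConj.refl t)
    simp only [hz, map_intCast] at h1
    exact_mod_cast h1
  rw [D.split_int, hzT] at hsum
  simp only [hlin, sum_const, card_univ, Fintype.card_fin] at hsum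
  have hnn : 0 ≤ ∑ χ ∈ D.R, z χ * z χ := sum_nonneg fun χ _ => mul_self_nonneg _
  have hm432 : m ∣ 432 := card_centralizer_dvd h ht
  have hm432' := Nat.le_of_dvd (by norm_num) hm432
  have hbound : a * a + b * b + 4 * ((1 - a + b) * (1 - a + b)) ≤ 431 := by
    simp only [nsmul_eq_mul] at hsum
    push_cast at hsum
    have : (m : ℤ) ≤ 432 := by exact_mod_cast hm432'
    linarith
  have hquad : 36 * (a * a) - 16 * (b * b) + 27 * ((1 - a + b) * (1 - a + b)) = 432 := by
    have h1 := D.quad t ht 0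
    rw [hz, hz, hz, hlin] at h1
    apply Int.cast_injective (α := ℂ)
    push_cast at h1 ⊢
    linear_combination 432 * h1
  have hrange : ∀ x : ℤ, x * x ≤ 431 → x ∈ Finset.Icc (-20 : ℤ) 20 := fun x hx =>
    Finset.mem_Icc.mpr ⟨by nlinarith, by nlinarith⟩
  have hint : (27 : ℤ) ∣ ((5616 / m : ℕ) : ℤ) * b := by
    have hidx : (Subgroup.centralizer ({t} : Set G)).index = 5616 / m := by
      have h1 := (Subgroup.centralizer ({t} : Set G)).card_mul_index
      rw [← hm, h] at h1
      rw [← h1, Nat.mul_div_cancel_left _ (Nat.pos_of_dvd_of_pos hm432 (by norm_num))]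
    obtain ⟨k, hk⟩ := exists_int_eq_of_isIntegral (irr_isIntegral_central D.B t)
      (((5616 / m : ℕ) : ℚ) * b / 27) (by rw [hidx, hz, D.deg, D.nB, ← hb]; push_cast; rfl)
    refine ⟨k, ?_⟩
    rw [hidx, hz, D.deg, D.nB, ← hb, div_eq_iff (by norm_num)] at hk
    generalize 5616 / m = q at hk ⊢
    have h2 : ((q : ℕ) : ℤ) * b = k * 27 := by exact_mod_cast hk
    rw [h2, mul_comm]
  have h12 : (4 : ℤ) ∣ 12 - a := by have := h4 D.A; rw [D.nA] at this; exact_mod_cast this
  have h27 : (4 : ℤ) ∣ 27 - b := by have := h4 D.B; rw [D.nB] at this; exact_mod_cast this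
  have hab := value_pairs a (hrange a (by nlinarith)) b (hrange b (by nlinarith)) hquad hbound h12 h27
  have hmem : m ∈ Nat.divisors 432 := Nat.mem_divisors.mpr ⟨hm432, by norm_num⟩
  obtain ⟨hval, hm48⟩ : (a = 4 ∧ b = 3) ∧ m = 48 := by
    simp only [nsmul_eq_mul] at hsum
    push_cast at hsum
    rcases hab with ⟨ea, eb⟩ | ⟨ea, eb⟩
    · rw [← ha, ← hb, ea, eb] at hsum
      rw [eb] at hint
      have h1 : 27 ∣ 5616 / m * 3 := Int.natCast_dvd_natCast.mp (by push_cast; exact_mod_cast hint)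
      exact ⟨⟨ea, eb⟩, (order_cases m hmem).1 (by omega) h1⟩
    · exfalso
      rw [← ha, ← hb, ea, eb] at hsum
      rw [eb, mul_neg, dvd_neg] at hint
      have h1 : 27 ∣ 5616 / m * 9 := Int.natCast_dvd_natCast.mp (by push_cast; exact_mod_cast hint)
      exact (order_cases m hmem).2 (by omega) h1
  have hC0 : ∀ q, z (D.C q) = 0 := fun q => by rw [hlin, hval.1, hval.2]; norm_num
  refine ⟨⟨z, hz, hval.1, hval.2, hC0, hzT, h4, hm48, ?_, ?_⟩⟩
  · simp only [nsmul_eq_mul] at hsum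
    push_cast at hsum
    rw [← ha, ← hb, hval.1, hval.2, hm48] at hsum
    push_cast at hsum
    linarith
  · have h1 := column_orthogonality_of_not_isConj (g := t) (h := (1 : G)) fun hc => by
      rw [isConj_one_left] at hc
      rw [hc, orderOf_one] at ht
      norm_num at ht
    simp only [hz, D.deg, Complex.conj_natCast] at h1
    have h2 : ∑ χ : IrrCharacter G, (D.n χ : ℤ) * z χ = 0 := by
      apply Int.cast_injective (α := ℂ)
      push_cast
      rw [← h1]
      exact sum_congr rfl fun χ _ => mul_comm _ _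
    rw [D.split_int, D.n_trivial, hzT, D.nA, D.nB, ← ha, ← hb, hval.1, hval.2] at h2
    simp only [hC0, mul_zero, sum_const_zero] at h2
    push_cast at h2
    linarith

/-- All involutions are conjugate. -/
theorem isConj_involution (h : Nat.card G = 5616) {s t : G} (hs : orderOf s = 2)
    (ht : orderOf t = 2) : IsConj s t := by
  classical
  obtain ⟨D⟩ := nonempty_column h
  obtain ⟨V⟩ := nonempty_values h D hs
  obtain ⟨W⟩ := nonempty_values h D ht
  by_contra hne
  have h1 := column_orthogonality_of_not_isConj hne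
  simp only [V.val, W.val, map_intCast] at h1
  have h2 : ∑ χ : IrrCharacter G, V.z χ * W.z χ = 0 := by exact_mod_cast h1
  rw [D.split_int, V.zT, W.zT, V.zA, W.zA, V.zB, W.zB] at h2
  simp only [V.zC, zero_mul, sum_const_zero] at h2
  have h3 : 0 ≤ ∑ χ ∈ D.R, (V.z χ + W.z χ) * (V.z χ + W.z χ) :=
    sum_nonneg fun χ _ => mul_self_nonneg _
  rw [sum_congr rfl (g := fun χ => V.z χ * V.z χ + 2 * (V.z χ * W.z χ) + W.z χ * W.z χ)
    (fun χ _ => by ring), sum_add_distrib, sum_add_distrib, ← mul_sum, V.sq, W.sq] at h3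
  linarith

/-- The order of the centraliser of an involution. -/
theorem card_centralizer_involution (h : Nat.card G = 5616) {t : G} (ht : orderOf t = 2) :
    Nat.card (Subgroup.centralizer ({t} : Set G)) = 48 := by
  obtain ⟨D⟩ := nonempty_column h
  obtain ⟨V⟩ := nonempty_values h D ht
  exact V.cent

/-- There is no elementary abelian subgroup of order eight. -/
theorem no_eight (h : Nat.card G = 5616) (E : Subgroup G) (hE : Nat.card E = 8)
    (h2 : ∀ x ∈ E, x * x = 1) : False := by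
  classical
  have hord : ∀ y : E, y ≠ 1 → orderOf (y : G) = 2 := fun y hy =>
    orderOf_eq_prime (by rw [pow_two]; exact h2 _ y.2) (fun e => hy (Subtype.ext e))
  haveI : Nontrivial E := Finite.one_lt_card_iff_nontrivial.mp (by omega)
  obtain ⟨y₀, hy₀⟩ := exists_ne (1 : E)
  obtain ⟨D⟩ := nonempty_column h
  obtain ⟨V⟩ := nonempty_values h D (hord y₀ hy₀)
  have hcong : ∀ χ ∈ D.R, ∃ d k : ℤ, (D.n χ : ℤ) = 13 * d ∧ V.z χ = 5 * d + 8 * k := by
    intro χ hχ
    obtain ⟨d, hd⟩ := D.nR χ hχ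
    obtain ⟨m, hm⟩ := CharCount.exists_nat_sum_subgroup χ E
    have hsum : ∑ y : E, (χ : G → ℂ) y = (D.n χ : ℂ) + 7 * V.z χ := by
      rw [← add_sum_erase _ _ (mem_univ (1 : E)), sum_congr rfl (g := fun _ => (V.z χ : ℂ))
        fun y hy => ?_, sum_const, card_erase_of_mem (mem_univ _), card_univ,
        ← Nat.card_eq_fintype_card, hE, Subgroup.coe_one, D.deg]
      · norm_num
      · rw [← V.val]
        exact isClassFunction_apply_eq (irr_isClassFunction χ)
          (isConj_involution h (hord y₀ hy₀) (hord y (ne_of_mem_erase hy)))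
    rw [hsum, hE] at hm
    have h1 : (D.n χ : ℤ) + 7 * V.z χ = 8 * (m : ℤ) := by exact_mod_cast hm
    refine ⟨d, V.z χ - (m : ℤ) + d, by rw [hd]; push_cast; ring, ?_⟩
    rw [hd] at h1
    push_cast at h1
    linarith
  choose d k hd hk using hcong
  have key : (64 * 169 : ℤ) ∣ ∑ χ ∈ D.R,
      (3 * (D.n χ : ℤ) ^ 2 + 3 * 169 * (V.z χ * V.z χ) + 10 * 13 * ((D.n χ : ℤ) * V.z χ)) := by
    refine dvd_sum fun χ hχ => ?_
    rw [hd χ hχ, hk χ hχ]
    exact ⟨2 * d χ hχ * d χ hχ + 5 * (d χ hχ * k χ hχ) + 3 * (k χ hχ * k χ hχ), by ring⟩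
  rw [sum_add_distrib, sum_add_distrib, ← mul_sum, ← mul_sum, ← mul_sum, D.sum_sq_rest h, V.sq,
    V.mixed] at key
  norm_num at key

/-- At least seven further involutions commute with a given one. -/
theorem seven_le (h : Nat.card G = 5616) {t : G} (ht : orderOf t = 2) :
    7 ≤ Nat.card {s : G // orderOf s = 2 ∧ Commute s t ∧ s ≠ t} := by
  classical
  obtain ⟨D⟩ := nonempty_column h
  obtain ⟨V⟩ := nonempty_values h D ht
  set N := Nat.card {s : G // orderOf s = 2 ∧ Commute s t ∧ s ≠ t}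
  have hsq : ∀ {x : G}, orderOf x = 2 → x * x = 1 := fun hx => by
    rw [← pow_two, ← hx, pow_orderOf_eq_one]
  have hpairs : pairCount t = (N : ℂ) := by
    rw [pairCount, Nat.cast_inj]
    refine Nat.card_congr
      { toFun := fun p => ⟨p.1.1.1, p.1.1.2, ?_, ?_⟩
        invFun := fun s => ⟨(⟨s.1, s.2.1⟩, ⟨s.1 * t, ?_⟩), ?_⟩
        left_inv := fun p => ?_
        right_inv := fun s => rfl }
    · obtain ⟨⟨⟨s1, h1⟩, ⟨s2, h2⟩⟩, hp⟩ := p
      change s1 * s2 = t at hp
      have i1 : s1⁻¹ = s1 := inv_eq_of_mul_eq_one_right (hsq h1)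
      have i2 : s2⁻¹ = s2 := inv_eq_of_mul_eq_one_right (hsq h2)
      have it : t⁻¹ = t := inv_eq_of_mul_eq_one_right (hsq ht)
      show s1 * t = t * s1
      calc s1 * t = s1 * (s1 * s2) := by rw [hp]
        _ = s2 := by rw [← mul_assoc, hsq h1, one_mul]
        _ = (s1 * s2)⁻¹ * s1 := by rw [mul_inv_rev, i1, i2, mul_assoc, hsq h1, mul_one]
        _ = t * s1 := by rw [hp, it]
    · intro e
      have hp : (p.1.1 : G) * p.1.2 = t := p.2
      rw [show ((p.1.1 : G)) = t from e, mul_eq_left] at hp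
      have := p.1.2.2
      rw [hp, orderOf_one] at this
      norm_num at this
    · refine orderOf_eq_prime ?_ fun e => s.2.2.2 ?_
      · rw [pow_two, s.2.2.1.symm.mul_mul_mul_comm, hsq s.2.1, hsq ht, one_mul]
      · rw [mul_eq_one_iff_eq_inv.mp e, inv_eq_of_mul_eq_one_right (hsq ht)]
    · show s.1 * (s.1 * t) = t
      rw [← mul_assoc, hsq s.2.1, one_mul]
    · obtain ⟨⟨⟨s1, h1⟩, ⟨s2, h2⟩⟩, hp⟩ := p
      change s1 * s2 = t at hp
      refine Subtype.ext (Prod.ext rfl (Subtype.ext ?_))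
      show s1 * t = s2
      rw [← hp, ← mul_assoc, hsq h1, one_mul]
  have hI : (Nat.card {s : G // orderOf s = 2}) = 117 := by
    have e : {s : G // orderOf s = 2} ≃ {x : G // IsConj t x} := Equiv.subtypeEquivRight fun x =>
      ⟨fun hx => isConj_involution h ht hx, fun hx => by
        obtain ⟨c, rfl⟩ := isConj_iff.mp hx
        rw [← MulAut.conj_apply, MulEquiv.orderOf_eq, ht]⟩
    rw [Nat.card_congr e, card_conjClass_eq_index]
    have h1 := (Subgroup.centralizer ({t} : Set G)).card_mul_index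
    rw [V.cent, h] at h1
    omega
  have hform : (N : ℚ) * 5616 = 13689 * ∑ χ : IrrCharacter G, (V.z χ : ℚ) ^ 3 / D.n χ := by
    apply Rat.cast_injective (α := ℂ)
    push_cast
    rw [← hpairs, pairCount_eq, h, mul_sum, mul_sum, sum_mul]
    refine sum_congr rfl fun χ _ => ?_
    have hS : ∑ s : {s : G // orderOf s = 2}, (χ : G → ℂ) s = 117 * (V.z χ : ℂ) := by
      rw [sum_congr rfl (g := fun _ => (V.z χ : ℂ)) fun s _ => ?_, sum_const, card_univ,
        nsmul_eq_mul, ← Nat.card_eq_fintype_card, hI]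
      · norm_num
      · rw [← V.val]
        exact isClassFunction_apply_eq (irr_isClassFunction χ) (isConj_involution h ht s.2)
    rw [hS, D.deg, V.val]
    push_cast
    field_simp
    ring
  rw [D.split_rat, V.zT, V.zA, V.zB, D.n_trivial, D.nA, D.nB] at hform
  simp only [V.zC, D.nC, Int.cast_zero, ne_eq, OfNat.ofNat_ne_zero, not_false_eq_true, zero_pow,
    zero_div, sum_const_zero] at hform
  -- the bound on the remaining terms
  have hd : ∀ χ ∈ D.R, ∃ d : ℤ, 1 ≤ d ∧ (D.n χ : ℤ) = 13 * d := by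
    intro χ hχ
    obtain ⟨d, hd⟩ := D.nR χ hχ
    refine ⟨d, ?_, by rw [hd]; push_cast; ring⟩
    have := D.n_pos χ
    omega
  choose d hd1 hd using hd
  set S := D.R.filter fun χ => D.n χ = 13 ∧ V.z χ = -3
  have hS2 : S.card ≤ 2 := by
    have h1 : ∑ χ ∈ S, V.z χ * V.z χ ≤ 22 :=
      (sum_le_sum_of_subset_of_nonneg (filter_subset _ _) fun x _ _ => mul_self_nonneg _).trans_eq
        V.sq
    rw [sum_congr rfl (g := fun _ => (9 : ℤ)) fun χ hχ => by
      rw [(mem_filter.mp hχ).2.2]; norm_num, sum_const, nsmul_eq_mul] at h1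
    omega
  have hterm : ∀ χ ∈ D.R, -(((V.z χ * V.z χ : ℤ) : ℚ) + 18 * (if χ ∈ S then 1 else 0)) / 13 ≤
      (V.z χ : ℚ) ^ 3 / D.n χ := by
    intro χ hχ
    have hn2 : (D.n χ : ℤ) ^ 2 ≤ 3718 := D.sum_sq_rest h ▸
      single_le_sum (f := fun ψ => (D.n ψ : ℤ) ^ 2) (fun _ _ => sq_nonneg _) hχ
    have hz2 : V.z χ * V.z χ ≤ 22 := V.sq ▸
      single_le_sum (f := fun ψ => V.z ψ * V.z ψ) (fun _ _ => mul_self_nonneg _) hχ
    have hd4 : d χ hχ ≤ 4 := by
      rw [hd χ hχ] at hn2
      nlinarith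
    have hmod : (4 : ℤ) ∣ 13 * d χ hχ - V.z χ := hd χ hχ ▸ V.four χ
    have key := cube_bound (d χ hχ) (Finset.mem_Icc.mpr ⟨hd1 χ hχ, hd4⟩) (V.z χ)
      (Finset.mem_Icc.mpr ⟨by nlinarith, by nlinarith⟩) hmod
    have hiff : χ ∈ S ↔ d χ hχ = 1 ∧ V.z χ = -3 := by
      have := hd χ hχ
      simp only [S, mem_filter, hχ, true_and]
      exact and_congr_left fun _ => by omega
    have hnq : (D.n χ : ℚ) = 13 * (d χ hχ : ℚ) := by exact_mod_cast hd χ hχ
    have hdq : (1 : ℚ) ≤ d χ hχ := by exact_mod_cast hd1 χ hχ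
    have keyq : (0 : ℚ) ≤ (V.z χ : ℚ) ^ 3 + (d χ hχ : ℚ) * (V.z χ : ℚ) ^ 2 +
        18 * (d χ hχ : ℚ) * (if χ ∈ S then 1 else 0) := by
      simp only [hiff]
      exact_mod_cast key
    rw [hnq, div_le_div_iff₀ (by norm_num) (by positivity)]
    push_cast
    nlinarith
  have hR := sum_le_sum hterm
  rw [← sum_div, sum_neg_distrib, sum_add_distrib, ← mul_sum, sum_boole, ← Int.cast_sum, V.sq,
    filter_mem_eq_inter, inter_eq_right.mpr (filter_subset _ _)] at hR
  have hS2' : (S.card : ℚ) ≤ 2 := by exact_mod_cast hS2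
  push_cast at hR hform
  have hN : (7 : ℚ) ≤ N := by linarith
  exact_mod_cast hN

/-- In an action on the cosets of a subgroup of index thirteen an involution fixes five points. -/
theorem card_fixed_thirteen (h : Nat.card G = 5616) {L : Subgroup G} (hL : L.index = 13) {t : G}
    (ht : orderOf t = 2) : Nat.card (MulAction.fixedBy (G ⧸ L) t) = 5 := by
  classical
  obtain ⟨D⟩ := nonempty_column h
  obtain ⟨V⟩ := nonempty_values h D ht
  set π : G → ℂ := fun g => (Nat.card (MulAction.fixedBy (G ⧸ L) g) : ℂ) with hπdef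
  have hπ : IsCharacter G π := isCharacter_permChar (G ⧸ L)
  choose m hm using fun χ : IrrCharacter G => isCharacter_classInner_nat hπ (irr_isCharacter χ)
  have heval : ∀ g, π g = ∑ χ : IrrCharacter G, (m χ : ℂ) * (χ : G → ℂ) g := fun g => by
    rw [isClassFunction_apply_eq_sum_classInner (isClassFunction_of_isCharacter hπ) g]
    exact sum_congr rfl fun χ _ => by rw [hm]
  have hone : Nat.card (MulAction.fixedBy (G ⧸ L) (1 : G)) = 13 := by
    rw [← hL, Subgroup.index_eq_card]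
    exact Nat.card_congr (Equiv.subtypeUnivEquiv fun x => one_smul G x)
  have h13 : (13 : ℤ) = ∑ χ : IrrCharacter G, (m χ : ℤ) * D.n χ := by
    apply Int.cast_injective (α := ℂ)
    have h1 := heval 1
    simp only [hπdef, hone, D.deg] at h1
    push_cast
    exact_mod_cast h1
  have hm0 : 1 ≤ m (trivialIrr G) := by
    by_contra h0
    have h1 := hm (trivialIrr G)
    rw [show m (trivialIrr G) = 0 by omega, Nat.cast_zero, classInner, mul_eq_zero] at h1
    rcases h1 with h1 | h1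
    · exact inv_ne_zero natCard_ne_zero h1
    · simp only [hπdef, trivialIrr_apply, map_one, mul_one] at h1
      rw [← Nat.cast_sum, Nat.cast_eq_zero] at h1
      have h2 := (sum_eq_zero_iff.mp h1) 1 (mem_univ _)
      omega
  rw [D.split_int, D.n_trivial, D.nA, D.nB] at h13
  simp only [D.nC, ← sum_mul] at h13
  have hnn : 0 ≤ ∑ χ ∈ D.R, (m χ : ℤ) * D.n χ := sum_nonneg fun χ _ => by positivity
  have hCnn : 0 ≤ ∑ q, (m (D.C q) : ℤ) := sum_nonneg fun q _ => by positivity
  push_cast at h13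
  have hB : m D.B = 0 := by omega
  have hC : ∀ q, m (D.C q) = 0 := by
    intro q
    have h1 : (m (D.C q) : ℤ) ≤ ∑ q, (m (D.C q) : ℤ) :=
      single_le_sum (f := fun q => (m (D.C q) : ℤ)) (fun _ _ => by positivity) (mem_univ q)
    omega
  have hR : ∀ χ ∈ D.R, m χ = 0 := by
    intro χ hχ
    by_contra hne
    have h1 : (m χ : ℤ) * D.n χ ≤ ∑ χ ∈ D.R, (m χ : ℤ) * D.n χ :=
      single_le_sum (f := fun χ => (m χ : ℤ) * D.n χ) (fun _ _ => by positivity) hχ
    obtain ⟨d, hd⟩ := D.nR χ hχ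
    have h2 : 13 ≤ m χ * D.n χ := by
      refine (Nat.le_of_dvd (D.n_pos χ) ⟨d, hd⟩).trans (Nat.le_mul_of_pos_left _ (by omega))
    have h3 : (13 : ℤ) ≤ (m χ : ℤ) * D.n χ := by exact_mod_cast h2
    omega
  have hR0 : ∑ χ ∈ D.R, (m χ : ℤ) * D.n χ = 0 :=
    sum_eq_zero fun χ hχ => by rw [hR χ hχ]; simp
  have hC0 : ∑ q, (m (D.C q) : ℤ) = 0 := sum_eq_zero fun q _ => by rw [hC q]; simp
  rw [hR0, hC0] at h13
  rw [hB] at h13
  push_cast at h13
  have hcase : (m (trivialIrr G) = 1 ∧ m D.A = 1) ∨ (m (trivialIrr G) = 13 ∧ m D.A = 0) := by omega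
  have ht' := heval t
  have hRt : ∑ χ ∈ D.R, (m χ : ℂ) * (χ : G → ℂ) t = 0 :=
    sum_eq_zero fun χ hχ => by rw [hR χ hχ, Nat.cast_zero, zero_mul]
  have hCt : ∑ q, (m (D.C q) : ℂ) * (D.C q : G → ℂ) t = 0 :=
    sum_eq_zero fun q _ => by rw [hC q, Nat.cast_zero, zero_mul]
  rw [D.split, hRt, hCt, hB, V.val, V.val, V.val, V.zT, V.zA] at ht'
  simp only [hπdef] at ht'
  generalize hf : Nat.card (MulAction.fixedBy (G ⧸ L) t) = f at ht' ⊢
  rcases hcase with ⟨e1, e2⟩ | ⟨e1, e2⟩
  · rw [e1, e2] at ht'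
    norm_num at ht'
    exact_mod_cast ht'
  · exfalso
    rw [e1, e2] at ht'
    norm_num at ht'
    have h' : Nat.card (MulAction.fixedBy (G ⧸ L) t) = 13 := hf.trans (by exact_mod_cast ht')
    haveI := Fintype.ofFinite (G ⧸ L)
    have hall : ∀ x : G ⧸ L, t • x = x := by
      intro x
      have huniv : (MulAction.fixedBy (G ⧸ L) t) = Set.univ := by
        refine Set.eq_of_subset_of_ncard_le (Set.subset_univ _) ?_ (Set.toFinite _)
        rw [Set.ncard_univ, ← Nat.card_coe_set_eq, h', ← Subgroup.index_eq_card, hL]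
      exact (huniv.symm ▸ Set.mem_univ x : x ∈ MulAction.fixedBy (G ⧸ L) t)
    have ht1 : t = 1 := toPermHom_injective (H := L)
      (fun e => by rw [e, Subgroup.index_top] at hL; norm_num at hL)
      (Equiv.ext fun x => by rw [map_one]; exact hall x)
    rw [ht1, orderOf_one] at ht
    norm_num at ht

end Cfsg.Agent.Lib.SmallSimple1.L33
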