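/-
A simple group of order 5616: the centraliser of an involution has more than one subgroup of
order three.
-/
import Mathlib
import Cfsg.Agent.Lib.SmallSimple1.L33Invol
import Cfsg.Agent.Lib.Order7920.Tools

set_option autoImplicit false
set_option linter.style.haveILetI false

namespace Cfsg.Agent.Lib.SmallSimple1.L33

open Subgroup
open Cfsg.Agent.Lib.SmallGroups

universe u

variable {G : Type u} [Group G]

theorem mem_normalizer_of_conj {u g : G} (h : zpowers (g * u * g⁻¹) = zpowers u) :
    g ∈ normalizer ((zpowers u : Subgroup G) : Set G) := by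
  rw [mem_normalizer_iff_conj_image_eq]
  have h1 : (zpowers u).map (MulAut.conj g).toMonoidHom = zpowers u := by
    refine (MonoidHom.map_zpowers _ u).trans ?_
    show zpowers (g * u * g⁻¹) = zpowers u
    exact h
  exact congrArg (fun H : Subgroup G => (H : Set G)) h1

theorem conj_of_mem_normalizer {u g : G} (h : g ∈ normalizer ((zpowers u : Subgroup G) : Set G)) :
    zpowers (g * u * g⁻¹) = zpowers u := by
  rw [mem_normalizer_iff_conj_image_eq] at h
  have h1 : (zpowers u).map (MulAut.conj g).toMonoidHom = zpowers u := SetLike.coe_injective h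
  exact (MonoidHom.map_zpowers (MulAut.conj g).toMonoidHom u).symm.trans h1

/-- Commuting with an element is commuting with any generator of its cyclic group. -/
theorem commute_of_zpowers_eq {s u v : G} (h : zpowers u = zpowers v) (hc : Commute s u) :
    Commute s v := by
  obtain ⟨k, rfl⟩ := mem_zpowers_iff.mp (h.symm ▸ mem_zpowers v : v ∈ zpowers u)
  exact hc.zpow_right k

theorem orderOf_conj_eq (g u : G) : orderOf (g * u * g⁻¹) = orderOf u := by
  rw [← MulAut.conj_apply, MulEquiv.orderOf_eq]

variable [Finite G]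

/-- In a subgroup of order four acting on a subgroup of order three an involution acts trivially. -/
theorem exists_involution_commute {R : Subgroup G} (hR : Nat.card R = 4) {v : G}
    (hv : orderOf v = 3) (hn : ∀ a ∈ R, a ∈ normalizer ((zpowers v : Subgroup G) : Set G)) :
    ∃ s ∈ R, orderOf s = 2 ∧ Commute s v := by
  classical
  have hsq : ∀ a ∈ R, Commute a v ∨ a * v * a⁻¹ = v⁻¹ := by
    intro a ha
    obtain ⟨k, hk⟩ := mem_zpowers_iff.mp ((mem_normalizer_iff.mp (hn a ha) v).mp (mem_zpowers v))
    have h0 : v ^ k = v ^ (k % 3) := by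
      conv_lhs => rw [← zpow_mod_orderOf, hv]
      norm_num
    rw [h0] at hk
    rcases (show k % 3 = 0 ∨ k % 3 = 1 ∨ k % 3 = 2 by omega) with e | e | e <;> rw [e] at hk
    · rw [zpow_zero, eq_comm, conj_eq_one_iff] at hk
      rw [hk, orderOf_one] at hv
      norm_num at hv
    · rw [zpow_one] at hk
      exact Or.inl (mul_inv_eq_iff_eq_mul.mp hk.symm)
    · refine Or.inr (hk.symm.trans (eq_inv_of_mul_eq_one_left ?_))
      rw [← zpow_add_one, show (2 : ℤ) + 1 = ((3 : ℕ) : ℤ) by norm_num, zpow_natCast, ← hv,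
        pow_orderOf_eq_one]
  obtain ⟨c, hcR, hc1, hcv⟩ : ∃ c ∈ R, c ≠ 1 ∧ Commute c v := by
    haveI := Fintype.ofFinite R
    have hcard : (Finset.univ.erase (1 : R)).card = 3 := by
      rw [Finset.card_erase_of_mem (Finset.mem_univ _), Finset.card_univ,
        ← Nat.card_eq_fintype_card, hR]
    obtain ⟨a, ha, b, hb, hab⟩ := Finset.one_lt_card.mp (by omega : 1 < (Finset.univ.erase (1 : R)).card)
    have ha1 : (a : G) ≠ 1 := fun e => (Finset.mem_erase.mp ha).1 (Subtype.ext e)
    have hb1 : (b : G) ≠ 1 := fun e => (Finset.mem_erase.mp hb).1 (Subtype.ext e)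
    rcases hsq a a.2 with h1 | h1
    · exact ⟨a, a.2, ha1, h1⟩
    rcases hsq b b.2 with h2 | h2
    · exact ⟨b, b.2, hb1, h2⟩
    refine ⟨(a : G)⁻¹ * b, mul_mem (inv_mem a.2) b.2, fun e => hab (Subtype.ext (inv_mul_eq_one.mp e)), ?_⟩
    refine mul_inv_eq_iff_eq_mul.mp ?_
    calc (a : G)⁻¹ * b * v * ((a : G)⁻¹ * b)⁻¹ = (a : G)⁻¹ * ((b : G) * v * (b : G)⁻¹) * a := by group
      _ = v := by rw [h2, ← h1]; group
  have hd : orderOf c ∣ 4 := hR ▸ orderOf_dvd_natCard R hcR
  have hne : orderOf c ≠ 1 := fun e => hc1 (orderOf_eq_one_iff.mp e)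
  have h2 : 2 ∣ orderOf c := by
    obtain ⟨i, -, hi⟩ := (Nat.dvd_prime_pow Nat.prime_two).mp (show orderOf c ∣ 2 ^ 2 by norm_num [hd])
    rw [hi]
    refine dvd_pow_self 2 fun e => hne ?_
    rw [hi, e, pow_zero]
  obtain ⟨e, he⟩ := h2
  have hpos := orderOf_pos c
  refine ⟨c ^ e, pow_mem hcR e, ?_, hcv.pow_left e⟩
  rw [orderOf_pow' c (by omega), he, Nat.gcd_eq_right (dvd_mul_left e 2),
    Nat.mul_div_cancel _ (by omega : 0 < e)]

variable [IsSimpleGroup G]

/-- An index thirteen configuration is impossible. -/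
theorem false_of_index_thirteen (h : Nat.card G = 5616) {t u : G} (ht : orderOf t = 2)
    (hu : orderOf u = 3) (htu : Commute t u)
    (hL : (normalizer ((zpowers u : Subgroup G) : Set G)).index = 13)
    (hU : ∀ s : G, orderOf s = 2 → ∀ v v' : G, orderOf v = 3 → orderOf v' = 3 → Commute s v → Commute s v' →
      zpowers v = zpowers v') : False := by
  classical
  haveI := Fintype.ofFinite G
  set L := normalizer ((zpowers u : Subgroup G) : Set G) with hLdef
  have hPc : Nat.card (zpowers u) = 3 := by rw [Nat.card_zpowers, hu]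
  haveI : Fact (Nat.Prime 2) := ⟨Nat.prime_two⟩
  haveI : Fact (Nat.Prime 3) := ⟨Nat.prime_three⟩
  have hLc : Nat.card L = 432 := by
    have h1 := L.card_mul_index
    rw [hL, h] at h1
    omega
  set K := centralizer ((zpowers u : Subgroup G) : Set G) with hKdef
  have hK8 : 8 ∣ Nat.card K := by
    obtain ⟨e, he, hcard⟩ := exists_card_normalizer_eq hPc
    rw [← hLdef, hLc, ← hKdef] at hcard
    have := Nat.le_of_dvd (by norm_num) he
    have he0 : e ≠ 0 := fun e0 => by rw [e0] at hcard; omega
    interval_cases e <;> omega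
  obtain ⟨T, hT⟩ := Sylow.exists_subgroup_card_pow_prime 2 (n := 3) (G := K) (by rw [show (2 : ℕ) ^ 3 = 8 by norm_num]; exact hK8)
  set X := G ⧸ L
  set x₀ : X := ((1 : G) : G ⧸ L) with hx₀
  have hu_fix : u • x₀ = x₀ := by
    rw [hx₀, MulAction.Quotient.smul_mk, smul_eq_mul, mul_one, QuotientGroup.eq, mul_one]
    exact inv_mem (le_normalizer (mem_zpowers u))
  have ht_fix : t • x₀ = x₀ := by
    rw [hx₀, MulAction.Quotient.smul_mk, smul_eq_mul, mul_one, QuotientGroup.eq, mul_one]
    refine inv_mem (mem_normalizer_of_conj ?_)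
    rw [htu.eq, mul_inv_cancel_right]
  set F : Set X := {x | u • x = x ∧ x ≠ x₀} with hF
  have hK_commute : ∀ k ∈ K, Commute k u := fun k hk =>
    (mem_centralizer_iff.mp hk u (mem_zpowers u)).symm
  have hinv : ∀ k ∈ K, ∀ x ∈ F, k • x ∈ F := by
    intro k hk x hx
    refine ⟨?_, fun e => hx.2 ?_⟩
    · rw [smul_smul, ← (hK_commute k hk).eq, mul_smul, hx.1]
    · have hk0 : k • x₀ = x₀ := by
        rw [hx₀, MulAction.Quotient.smul_mk, smul_eq_mul, mul_one, QuotientGroup.eq, mul_one]
        exact inv_mem (centralizer_le_normalizer' _ hk)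
      exact smul_left_cancel k (e.trans hk0.symm)
  letI : MulAction T F :=
    { smul := fun k x => ⟨((k : K) : G) • x.1, hinv _ (k : K).2 x.1 x.2⟩
      one_smul := fun x => Subtype.ext (one_smul G x.1)
      mul_smul := fun a b x => Subtype.ext (mul_smul ((a : K) : G) ((b : K) : G) x.1) }
  have horb : ∀ x : F, 4 ∣ Nat.card (MulAction.orbit T x) := by
    intro x
    have hmul := (MulAction.stabilizer T x).card_mul_index
    rw [hT, MulAction.index_stabilizer, ← Nat.card_coe_set_eq] at hmul
    have hd : Nat.card (MulAction.stabilizer T x) ∣ 2 ^ 3 := ⟨_, hmul.symm⟩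
    obtain ⟨i, hi, hi'⟩ := (Nat.dvd_prime_pow Nat.prime_two).mp hd
    rw [hi'] at hmul
    rcases Nat.lt_or_ge i 2 with hlt | hge
    · interval_cases i
      · exact ⟨2, by omega⟩
      · exact ⟨1, by omega⟩
    exfalso
    obtain ⟨R, hR⟩ := Sylow.exists_subgroup_card_pow_prime 2 (n := 2) (G := MulAction.stabilizer T x)
      (hi' ▸ pow_dvd_pow 2 hge)
    obtain ⟨g, hg⟩ := QuotientGroup.mk_surjective (x : X)
    set R' : Subgroup G :=
      R.map ((K.subtype.comp T.subtype).comp (MulAction.stabilizer T x).subtype) with hR'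
    have hR'c : Nat.card R' = 4 := by
      rw [hR', card_map_of_injective (f := (K.subtype.comp T.subtype).comp
        (MulAction.stabilizer T x).subtype) (fun a b e => Subtype.ext (Subtype.ext (Subtype.ext e))), hR]
      norm_num
    have hR'K : ∀ a ∈ R', a ∈ K ∧ a • (x : X) = x := by
      rintro _ ⟨a, -, rfl⟩
      exact ⟨((a : T) : K).2, congrArg Subtype.val a.2⟩
    have hv : orderOf (g * u * g⁻¹) = 3 := by rw [orderOf_conj_eq, hu]
    obtain ⟨s, hs, hs2, hsv⟩ := exists_involution_commute hR'c hv fun a ha => by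
      obtain ⟨-, hax⟩ := hR'K a ha
      rw [← hg, MulAction.Quotient.smul_mk, smul_eq_mul, QuotientGroup.eq] at hax
      have h1 := conj_of_mem_normalizer (inv_mem hax)
      refine mem_normalizer_of_conj ?_
      have h2 := congrArg (fun H : Subgroup G => H.map (MulAut.conj g).toMonoidHom) h1
      simp only [MonoidHom.map_zpowers, MulEquiv.coe_toMonoidHom, MulAut.conj_apply] at h2
      rw [show g * ((((a * g)⁻¹ * g)⁻¹) * u * ((a * g)⁻¹ * g)⁻¹⁻¹) * g⁻¹ =
        a * (g * u * g⁻¹) * a⁻¹ by group] at h2
      exact h2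
    have hsu : Commute s u := hK_commute s (hR'K s hs).1
    have hgL : g ∈ L := mem_normalizer_of_conj (hU s hs2 _ _ hv hu hsv hsu)
    exact x.2.2 (hg.symm.trans (by rw [hx₀, QuotientGroup.eq, mul_one]; exact inv_mem hgL))
  have hF4 : 4 ∣ Nat.card F := by
    haveI := Fintype.ofFinite F
    haveI : Fintype (Quotient (MulAction.orbitRel T F)) := Fintype.ofFinite _
    rw [Nat.card_congr (MulAction.selfEquivSigmaOrbits T F), Nat.card_sigma]
    exact Finset.dvd_sum fun w _ => horb w.out
  have hu3 : u ^ 3 = 1 := by rw [← hu, pow_orderOf_eq_one]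
  have hX : Nat.card X = 13 := by rw [← hL, index_eq_card]
  have hfix : Nat.card (MulAction.fixedBy X u) = Nat.card F + 1 := by
    rw [Nat.card_coe_set_eq, Nat.card_coe_set_eq]
    have : MulAction.fixedBy X u = insert x₀ F := by
      ext y
      simp only [MulAction.mem_fixedBy, Set.mem_insert_iff, hF, Set.mem_setOf_eq]
      constructor
      · intro hy
        rcases eq_or_ne y x₀ with e | e
        · exact Or.inl e
        · exact Or.inr ⟨hy, e⟩
      · rintro (rfl | ⟨hy, -⟩)
        · exact hu_fix
        · exact hy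
    rw [this, Set.ncard_insert_of_notMem (fun hx => hx.2 rfl) (Set.toFinite _)]
  have hmod := Order7920.card_fixedBy_modEq (X := X) (p := 3) hu3
  have hadd := Order7920.card_fixedBy_add_moved (X := X) u
  rw [hX] at hmod hadd
  rw [hfix] at hmod hadd
  obtain ⟨c, hc⟩ := hF4
  have hF0 : Nat.card F = 0 := by
    by_contra hne
    have hmoved : Nat.card {a : X | u • a ≠ a} = 0 := by omega
    have hall : ∀ a : X, u • a = a := by
      intro a
      by_contra ha
      haveI : IsEmpty {a : X | u • a ≠ a} := Finite.card_eq_zero_iff.mp hmoved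
      exact isEmptyElim (⟨a, ha⟩ : {a : X | u • a ≠ a})
    have hu1 : u = 1 := toPermHom_injective (H := L)
      (fun e => by rw [e, index_top] at hL; norm_num at hL)
      (Equiv.ext fun a => by rw [map_one]; exact hall a)
    rw [hu1, orderOf_one] at hu
    norm_num at hu
  have h5 := card_fixed_thirteen h hL ht
  have hd := Order7920.dvd_card_moved (X := X) (p := 3) (y := u) (z := t) hu3 htu.symm fun a ha => by
    by_cases hax : a = x₀
    · rw [hax]; exact ht_fix
    · exfalso
      haveI : IsEmpty F := Finite.card_eq_zero_iff.mp hF0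
      exact isEmptyElim (⟨a, ha, hax⟩ : F)
  have hadd' := Order7920.card_fixedBy_add_moved (X := X) t
  rw [hX, h5] at hadd'
  omega

/-- A four-group of involutions permuted transitively is impossible. -/
theorem false_of_three (h : Nat.card G = 5616) {t u : G} (ht : orderOf t = 2)
    (htu : Commute t u) (hu : orderOf u = 3)
    (hL : Nat.card (normalizer ((zpowers u : Subgroup G) : Set G)) = 144)
    (hI : Nat.card {s : G // orderOf s = 2 ∧ Commute s u} = 3)
    (htr : ∀ s, orderOf s = 2 → Commute s u →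
      ∃ g ∈ normalizer ((zpowers u : Subgroup G) : Set G), g * t * g⁻¹ = s)
    (hle : centralizer ({t} : Set G) ≤ normalizer ((zpowers u : Subgroup G) : Set G)) : False := by
  classical
  haveI := Fintype.ofFinite G
  haveI : Fact (Nat.Prime 2) := ⟨Nat.prime_two⟩
  set L := normalizer ((zpowers u : Subgroup G) : Set G) with hLdef
  have hPc : Nat.card (zpowers u) = 3 := by rw [Nat.card_zpowers, hu]
  set I : Set G := {s | orderOf s = 2 ∧ Commute s u} with hIdef
  have hI3 : I.ncard = 3 := by rw [← Nat.card_coe_set_eq]; exact hI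
  have hconjI : ∀ g ∈ L, ∀ s ∈ I, g * s * g⁻¹ ∈ I := by
    intro g hg s hs
    refine ⟨by rw [orderOf_conj_eq]; exact hs.1, commute_of_zpowers_eq (conj_of_mem_normalizer hg) ?_⟩
    exact (Commute.map hs.2 (MulAut.conj g).toMonoidHom)
  have htI : t ∈ I := ⟨ht, htu⟩
  obtain ⟨t2, ht2I, ht2⟩ := Set.exists_ne_of_one_lt_ncard (by omega : 1 < I.ncard) t
  obtain ⟨t3, hI'⟩ : ∃ t3, I = {t, t2, t3} ∧ t3 ≠ t ∧ t3 ≠ t2 := by
    have h1 : (I \ {t, t2}).ncard = 1 := by
      rw [Set.ncard_sdiff (Set.insert_subset htI (Set.singleton_subset_iff.mpr ht2I)) (Set.toFinite _),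
        Set.ncard_pair ht2.symm, hI3]
    obtain ⟨t3, h3⟩ := Set.ncard_eq_one.mp h1
    have h3m : t3 ∈ I \ {t, t2} := h3 ▸ Set.mem_singleton t3
    simp only [Set.mem_sdiff, Set.mem_insert_iff, Set.mem_singleton_iff, not_or] at h3m
    refine ⟨t3, ?_, h3m.2.1, h3m.2.2⟩
    rw [← Set.union_sdiff_cancel (Set.insert_subset htI (Set.singleton_subset_iff.mpr ht2I)), h3]
    ext y
    simp [or_assoc]
    tauto
  obtain ⟨hI', ht3t, ht32⟩ := hI'
  have hmem : ∀ {s}, s ∈ I → s = t ∨ s = t2 ∨ s = t3 := fun hs => by
    rw [hI'] at hs; simpa using hs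
  have ht3I : t3 ∈ I := by rw [hI']; simp
  set C := centralizer ({t} : Set G) with hCdef
  have hC : Nat.card C = 48 := card_centralizer_involution h ht
  have hCfix : ∀ g ∈ C, g * t * g⁻¹ = t := fun g hg => by
    rw [mem_centralizer_singleton_iff.mp hg, mul_inv_cancel_right]
  -- the stabiliser of a member in `C(t)`
  have hperm : ∀ g ∈ C, g * t2 * g⁻¹ = t2 ∨ g * t2 * g⁻¹ = t3 := by
    intro g hg
    rcases hmem (hconjI g (hle hg) t2 ht2I) with e | e | e
    · exfalso
      exact ht2 (mul_left_cancel (mul_right_cancel (e.trans (hCfix g hg).symm)))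
    · exact Or.inl e
    · exact Or.inr e
  set N := C ⊓ centralizer ({t2} : Set G) with hNdef
  have hNidx : 24 ∣ Nat.card N ∧ ((∃ g ∈ C, g * t2 * g⁻¹ = t3) → Nat.card N = 24) := by
    have hidx : ∀ a b : C, (a : G) * t2 * (a : G)⁻¹ = (b : G) * t2 * (b : G)⁻¹ →
        (QuotientGroup.mk a : C ⧸ N.subgroupOf C) = QuotientGroup.mk b := by
      intro a b e
      rw [QuotientGroup.eq, mem_subgroupOf, hNdef, Subgroup.mem_inf]
      refine ⟨(a⁻¹ * b).2, mem_centralizer_singleton_iff.mpr ?_⟩
      push_cast
      calc (a : G)⁻¹ * b * t2 = (a : G)⁻¹ * ((b : G) * t2 * (b : G)⁻¹) * b := by group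
        _ = t2 * ((a : G)⁻¹ * b) := by rw [← e]; group
    have hsub : ∀ q : C ⧸ N.subgroupOf C, ∀ r s : C ⧸ N.subgroupOf C, q = r ∨ q = s ∨ r = s := by
      intro q r s
      induction q using QuotientGroup.induction_on with
      | H a =>
        induction r using QuotientGroup.induction_on with
        | H b =>
          induction s using QuotientGroup.induction_on with
          | H c =>
            rcases hperm a a.2 with ea | ea <;> rcases hperm b b.2 with eb | eb <;>
              rcases hperm c c.2 with ec | ec <;>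
              first
                | exact Or.inl (hidx a b (ea.trans eb.symm))
                | exact Or.inr (Or.inl (hidx a c (ea.trans ec.symm)))
                | exact Or.inr (Or.inr (hidx b c (eb.trans ec.symm)))
    have h1 := (N.subgroupOf C).card_mul_index
    rw [Nat.card_congr (subgroupOfEquivOfLe (inf_le_left : N ≤ C)).toEquiv, hC, index_eq_card] at h1
    have h2 : Nat.card (C ⧸ N.subgroupOf C) ≤ 2 := by
      by_contra h3
      haveI := Fintype.ofFinite (C ⧸ N.subgroupOf C)
      obtain ⟨q, r, s, hqr, hqs, hrs⟩ := Fintype.two_lt_card_iff.mp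
        (show 2 < Fintype.card (C ⧸ N.subgroupOf C) by rw [← Nat.card_eq_fintype_card]; omega)
      rcases hsub q r s with e | e | e
      · exact hqr e
      · exact hqs e
      · exact hrs e
    have hpos : 0 < Nat.card (C ⧸ N.subgroupOf C) := Nat.card_pos
    change Nat.card N * Nat.card (C ⧸ N.subgroupOf C) = 48 at h1
    constructor
    · rcases (show Nat.card (C ⧸ N.subgroupOf C) = 1 ∨ Nat.card (C ⧸ N.subgroupOf C) = 2 by omega)
        with e | e <;> rw [e] at h1 <;> omega
    · rintro ⟨g, hg, hg3⟩
      have h4 : 1 < Nat.card (C ⧸ N.subgroupOf C) := by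
        rw [Finite.one_lt_card_iff_nontrivial]
        refine ⟨QuotientGroup.mk 1, QuotientGroup.mk ⟨g, hg⟩, fun e => ?_⟩
        rw [QuotientGroup.eq, inv_one, one_mul, mem_subgroupOf, hNdef, Subgroup.mem_inf,
          mem_centralizer_singleton_iff] at e
        have e2 : g * t2 = t2 * g := mem_centralizer_singleton_iff.mp e.2
        rw [e2, mul_inv_cancel_right] at hg3
        exact ht32 hg3.symm
      rw [show Nat.card (C ⧸ N.subgroupOf C) = 2 by omega] at h1
      omega
  -- the three involutions commute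
  obtain ⟨z, hz2, hzu, hzt, hzt2⟩ : ∃ z, orderOf z = 2 ∧ Commute z u ∧ Commute z t ∧ Commute z t2 := by
    obtain ⟨R, hR⟩ := Sylow.exists_subgroup_card_pow_prime 2 (n := 2) (G := N)
      (dvd_trans (by norm_num) hNidx.1)
    obtain ⟨s, hs, hs2, hsu⟩ := exists_involution_commute (R := R.map N.subtype)
      (by rw [card_map_of_injective N.subtype_injective, hR]; norm_num) hu fun a ha => by
        obtain ⟨b, -, rfl⟩ := ha
        exact hle b.2.1
    obtain ⟨b, -, rfl⟩ := hs
    exact ⟨_, hs2, hsu, mem_centralizer_singleton_iff.mp b.2.1, mem_centralizer_singleton_iff.mp b.2.2⟩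
  have hcomm : Commute t t2 := by
    rcases hmem ⟨hz2, hzu⟩ with e | e | e
    · exact e ▸ hzt2
    · exact (e ▸ hzt).symm
    · subst e
      obtain ⟨g, hg, hgt⟩ := htr z hz2 hzu
      have hall : ∀ s ∈ I, Commute z s := fun s hs => by
        rcases hmem hs with rfl | rfl | rfl
        · exact hzt
        · exact hzt2
        · exact Commute.refl _
      have h1 := hall _ (hconjI g hg t2 ht2I)
      rw [← hgt] at h1
      have h2 := Commute.map h1 (MulAut.conj g⁻¹).toMonoidHom
      simpa [MulAut.conj_apply, mul_assoc] using h2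
  have htt : t * t = 1 := by rw [← pow_two, ← ht, pow_orderOf_eq_one]
  have ht22 : t2 * t2 = 1 := by rw [← pow_two, ← ht2I.1, pow_orderOf_eq_one]
  have h123 : t * t2 = t3 := by
    have hne1 : t * t2 ≠ 1 := fun e => ht2 (by
      rw [← mul_right_inj t, e, htt])
    rcases hmem (⟨orderOf_eq_prime (by rw [pow_two, hcomm.symm.mul_mul_mul_comm, htt, ht22, one_mul]) hne1,
      htu.mul_left ht2I.2⟩ : t * t2 ∈ I) with e | e | e
    · exact absurd (mul_eq_left.mp e) fun e' => by
        rw [e'] at ht22; exact absurd ht2I.1 (by rw [e', orderOf_one]; norm_num)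
    · exact absurd (mul_eq_right.mp e) fun e' => by
        rw [e', orderOf_one] at ht; norm_num at ht
    · exact e
  -- involutions fixing the four group lie in it
  have hinA : ∀ s, orderOf s = 2 → Commute s t → Commute s t2 → s = t ∨ s = t2 ∨ s = t3 := by
    intro s hs hst hst2
    by_contra hne
    have hss : s * s = 1 := by rw [← pow_two, ← hs, pow_orderOf_eq_one]
    set E := closure ({s, t, t2} : Set G) with hEdef
    haveI : IsMulCommutative E := isMulCommutative_closure (by
      rintro a (rfl | rfl | rfl) b (rfl | rfl | rfl)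
      exacts [rfl, hst, hst2, hst.symm, rfl, hcomm, hst2.symm, hcomm.symm, rfl])
    have hEsq : ∀ a ∈ E, a * a = 1 := by
      intro a ha
      induction ha using closure_induction with
      | mem a ha =>
        rcases ha with rfl | rfl | rfl
        exacts [hss, htt, ht22]
      | one => exact one_mul 1
      | mul a b ha hb iha ihb =>
        have hab : Commute b a := congrArg Subtype.val (mul_comm' (⟨b, hb⟩ : E) ⟨a, ha⟩)
        rw [hab.mul_mul_mul_comm, iha, ihb, one_mul]
      | inv a _ iha => rw [← mul_inv_rev, iha, inv_one]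
    have hP : IsPGroup 2 E := fun a => ⟨1, Subtype.ext (by
      rw [pow_one, pow_two]; exact hEsq a a.2)⟩
    obtain ⟨k, hk⟩ := IsPGroup.iff_card.mp hP
    have hd : 2 ^ k ∣ 5616 := hk ▸ h ▸ card_subgroup_dvd_card E
    set A := closure ({t, t2} : Set G)
    have hA : ∀ a ∈ A, a = 1 ∨ a = t ∨ a = t2 ∨ a = t3 := by
      intro a ha
      induction ha using closure_induction with
      | mem a ha => rcases ha with rfl | rfl <;> tauto
      | one => tauto
      | mul a b _ _ iha ihb =>
        have e1 : t * t3 = t2 := by rw [← h123, ← mul_assoc, htt, one_mul]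
        have e2 : t3 * t = t2 := by rw [← h123, hcomm.eq, mul_assoc, htt, mul_one]
        have e3 : t2 * t3 = t := by rw [← h123, hcomm.eq, ← mul_assoc, ht22, one_mul]
        have e4 : t3 * t2 = t := by rw [← h123, mul_assoc, ht22, mul_one]
        have e5 : t2 * t = t3 := by rw [← hcomm.eq, h123]
        have e6 : t3 * t3 = 1 := by
          rw [← h123, hcomm.symm.mul_mul_mul_comm, htt, ht22, one_mul]
        rcases iha with rfl | rfl | rfl | rfl <;> rcases ihb with rfl | rfl | rfl | rfl <;>
          simp [htt, ht22, h123, e1, e2, e3, e4, e5, e6]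
      | inv a _ iha =>
        have e6 : t3⁻¹ = t3 := by
          rw [← h123, mul_inv_rev, inv_eq_of_mul_eq_one_right htt,
            inv_eq_of_mul_eq_one_right ht22, hcomm.eq]
        rcases iha with rfl | rfl | rfl | rfl <;>
          simp [inv_eq_of_mul_eq_one_right htt, inv_eq_of_mul_eq_one_right ht22, e6]
    have hsA : s ∉ A := fun hs' => by
      rcases hA s hs' with e | e | e | e
      · rw [e, orderOf_one] at hs; norm_num at hs
      · exact hne (Or.inl e)
      · exact hne (Or.inr (Or.inl e))
      · exact hne (Or.inr (Or.inr e))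
    have hA4 : 4 ≤ Nat.card A := by
      have hle' : ({1, t, t2, t3} : Set G) ⊆ A := by
        rintro a (rfl | rfl | rfl | rfl)
        exacts [one_mem _, subset_closure (by simp), subset_closure (by simp),
          h123 ▸ mul_mem (subset_closure (by simp)) (subset_closure (by simp))]
      have h1 := Set.ncard_le_ncard hle' (Set.toFinite _)
      have hne2 : ∀ {a : G}, a ∈ I → (1 : G) ≠ a := fun ha e => by
        have := ha.1; rw [← e, orderOf_one] at this; norm_num at this
      rw [Set.ncard_insert_of_notMem (by simp [hne2 htI, hne2 ht2I, hne2 ht3I]) (Set.toFinite _),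
        Set.ncard_eq_three.mpr ⟨t, t2, t3, ht2.symm, ht3t.symm, ht32.symm, rfl⟩] at h1
      rwa [← Nat.card_coe_set_eq] at h1
    have hAE : A ≤ E := closure_mono (by intro a ha; exact Set.mem_insert_of_mem _ ha)
    have hlt : A < E := lt_of_le_of_ne hAE fun e => hsA (e ▸ subset_closure (by simp))
    have h8 : 8 ≤ Nat.card E := by
      have h1 := card_dvd_of_le hAE
      have h2 : Nat.card A ≠ Nat.card E := fun e =>
        hlt.ne (Subgroup.eq_of_le_of_card_ge hAE e.ge)
      obtain ⟨q, hq⟩ := h1
      have : q ≠ 0 := fun e => by rw [e, mul_zero] at hq; exact absurd hq Nat.card_pos.ne'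
      have : q ≠ 1 := fun e => by rw [e, mul_one] at hq; exact absurd hq.symm h2
      have : 2 ≤ q := by omega
      nlinarith
    rw [hk] at h8
    obtain ⟨R, hR, -⟩ := Sylow.exists_subgroup_card_pow_prime_le 2 (n := 0) (m := 3) (G := E)
      (by rw [hk]; exact pow_dvd_pow 2 ((Nat.pow_le_pow_iff_right (by norm_num)).mp
        (show 2 ^ 3 ≤ 2 ^ k by norm_num; omega))) ⊥ (by rw [card_bot, pow_zero]) (Nat.zero_le _)
    refine no_eight h (R.map E.subtype) (by rw [card_map_of_injective E.subtype_injective, hR]; norm_num) ?_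
    rintro _ ⟨a, -, rfl⟩
    exact hEsq a a.2
  -- some member of `C(t)` interchanges the other two
  have hswap : ∃ g ∈ C, g * t2 * g⁻¹ = t3 := by
    by_contra hno
    push Not at hno
    have hsub : ∀ s : {s : G // orderOf s = 2 ∧ Commute s t ∧ s ≠ t},
        (s : G) = t2 ∨ (s : G) = t3 := by
      intro s
      have hsC : (s : G) ∈ C := mem_centralizer_singleton_iff.mpr s.2.2.1.eq
      have h1 := (hperm _ hsC).resolve_right (hno _ hsC)
      rcases hinA _ s.2.1 s.2.2.1 (mul_inv_eq_iff_eq_mul.mp h1) with e | e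
      · exact absurd e s.2.2.2
      · exact e
    have h1 : Nat.card {s : G // orderOf s = 2 ∧ Commute s t ∧ s ≠ t} ≤ 2 := by
      refine (Nat.card_le_card_of_injective (fun s : {s : G // orderOf s = 2 ∧ Commute s t ∧ s ≠ t} => decide (s.1 = t2)) ?_).trans_eq
        (by rw [Nat.card_eq_fintype_card, Fintype.card_bool])
      intro a b e
      apply Subtype.ext
      rcases hsub a with ea | ea <;> rcases hsub b with eb | eb <;>
        simp [ea, eb, ht32] at e ⊢
    have := seven_le h ht
    omega
  have hN24 : Nat.card N = 24 := hNidx.2 hswap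
  -- the square of an element of order four in `N`
  have huN : u ∈ N := ⟨mem_centralizer_singleton_iff.mpr htu.symm.eq,
    mem_centralizer_singleton_iff.mpr ht2I.2.symm.eq⟩
  obtain ⟨Q⟩ := (inferInstance : Nonempty (Sylow 2 N))
  have hQ : Nat.card (Q : Subgroup N) = 8 :=
    (SmallGroups.card_sylow_eq Q (k := 3) (m := 3) (by rw [hN24]; norm_num) (by norm_num)).trans (by norm_num)
  have htN : t ∈ N := ⟨mem_centralizer_singleton_iff.mpr rfl, mem_centralizer_singleton_iff.mpr hcomm.eq⟩
  have ht2N : t2 ∈ N := ⟨mem_centralizer_singleton_iff.mpr hcomm.symm.eq, mem_centralizer_singleton_iff.mpr rfl⟩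
  have hcen : ∀ a : N, Commute (a : G) t ∧ Commute (a : G) t2 := fun a =>
    ⟨mem_centralizer_singleton_iff.mp a.2.1, mem_centralizer_singleton_iff.mp a.2.2⟩
  have hcentral : ∀ a : N, (a : G) = t ∨ (a : G) = t2 → a ∈ (Q : Subgroup N) := by
    intro a ha
    have hnorm : (zpowers a).Normal := ⟨fun b hb g => by
      have hga : Commute g a := by
        rcases ha with e | e
        · exact Subtype.ext (show (g : G) * a = a * g by rw [e]; exact (hcen g).1)
        · exact Subtype.ext (show (g : G) * a = a * g by rw [e]; exact (hcen g).2)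
      obtain ⟨j, rfl⟩ := hb
      change g * a ^ j * g⁻¹ ∈ zpowers a
      rw [(hga.zpow_right j).eq, mul_inv_cancel_right]
      exact zpow_mem (mem_zpowers a) j⟩
    have hp : IsPGroup 2 (zpowers a) := IsPGroup.of_card (n := 1) (by
      rw [Nat.card_zpowers, ← orderOf_coe, pow_one]
      rcases ha with e | e <;> rw [e]
      exacts [ht, ht2I.1])
    obtain ⟨Q', hQ'⟩ := hp.exists_le_sylow
    obtain ⟨g, hg⟩ := MulAction.exists_smul_eq N Q' Q
    have h1 : g * a * g⁻¹ ∈ (Q : Subgroup N) := by
      rw [← hg, Sylow.coe_subgroup_smul]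
      exact ⟨a, hQ' (mem_zpowers a), rfl⟩
    have hga : g * a * g⁻¹ = a := by
      rcases ha with e | e
      · exact Subtype.ext (show (g : G) * a * (g : G)⁻¹ = a by
          rw [e, (hcen g).1.eq, mul_inv_cancel_right])
      · exact Subtype.ext (show (g : G) * a * (g : G)⁻¹ = a by
          rw [e, (hcen g).2.eq, mul_inv_cancel_right])
    rwa [hga] at h1
  -- elements of `Q` outside the four group all have the same square
  set Ag : Set G := {1, t, t2, t3} with hAg
  have hsquare : ∃ z ∈ I, ∀ q : N, q ∈ (Q : Subgroup N) → (q : G) ∉ Ag → (q : G) * q = z := by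
    haveI := Fintype.ofFinite (Q : Subgroup N)
    obtain ⟨q₀, hq₀, hq₀A⟩ : ∃ q : N, q ∈ (Q : Subgroup N) ∧ (q : G) ∉ Ag := by
      by_contra hno
      push Not at hno
      have h1 : Nat.card (Q : Subgroup N) ≤ Ag.ncard := by
        rw [← Nat.card_coe_set_eq Ag]
        refine Nat.card_le_card_of_injective (fun q => (⟨((q : N) : G), hno q q.2⟩ : Ag)) fun a b e => ?_
        exact Subtype.ext (Subtype.ext (congrArg Subtype.val e :))
      have h2 : Ag.ncard ≤ 4 := by
        refine (Set.ncard_insert_le _ _).trans (Nat.succ_le_succ ?_)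
        refine (Set.ncard_insert_le _ _).trans (Nat.succ_le_succ ?_)
        exact (Set.ncard_insert_le _ _).trans (by simp)
      omega
    set AQ : Subgroup (Q : Subgroup N) := closure
      {⟨⟨t, htN⟩, hcentral _ (Or.inl rfl)⟩, ⟨⟨t2, ht2N⟩, hcentral _ (Or.inr rfl)⟩} with hAQ
    have hAQA : ∀ a ∈ AQ, ((a : N) : G) ∈ Ag := by
      intro a ha
      induction ha using closure_induction with
      | mem a ha => rcases ha with rfl | rfl <;> simp [hAg]
      | one => simp [hAg]
      | mul a b _ _ iha ihb =>
        have e1 : t * t3 = t2 := by rw [← h123, ← mul_assoc, htt, one_mul]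
        have e2 : t3 * t = t2 := by rw [← h123, hcomm.eq, mul_assoc, htt, mul_one]
        have e3 : t2 * t3 = t := by rw [← h123, hcomm.eq, ← mul_assoc, ht22, one_mul]
        have e4 : t3 * t2 = t := by rw [← h123, mul_assoc, ht22, mul_one]
        have e5 : t2 * t = t3 := by rw [← hcomm.eq, h123]
        have e6 : t3 * t3 = 1 := by rw [← h123, hcomm.symm.mul_mul_mul_comm, htt, ht22, one_mul]
        simp only [hAg, Set.mem_insert_iff, Set.mem_singleton_iff] at iha ihb ⊢
        push_cast
        rcases iha with e | e | e | e <;> rcases ihb with e' | e' | e' | e' <;>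
          simp [e, e', htt, ht22, h123, e1, e2, e3, e4, e5, e6]
      | inv a _ iha =>
        have e6 : t3⁻¹ = t3 := by
          rw [← h123, mul_inv_rev, inv_eq_of_mul_eq_one_right htt,
            inv_eq_of_mul_eq_one_right ht22, hcomm.eq]
        simp only [hAg, Set.mem_insert_iff, Set.mem_singleton_iff] at iha ⊢
        push_cast
        rcases iha with e | e | e | e <;>
          simp [e, inv_eq_of_mul_eq_one_right htt, inv_eq_of_mul_eq_one_right ht22, e6]
    have hidx : AQ.index = 2 := by
      have h1 := AQ.card_mul_index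
      rw [hQ] at h1
      have h2 : 4 ≤ Nat.card AQ := by
        have hle' : Ag ⊆ (fun a : (Q : Subgroup N) => ((a : N) : G)) '' (AQ : Set (Q : Subgroup N)) := by
          have mt : (⟨⟨t, htN⟩, hcentral _ (Or.inl rfl)⟩ : (Q : Subgroup N)) ∈ AQ :=
            subset_closure (Set.mem_insert _ _)
          have mt2 : (⟨⟨t2, ht2N⟩, hcentral _ (Or.inr rfl)⟩ : (Q : Subgroup N)) ∈ AQ :=
            subset_closure (Set.mem_insert_of_mem _ rfl)
          rintro a (rfl | rfl | rfl | rfl)
          exacts [⟨1, one_mem _, rfl⟩, ⟨_, mt, rfl⟩, ⟨_, mt2, rfl⟩, ⟨_, mul_mem mt mt2, h123⟩]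
        have h3 := Set.ncard_le_ncard hle' (Set.toFinite _)
        have hne2 : ∀ {a : G}, a ∈ I → (1 : G) ≠ a := fun ha e => by
          have := ha.1; rw [← e, orderOf_one] at this; norm_num at this
        rw [hAg, Set.ncard_insert_of_notMem (by simp [hne2 htI, hne2 ht2I, hne2 ht3I]) (Set.toFinite _),
          Set.ncard_eq_three.mpr ⟨t, t2, t3, ht2.symm, ht3t.symm, ht32.symm, rfl⟩] at h3
        exact h3.trans ((Set.ncard_image_le (Set.toFinite _)).trans_eq (Nat.card_coe_set_eq _).symm)
      have h4 : AQ.index ≠ 1 := fun e => hq₀A (hAQA ⟨q₀, hq₀⟩ (index_eq_one.mp e ▸ mem_top _))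
      have : AQ.index ≠ 0 := AQ.index_ne_zero_of_finite
      by_contra hne
      have : 3 ≤ AQ.index := by omega
      nlinarith
    have hq2 : ∀ q : N, q ∈ (Q : Subgroup N) → (q : G) ∉ Ag →
        (q : G) * q ∈ Ag ∧ (q : G) * q ≠ 1 := by
      intro q hq hqA
      refine ⟨hAQA ⟨q * q, mul_mem hq hq⟩ (mul_self_mem_of_index_two hidx ⟨q, hq⟩), fun e => ?_⟩
      have hq1 : (q : G) ≠ 1 := fun e1 => hqA (by rw [e1]; exact Set.mem_insert _ _)
      rcases hinA _ (orderOf_eq_prime (by rw [pow_two]; exact e) hq1) (hcen q).1 (hcen q).2 with e' | e' | e' <;>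
        exact hqA (by rw [e']; simp [hAg])
    obtain ⟨hz, hz1⟩ := hq2 q₀ hq₀ hq₀A
    refine ⟨(q₀ : G) * q₀, ?_, fun q hq hqA => ?_⟩
    · rw [hI']
      rcases hz with e | e | e | e
      · exact absurd e hz1
      all_goals simp_all
    have h1 : (⟨q₀, hq₀⟩ : (Q : Subgroup N))⁻¹ * ⟨q, hq⟩ ∈ AQ := by
      rw [mul_mem_iff_of_index_two hidx, inv_mem_iff]
      exact ⟨fun h' => absurd (hAQA _ h') hq₀A, fun h' => absurd (hAQA _ h') hqA⟩
    have h2 := hAQA _ h1
    push_cast at h2
    set a := (q₀ : G)⁻¹ * q with ha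
    have hq' : (q : G) = q₀ * a := by rw [ha, mul_inv_cancel_left]
    have hca : Commute a q₀ ∧ a * a = 1 := by
      rcases h2 with e | e | e | e <;> rw [e]
      · exact ⟨Commute.one_left _, one_mul 1⟩
      · exact ⟨(hcen q₀).1.symm, htt⟩
      · exact ⟨(hcen q₀).2.symm, ht22⟩
      · refine ⟨h123 ▸ ((hcen q₀).1.symm.mul_left (hcen q₀).2.symm), ?_⟩
        rw [← h123, hcomm.symm.mul_mul_mul_comm, htt, ht22, one_mul]
    rw [hq', hca.1.mul_mul_mul_comm, hca.2, mul_one]
  obtain ⟨z, hzI, hzsq⟩ := hsquare
  -- every element of order four in `N` squares to `z`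
  have hzN : ∀ g : N, (g : G) * g ≠ 1 → (g : G) * g * ((g : G) * g) = 1 → (g : G) * g = z := by
    intro g hg2 hg4
    have hp : IsPGroup 2 (zpowers g) := IsPGroup.of_card (n := 2) (by
      rw [Nat.card_zpowers]
      refine orderOf_eq_prime_pow ?_ ?_
      · intro e
        exact hg2 (by have := congrArg Subtype.val e; simpa [pow_two] using this)
      · refine Subtype.ext ?_
        show ((g : G)) ^ (2 ^ (1 + 1)) = 1
        rw [show 2 ^ (1 + 1) = 2 * 2 by norm_num, pow_mul, pow_two, pow_two]
        exact hg4)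
    obtain ⟨Q', hQ'⟩ := hp.exists_le_sylow
    obtain ⟨b, hb⟩ := MulAction.exists_smul_eq N Q' Q
    have h1 : b * g * b⁻¹ ∈ (Q : Subgroup N) := by
      rw [← hb, Sylow.coe_subgroup_smul]
      exact ⟨g, hQ' (mem_zpowers g), rfl⟩
    have hsq2 : ((b * g * b⁻¹ : N) : G) * ((b * g * b⁻¹ : N) : G) = b * ((g : G) * g) * (b : G)⁻¹ := by
      push_cast; group
    have hnotA : ((b * g * b⁻¹ : N) : G) ∉ Ag := by
      intro hA'
      have e : ((b * g * b⁻¹ : N) : G) * ((b * g * b⁻¹ : N) : G) = 1 := by
        rcases hA' with e | e | e | e <;> rw [e]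
        · exact one_mul 1
        · exact htt
        · exact ht22
        · rw [← h123, hcomm.symm.mul_mul_mul_comm, htt, ht22, one_mul]
      rw [hsq2, conj_eq_one_iff] at e
      exact hg2 e
    have h2 := hzsq _ h1 hnotA
    rw [hsq2] at h2
    have hbz : Commute (b : G) z := by
      rcases hmem hzI with rfl | rfl | rfl
      · exact (hcen b).1
      · exact (hcen b).2
      · exact h123 ▸ (hcen b).1.mul_right (hcen b).2
    rw [mul_inv_eq_iff_eq_mul, ← hbz.eq] at h2
    exact mul_left_cancel h2
  -- `z` is fixed by `L`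
  obtain ⟨q, hqQ, hqA⟩ : ∃ q : N, q ∈ (Q : Subgroup N) ∧ (q : G) ∉ Ag := by
    by_contra hno
    push Not at hno
    have h1 : Nat.card (Q : Subgroup N) ≤ Ag.ncard := by
      rw [← Nat.card_coe_set_eq Ag]
      refine Nat.card_le_card_of_injective (fun q => (⟨((q : N) : G), hno q q.2⟩ : Ag)) fun a b e => ?_
      exact Subtype.ext (Subtype.ext (congrArg Subtype.val e :))
    have h2 : Ag.ncard ≤ 4 := by
      refine (Set.ncard_insert_le _ _).trans (Nat.succ_le_succ ?_)
      refine (Set.ncard_insert_le _ _).trans (Nat.succ_le_succ ?_)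
      exact (Set.ncard_insert_le _ _).trans (by simp)
    omega
  have hqq := hzsq q hqQ hqA
  have hfix : ∀ g ∈ L, g * z * g⁻¹ = z := by
    intro g hg
    have hgN : g * q * g⁻¹ ∈ N := by
      have hcA : ∀ s ∈ I, Commute (g * q * g⁻¹) s := by
        intro s hs
        have hs' := hconjI g⁻¹ (inv_mem hg) s hs
        have hc : Commute (q : G) (g⁻¹ * s * g⁻¹⁻¹) := by
          rcases hmem hs' with e | e | e <;> rw [e]
          · exact (hcen q).1
          · exact (hcen q).2
          · exact h123 ▸ (hcen q).1.mul_right (hcen q).2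
        have := Commute.map hc (MulAut.conj g).toMonoidHom
        simpa [MulAut.conj_apply, mul_assoc] using this
      exact ⟨mem_centralizer_singleton_iff.mpr (hcA t htI).eq,
        mem_centralizer_singleton_iff.mpr (hcA t2 ht2I).eq⟩
    have hzz : z * z = 1 := by rw [← pow_two, ← hzI.1, pow_orderOf_eq_one]
    have e : g * (q : G) * g⁻¹ * (g * q * g⁻¹) = g * z * g⁻¹ := by rw [← hqq]; group
    rw [← e]
    refine hzN ⟨_, hgN⟩ ?_ ?_
    · rw [e, ne_eq, conj_eq_one_iff]
      intro hz1
      have := hzI.1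
      rw [hz1, orderOf_one] at this
      norm_num at this
    · rw [e]
      calc g * z * g⁻¹ * (g * z * g⁻¹) = g * (z * z) * g⁻¹ := by group
        _ = 1 := by rw [hzz]; group
  obtain ⟨g, hg, hgt⟩ := htr z hzI.1 hzI.2
  have hzt' : z = t := by
    have h1 := hfix g⁻¹ (inv_mem hg)
    rw [← hgt] at h1 ⊢
    rw [← h1]
    group
  obtain ⟨g', hg', hg't⟩ := htr t2 ht2I.1 ht2I.2
  have h1 := hfix g' hg'
  rw [hzt', hg't] at h1
  exact ht2 h1

/-- The centraliser of an involution contains two subgroups of order three. -/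
theorem exists_two_threes (h : Nat.card G = 5616) {t : G} (ht : orderOf t = 2) :
    ∃ v v' : G, orderOf v = 3 ∧ orderOf v' = 3 ∧ Commute t v ∧ Commute t v' ∧
      zpowers v ≠ zpowers v' := by
  classical
  by_contra hno
  push Not at hno
  haveI := Fintype.ofFinite G
  haveI : Fact (Nat.Prime 3) := ⟨Nat.prime_three⟩
  have hU : ∀ s : G, orderOf s = 2 → ∀ v v' : G, orderOf v = 3 → orderOf v' = 3 → Commute s v → Commute s v' →
      zpowers v = zpowers v' := by
    intro s hs v v' hv hv' hsv hsv'
    obtain ⟨g, rfl⟩ := isConj_iff.mp (isConj_involution h ht hs)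
    have key : ∀ w, Commute (g * t * g⁻¹) w → Commute t (g⁻¹ * w * g) := fun w hw => by
      have := Commute.map hw (MulAut.conj g⁻¹).toMonoidHom
      simpa [MulAut.conj_apply, mul_assoc] using this
    have h1 := congrArg (fun H : Subgroup G => H.map (MulAut.conj g).toMonoidHom)
      (hno (g⁻¹ * v * g) (g⁻¹ * v' * g)
        (by rw [show g⁻¹ * v * g = g⁻¹ * v * g⁻¹⁻¹ by rw [inv_inv], orderOf_conj_eq, hv])
        (by rw [show g⁻¹ * v' * g = g⁻¹ * v' * g⁻¹⁻¹ by rw [inv_inv], orderOf_conj_eq, hv'])
        (key v hsv) (key v' hsv'))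
    simp only [MonoidHom.map_zpowers, MulEquiv.coe_toMonoidHom, MulAut.conj_apply] at h1
    simpa [mul_assoc] using h1
  obtain ⟨⟨u, huC⟩, hu⟩ := exists_prime_orderOf_dvd_card'
    (G := centralizer ({t} : Set G)) 3 (by rw [card_centralizer_involution h ht]; norm_num)
  rw [Subgroup.orderOf_mk] at hu
  have htu : Commute t u := (mem_centralizer_singleton_iff.mp huC).symm
  set L := normalizer ((zpowers u : Subgroup G) : Set G) with hLdef
  have hle : centralizer ({t} : Set G) ≤ L := by
    intro g hg
    refine mem_normalizer_of_conj (hU t ht _ _ (by rw [orderOf_conj_eq, hu]) hu ?_ htu)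
    have := Commute.map htu (MulAut.conj g).toMonoidHom
    simp only [MulEquiv.coe_toMonoidHom, MulAut.conj_apply] at this
    rwa [mem_centralizer_singleton_iff.mp hg, mul_inv_cancel_right] at this
  have htr : ∀ s : G, orderOf s = 2 → Commute s u → ∃ g ∈ L, g * t * g⁻¹ = s := by
    intro s hs hsu
    obtain ⟨g, hg⟩ := isConj_iff.mp (isConj_involution h ht hs)
    refine ⟨g, mem_normalizer_of_conj (hU s hs _ _ (by rw [orderOf_conj_eq, hu]) hu ?_ hsu), hg⟩
    rw [← hg]
    exact Commute.map htu (MulAut.conj g).toMonoidHom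
  -- the orbit
  set I := {s : G // orderOf s = 2 ∧ Commute s u}
  have hcount : Nat.card L = 48 * Nat.card I := by
    have hmem : ∀ g : L, orderOf ((g : G) * t * (g : G)⁻¹) = 2 ∧
        Commute ((g : G) * t * (g : G)⁻¹) u := fun g =>
      ⟨by rw [orderOf_conj_eq, ht], commute_of_zpowers_eq (conj_of_mem_normalizer g.2)
        (Commute.map htu (MulAut.conj (g : G)).toMonoidHom)⟩
    let f : L ⧸ (centralizer ({t} : Set G)).subgroupOf L → I := Quotient.lift
      (fun g => ⟨(g : G) * t * (g : G)⁻¹, hmem g⟩) fun a b hab => by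
        have h' := mem_centralizer_singleton_iff.mp
          (mem_subgroupOf.mp (QuotientGroup.leftRel_apply.mp hab))
        push_cast at h'
        refine Subtype.ext ?_
        calc (a : G) * t * (a : G)⁻¹ = a * (t * ((a : G)⁻¹ * b)) * (b : G)⁻¹ := by group
          _ = a * ((a : G)⁻¹ * b * t) * (b : G)⁻¹ := by rw [h']
          _ = b * t * (b : G)⁻¹ := by group
    have hf : Function.Bijective f := by
      constructor
      · intro a b
        induction a using QuotientGroup.induction_on with
        | H a =>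
          induction b using QuotientGroup.induction_on with
          | H b =>
            intro e
            have e' : (a : G) * t * (a : G)⁻¹ = b * t * (b : G)⁻¹ := congrArg Subtype.val e
            rw [QuotientGroup.eq, mem_subgroupOf, mem_centralizer_singleton_iff]
            push_cast
            calc (a : G)⁻¹ * b * t = (a : G)⁻¹ * ((b : G) * t * (b : G)⁻¹) * b := by group
              _ = t * ((a : G)⁻¹ * b) := by rw [← e']; group
      · rintro ⟨s, hs, hsu⟩
        obtain ⟨g, hg, hgs⟩ := htr s hs hsu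
        exact ⟨QuotientGroup.mk ⟨g, hg⟩, Subtype.ext hgs⟩
    have h1 := ((centralizer ({t} : Set G)).subgroupOf L).card_mul_index
    rw [Nat.card_congr (subgroupOfEquivOfLe hle).toEquiv, card_centralizer_involution h ht,
      index_eq_card, Nat.card_congr (Equiv.ofBijective f hf)] at h1
    exact h1.symm
  have h9 : 9 ∣ Nat.card L := by
    obtain ⟨K, hK, hKle⟩ := Sylow.exists_subgroup_card_pow_succ (p := 3) (n := 1) (G := G)
      (by rw [h]; norm_num) (H := zpowers u) (by rw [Nat.card_zpowers, hu, pow_one])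
    haveI := IsPGroup.isMulCommutative_of_card_eq_prime_sq (p := 3) (G := K) (by rw [hK])
    have hKL : K ≤ L := fun k hk => mem_normalizer_of_conj (by
      rw [show k * u = u * k from congrArg Subtype.val
        (IsMulCommutative.is_comm.comm (⟨k, hk⟩ : K) ⟨u, hKle (mem_zpowers u)⟩), mul_inv_cancel_right])
    have := card_dvd_of_le hKL
    rwa [hK] at this
  have hdvd : 48 * Nat.card I ∣ 5616 := by rw [← hcount, ← h]; exact card_subgroup_dvd_card L
  have hG := not_comm h
  have hLt : L ≠ ⊤ := by
    refine normalizer_ne_top (fun e => ?_) (fun e => ?_)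
    · have := congrArg (fun H : Subgroup G => Nat.card H) e
      simp only [Nat.card_zpowers, hu, card_bot] at this
      omega
    · have := congrArg (fun H : Subgroup G => Nat.card H) e
      simp only [Nat.card_zpowers, hu, card_top, h] at this
      omega
  have hcases : Nat.card I = 3 ∨ Nat.card I = 9 := by
    have hd : Nat.card I ∈ Nat.divisors 117 := Nat.mem_divisors.mpr
      ⟨Nat.dvd_of_mul_dvd_mul_left (by norm_num : 0 < 48) (by rw [show 48 * 117 = 5616 by norm_num]; exact hdvd), by norm_num⟩
    have hne117 : Nat.card I ≠ 117 := fun e => hLt (Subgroup.eq_top_of_card_eq L (by rw [hcount, e, h]))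
    have hne39 : Nat.card I ≠ 39 := fun e => hLt (eq_top_of_not_dvd_factorial hG (by
      have h1 := L.card_mul_index
      rw [hcount, e, h] at h1
      rw [show L.index = 3 by omega, h]
      decide +kernel))
    rw [hcount] at h9
    have : Nat.card I ∈ ({1, 3, 9, 13, 39, 117} : Finset ℕ) := by
      rw [show ({1, 3, 9, 13, 39, 117} : Finset ℕ) = Nat.divisors 117 by decide +kernel]
      exact hd
    simp only [Finset.mem_insert, Finset.mem_singleton] at this
    omega
  rcases hcases with e | e
  · exact false_of_three h ht htu hu (by rw [← hLdef, hcount, e]) e htr hle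
  · refine false_of_index_thirteen h ht hu htu ?_ hU
    have h1 := L.card_mul_index
    rw [hcount, e, h] at h1
    rw [← hLdef]
    omega

end Cfsg.Agent.Lib.SmallSimple1.L33
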