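/-
A simple group of order 5616: the centraliser of an involution is the general linear group of
degree two over three elements.
-/
import Mathlib
import Cfsg.Agent.Lib.SmallSimple1.L33Unique
import Cfsg.Agent.Lib.BrauerSuzuki.Involutions
import Cfsg.Agent.Lib.PSolvable.Core
import Cfsg.Agent.Lib.Burnside.Paqb
import Cfsg.Agent.S3304

set_option autoImplicit false
set_option linter.style.haveILetI false

namespace Cfsg.Agent.Lib.SmallSimple1.L33

open Subgroup
open Cfsg.Agent.Lib.SmallGroups

universe u

theorem even_three_conj : ∀ σ τ : Equiv.Perm (Fin 4), Equiv.Perm.sign σ = 1 → σ * σ = 1 → σ ≠ 1 →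
    τ ^ 3 = 1 → τ ≠ 1 → σ * (τ * σ * τ⁻¹) = τ * (τ * σ * τ⁻¹) * τ⁻¹ := by
  decide +kernel

theorem even_squares : (Finset.univ.filter fun σ : Equiv.Perm (Fin 4) =>
    Equiv.Perm.sign σ = 1 ∧ σ * σ = 1).card = 4 := by
  decide +kernel

/-- The normal four group of the symmetric group of degree four. -/
def vFour : Subgroup (Equiv.Perm (Fin 4)) where
  carrier := {σ | σ * σ = 1 ∧ (σ = 1 ∨ ∀ i, σ i ≠ i)}
  one_mem' := ⟨one_mul 1, Or.inl rfl⟩
  mul_mem' := fun {a b} ha hb =>
    (show ∀ a b : Equiv.Perm (Fin 4), (a * a = 1 ∧ (a = 1 ∨ ∀ i, a i ≠ i)) →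
      (b * b = 1 ∧ (b = 1 ∨ ∀ i, b i ≠ i)) → (a * b * (a * b) = 1 ∧ (a * b = 1 ∨ ∀ i, (a * b) i ≠ i)) by
      decide +kernel) a b ha hb
  inv_mem' := fun {a} ha =>
    (show ∀ a : Equiv.Perm (Fin 4), (a * a = 1 ∧ (a = 1 ∨ ∀ i, a i ≠ i)) →
      (a⁻¹ * a⁻¹ = 1 ∧ (a⁻¹ = 1 ∨ ∀ i, a⁻¹ i ≠ i)) by decide +kernel) a ha

theorem mem_vFour {σ : Equiv.Perm (Fin 4)} :
    σ ∈ vFour ↔ σ * σ = 1 ∧ (σ = 1 ∨ ∀ i, σ i ≠ i) := Iff.rfl

instance vFour_decidable : DecidablePred (· ∈ vFour) := fun _ => decidable_of_iff _ mem_vFour.symm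

theorem card_vFour : Nat.card vFour = 4 := by
  rw [Nat.card_eq_fintype_card]; decide +kernel

theorem normal_vFour : vFour.Normal :=
  ⟨fun σ hσ τ => (show ∀ σ τ : Equiv.Perm (Fin 4), σ ∈ vFour → τ * σ * τ⁻¹ ∈ vFour by
    decide +kernel) σ τ hσ⟩

theorem vFour_orbit : ∀ σ τ ρ : Equiv.Perm (Fin 4), σ ∈ vFour → σ ≠ 1 → τ ^ 3 = 1 → τ ≠ 1 →
    ρ ∈ vFour → ρ = 1 ∨ ρ = σ ∨ ρ = τ * σ * τ⁻¹ ∨ ρ = τ * (τ * σ * τ⁻¹) * τ⁻¹ := by
  decide +kernel

theorem two_elements_class : ∀ σ : Equiv.Perm (Fin 4), σ ^ 8 = 1 → σ ∉ vFour →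
    8 < ((Finset.univ.image fun τ : Equiv.Perm (Fin 4) => τ * σ * τ⁻¹) ∪
      Finset.univ.filter fun ρ => ρ ∈ vFour).card := by
  decide +kernel

theorem quat_unique : ∀ x : QuaternionGroup 4, x * x = 1 → x = 1 ∨ x = .a 4 := by
  decide +kernel

variable {G : Type u} [Group G]

theorem exists_k {K : Subgroup G} {t : G} (ht : t ∈ K) (ht1 : t ≠ 1) (htt : t * t = 1)
    (hK : Nat.card K = 4) :
    ∃ k ∈ K, k ≠ 1 ∧ k ≠ t ∧ ∀ a ∈ K, a = 1 ∨ a = t ∨ a = k ∨ a = k * t := by
  classical
  haveI : Finite K := Nat.finite_of_card_ne_zero (by omega)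
  have hKn : (K : Set G).ncard = 4 := by rw [← Nat.card_coe_set_eq]; exact hK
  obtain ⟨k, hk, hk'⟩ := Set.exists_mem_notMem_of_ncard_lt_ncard
    (show ({1, t} : Set G).ncard < (K : Set G).ncard by rw [Set.ncard_pair ht1.symm, hKn]; norm_num)
    (Set.toFinite _)
  simp only [Set.mem_insert_iff, Set.mem_singleton_iff, not_or] at hk'
  refine ⟨k, hk, hk'.1, hk'.2, ?_⟩
  have hsub4 : ({1, t, k, k * t} : Set G) ⊆ K := by
    rintro a (rfl | rfl | rfl | rfl)
    exacts [one_mem _, ht, hk, mul_mem hk ht]
  have hcard : ({1, t, k, k * t} : Set G).ncard = 4 := by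
    rw [Set.ncard_insert_of_notMem ?_ (Set.toFinite _), Set.ncard_insert_of_notMem ?_ (Set.toFinite _),
      Set.ncard_pair ?_]
    · exact fun e => ht1 (left_eq_mul.mp e)
    · simp only [Set.mem_insert_iff, Set.mem_singleton_iff, not_or]
      exact ⟨fun e => hk'.2 e.symm, fun e => hk'.1 (right_eq_mul.mp e)⟩
    · simp only [Set.mem_insert_iff, Set.mem_singleton_iff, not_or]
      exact ⟨ht1.symm, fun e => hk'.1 e.symm, fun e => hk'.2 ((mul_eq_one_iff_eq_inv.mp e.symm).trans
        (inv_eq_of_mul_eq_one_right htt))⟩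
  intro a ha
  have := (Set.eq_of_subset_of_ncard_le hsub4 (by rw [hcard, hKn]) (Set.toFinite _)).ge ha
  simpa using this

/-- Three commuting involutions generate at most a four group. -/
theorem false_of_triple [Finite G] [IsSimpleGroup G] (h : Nat.card G = 5616) {a b c : G}
    (ha : a * a = 1) (hb : b * b = 1) (hc : c * c = 1) (hab : Commute a b) (hac : Commute a c)
    (hbc : Commute b c) (ha1 : a ≠ 1) (hb1 : b ≠ 1) (hab' : a ≠ b)
    (hc' : c ∉ ({1, a, b, a * b} : Set G)) : False := by
  classical
  haveI := Fintype.ofFinite G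
  haveI : Fact (Nat.Prime 2) := ⟨Nat.prime_two⟩
  set E := closure ({a, b, c} : Set G) with hEdef
  haveI : IsMulCommutative E := isMulCommutative_closure (by
    rintro x (rfl | rfl | rfl) y (rfl | rfl | rfl)
    exacts [rfl, hab, hac, hab.symm, rfl, hbc, hac.symm, hbc.symm, rfl])
  have hEsq : ∀ x ∈ E, x * x = 1 := by
    intro x hx
    induction hx using closure_induction with
    | mem x hx =>
      rcases hx with rfl | rfl | rfl
      exacts [ha, hb, hc]
    | one => exact one_mul 1
    | mul x y hx hy ihx ihy =>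
      have hxy : Commute y x := congrArg Subtype.val (mul_comm' (⟨y, hy⟩ : E) ⟨x, hx⟩)
      rw [hxy.mul_mul_mul_comm, ihx, ihy, one_mul]
    | inv x _ ih => rw [← mul_inv_rev, ih, inv_one]
  have hP : IsPGroup 2 E := fun x => ⟨1, Subtype.ext (by rw [pow_one, pow_two]; exact hEsq x x.2)⟩
  obtain ⟨k, hk⟩ := IsPGroup.iff_card.mp hP
  have h5 : ({c, 1, a, b, a * b} : Set G) ⊆ E := by
    rintro x (rfl | rfl | rfl | rfl | rfl)
    exacts [subset_closure (by simp), one_mem _, subset_closure (by simp), subset_closure (by simp),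
      mul_mem (subset_closure (by simp)) (subset_closure (by simp))]
  have h1 := Set.ncard_le_ncard h5 (Set.toFinite _)
  rw [← Nat.card_coe_set_eq (E : Set G)] at h1
  have hab1 : a * b ≠ 1 := fun e =>
    hab' ((mul_eq_one_iff_eq_inv.mp e).trans (inv_eq_of_mul_eq_one_right hb))
  rw [Set.ncard_insert_of_notMem hc' (Set.toFinite _),
    Set.ncard_insert_of_notMem (by simp [ha1.symm, hb1.symm, hab1.symm]) (Set.toFinite _),
    Set.ncard_eq_three.mpr ⟨a, b, a * b, hab', fun e => hb1 (left_eq_mul.mp e),
      fun e => ha1 (right_eq_mul.mp e), rfl⟩] at h1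
  have h5' : 5 ≤ Nat.card E := h1
  rw [hk] at h5'
  obtain ⟨R, hR⟩ := Sylow.exists_subgroup_card_pow_prime 2 (n := 3) (G := E) (by
    rw [hk]
    refine pow_dvd_pow 2 ?_
    by_contra hk3
    have : 2 ^ k ≤ 2 ^ 2 := Nat.pow_le_pow_right (by norm_num) (by omega)
    omega)
  refine no_eight h (R.map E.subtype)
    (by rw [card_map_of_injective E.subtype_injective, hR]; norm_num) ?_
  rintro _ ⟨x, -, rfl⟩
  exact hEsq x x.2

theorem eq_zpowers_of_unique_sylow [Finite G] {m : ℕ} [Fact (Nat.Prime 3)] (hG : Nat.card G = 3 * m)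
    (hm : ¬ 3 ∣ m) (h1 : Nat.card (Sylow 3 G) = 1) {v w : G} (hv : orderOf v = 3)
    (hw : orderOf w = 3) : zpowers v = zpowers w := by
  have key : ∀ x : G, orderOf x = 3 → ∀ P : Sylow 3 G, zpowers x = P := by
    intro x hx P
    obtain ⟨Q, hQ⟩ := (IsPGroup.of_card (p := 3) (n := 1) (G := zpowers x)
      (by rw [Nat.card_zpowers, hx, pow_one])).exists_le_sylow
    haveI := (Nat.card_eq_one_iff_unique.mp h1).1
    rw [Subsingleton.elim P Q]
    refine Subgroup.eq_of_le_of_card_ge hQ ?_
    rw [SmallGroups.card_sylow_eq Q (k := 1) (m := m) (by rw [hG, pow_one]) hm, Nat.card_zpowers, hx,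
      pow_one]
  obtain ⟨P⟩ := (inferInstance : Nonempty (Sylow 3 G))
  rw [key v hv P, key w hw P]

variable [Finite G] [IsSimpleGroup G]

/-- The centraliser of an involution. -/
theorem exists_centralizer_iso (h : Nat.card G = 5616) {t : G} (ht : orderOf t = 2) :
    Nonempty (centralizer ({t} : Set G) ≃* GL (Fin 2) (ZMod 3)) := by
  classical
  haveI := Fintype.ofFinite G
  haveI : Fact (Nat.Prime 2) := ⟨Nat.prime_two⟩
  haveI : Fact (Nat.Prime 3) := ⟨Nat.prime_three⟩
  set C := centralizer ({t} : Set G) with hCdef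
  have hC : Nat.card C = 48 := card_centralizer_involution h ht
  haveI := Fintype.ofFinite C
  set t' : C := ⟨t, mem_centralizer_singleton_iff.mpr rfl⟩ with ht'def
  have ht'o : orderOf t' = 2 := by rw [← orderOf_coe]; exact ht
  have ht'2 : t' * t' = 1 := by rw [← pow_two, ← ht'o, pow_orderOf_eq_one]
  have ht'1 : t' ≠ 1 := fun e => by rw [e, orderOf_one] at ht'o; norm_num at ht'o
  have htc : ∀ g : C, Commute t' g := fun g =>
    Subtype.ext (mem_centralizer_singleton_iff.mp g.2).symm
  have hn3c : Nat.card (Sylow 3 C) = 4 := by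
    obtain ⟨P⟩ := (inferInstance : Nonempty (Sylow 3 C))
    have hd : Nat.card (Sylow 3 C) ∣ 16 :=
      SmallGroups.card_sylow_dvd (p := 3) (k := 1) (m := 16) (by rw [hC]; norm_num) (by norm_num)
    have hmod := card_sylow_modEq_one 3 C
    have hne1 : Nat.card (Sylow 3 C) ≠ 1 := by
      intro h1
      obtain ⟨v, v', hv, hv', hcv, hcv', hne⟩ := exists_two_threes h ht
      refine hne ?_
      have e := eq_zpowers_of_unique_sylow (G := C) (m := 16) (by rw [hC]) (by norm_num) h1
        (v := ⟨v, mem_centralizer_singleton_iff.mpr hcv.symm.eq⟩)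
        (w := ⟨v', mem_centralizer_singleton_iff.mpr hcv'.symm.eq⟩)
        (by rw [Subgroup.orderOf_mk]; exact hv) (by rw [Subgroup.orderOf_mk]; exact hv')
      have e' := congrArg (fun H : Subgroup C => H.map C.subtype) e
      simpa only [MonoidHom.map_zpowers, coe_subtype] using e'
    have hN := card_normalizer_sylow_mul P
    rw [hC] at hN
    have ht'N : t' ∈ normalizer ((P : Subgroup C) : Set C) := by
      rw [mem_normalizer_iff]
      intro y
      rw [(htc y).eq, mul_inv_cancel_right]
    have h2 := orderOf_dvd_natCard _ ht'N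
    rw [ht'o] at h2
    have hle : Nat.card (Sylow 3 C) ≤ 16 := Nat.le_of_dvd (by norm_num) hd
    have h16 : Nat.card (Sylow 3 C) ∈ Nat.divisors 16 := Nat.mem_divisors.mpr ⟨hd, by norm_num⟩
    rw [show Nat.divisors 16 = {1, 2, 4, 8, 16} by decide +kernel] at h16
    simp only [Finset.mem_insert, Finset.mem_singleton] at h16
    unfold Nat.ModEq at hmod
    rcases h16 with e | e | e | e | e
    · exact absurd e hne1
    · rw [e] at hmod; norm_num at hmod
    · exact e
    · rw [e] at hmod; norm_num at hmod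
    · rw [e] at hN; omega
  have hPc : ∀ P : Sylow 3 C, Nat.card (P : Subgroup C) = 3 := fun P =>
    (SmallGroups.card_sylow_eq P (k := 1) (m := 16) (by rw [hC]; norm_num) (by norm_num)).trans
      (pow_one 3)
  haveI := Fintype.ofFinite (Sylow 3 C)
  let e4 : Sylow 3 C ≃ Fin 4 := Fintype.equivFinOfCardEq (by rw [← Nat.card_eq_fintype_card]; exact hn3c)
  let ψ : C →* Equiv.Perm (Fin 4) :=
    e4.permCongrHom.toMonoidHom.comp (MulAction.toPermHom C (Sylow 3 C))
  set K := ψ.ker with hKdef
  have hmemK : ∀ g : C, g ∈ K ↔ ∀ P : Sylow 3 C, g ∈ normalizer ((P : Subgroup C) : Set C) := by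
    intro g
    rw [hKdef, MonoidHom.mem_ker]
    change e4.permCongrHom (MulAction.toPermHom C (Sylow 3 C) g) = 1 ↔ _
    rw [map_eq_one_iff _ e4.permCongrHom.injective, Equiv.ext_iff]
    exact forall_congr' fun P => Sylow.smul_eq_iff_mem_normalizer
  have ht'K : t' ∈ K := (hmemK t').mpr fun P => by
    rw [mem_normalizer_iff]
    intro y
    rw [(htc y).eq, mul_inv_cancel_right]
  have h3K : ¬ 3 ∣ Nat.card K := by
    intro h3
    obtain ⟨⟨k, hk⟩, hko⟩ := exists_prime_orderOf_dvd_card' (G := K) 3 h3
    rw [Subgroup.orderOf_mk] at hko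
    have key : ∀ P : Sylow 3 C, zpowers k = (P : Subgroup C) := by
      intro P
      have hp : IsPGroup 3 (zpowers k) :=
        IsPGroup.of_card (n := 1) (by rw [Nat.card_zpowers, hko, pow_one])
      have h1 := hp.inf_normalizer_sylow P
      have hle : zpowers k ≤ normalizer (P : Set C) := zpowers_le.mpr ((hmemK k).mp hk P)
      rw [inf_eq_left.mpr hle, eq_comm, inf_eq_left] at h1
      exact Subgroup.eq_of_le_of_card_ge h1 (by rw [hPc, Nat.card_zpowers, hko])
    have hall : ∀ P Q : Sylow 3 C, P = Q := fun P Q => Sylow.ext ((key P).symm.trans (key Q))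
    haveI : Subsingleton (Sylow 3 C) := ⟨hall⟩
    have h1 := Finite.card_le_one_iff_subsingleton.mpr (inferInstance : Subsingleton (Sylow 3 C))
    omega
  have hK12 : Nat.card K ∣ 12 := by
    obtain ⟨P⟩ := (inferInstance : Nonempty (Sylow 3 C))
    have hN := card_normalizer_sylow_mul P
    rw [hn3c, hC] at hN
    have hle := card_dvd_of_le (fun g hg => (hmemK g).mp hg P : K ≤ normalizer ((P : Subgroup C) : Set C))
    rwa [show Nat.card (normalizer ((P : Subgroup C) : Set C)) = 12 by omega] at hle
  have hKcases : Nat.card K = 2 ∨ Nat.card K = 4 := by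
    have hmem : Nat.card K ∈ Nat.divisors 12 := Nat.mem_divisors.mpr ⟨hK12, by norm_num⟩
    have h2 := orderOf_dvd_natCard _ ht'K
    rw [ht'o] at h2
    rw [show Nat.divisors 12 = {1, 2, 3, 4, 6, 12} by decide +kernel] at hmem
    simp only [Finset.mem_insert, Finset.mem_singleton] at hmem
    omega
  have hrange : Nat.card K * Nat.card ψ.range = 48 := by
    rw [← index_ker, ← hKdef, card_mul_index, hC]
  -- elements of order three centralise the kernel
  have hu_fix : ∀ u : C, orderOf u = 3 → ∀ k ∈ K, Commute u k := by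
    intro u hu k hk
    obtain ⟨P, hP⟩ := (IsPGroup.of_card (p := 3) (n := 1) (G := zpowers u)
      (by rw [Nat.card_zpowers, hu, pow_one])).exists_le_sylow
    have huP : u ∈ (P : Subgroup C) := hP (mem_zpowers u)
    have h1 : k * u * k⁻¹ ∈ (P : Subgroup C) := (mem_normalizer_iff.mp ((hmemK k).mp hk P) u).mp huP
    have h2 : k * u * k⁻¹ * u⁻¹ ∈ (P : Subgroup C) := mul_mem h1 (inv_mem huP)
    have h3 : k * u * k⁻¹ * u⁻¹ ∈ K := by
      rw [show k * u * k⁻¹ * u⁻¹ = k * (u * k⁻¹ * u⁻¹) by group]
      exact mul_mem hk ((MonoidHom.normal_ker ψ).conj_mem _ (inv_mem hk) u)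
    have h4 : k * u * k⁻¹ * u⁻¹ = 1 := by
      by_contra hne
      have h5 := orderOf_eq_of_prime (hPc P) h2 hne
      exact h3K (h5 ▸ orderOf_dvd_natCard _ h3)
    have h5 : k * u * k⁻¹ = u := mul_inv_eq_one.mp h4
    exact (mul_inv_eq_iff_eq_mul.mp h5).symm
  obtain ⟨u, hu⟩ := exists_prime_orderOf_dvd_card' (G := C) 3 (by rw [hC]; norm_num)
  have hu1 : ψ u ≠ 1 := fun e => h3K (hu ▸ orderOf_dvd_natCard K (MonoidHom.mem_ker.mpr e))
  have hu3 : ψ u ^ 3 = 1 := by rw [← map_pow, ← hu, pow_orderOf_eq_one, map_one]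
  -- at least nine elements of `C` have square one
  set S := Finset.univ.filter fun x : C => x * x = 1 with hS
  have hS9 : 9 ≤ S.card := by
    have h7 := seven_le h ht
    have hinj : Nat.card ({s : G // orderOf s = 2 ∧ Commute s t ∧ s ≠ t} ⊕ Fin 2) ≤ Nat.card S := by
      refine Nat.card_le_card_of_injective (fun z => z.elim
        (fun s => (⟨⟨s.1, mem_centralizer_singleton_iff.mpr s.2.2.1.eq⟩, Finset.mem_filter.mpr
          ⟨Finset.mem_univ _, Subtype.ext (by
            show s.1 * s.1 = 1
            rw [← pow_two]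
            exact orderOf_dvd_iff_pow_eq_one.mp (dvd_of_eq s.2.1))⟩⟩ : S))
        (fun i => if i = 0 then ⟨1, Finset.mem_filter.mpr ⟨Finset.mem_univ _, one_mul 1⟩⟩
          else ⟨t', Finset.mem_filter.mpr ⟨Finset.mem_univ _, ht'2⟩⟩)) ?_
      rintro (a | a) (b | b) e
      · simp only [Sum.elim_inl, Subtype.mk.injEq] at e
        exact congrArg Sum.inl (Subtype.ext e)
      · exfalso
        simp only [Sum.elim_inl, Sum.elim_inr] at e
        split_ifs at e
        · have e' : a.1 = 1 := congrArg (fun z : S => ((z : C) : G)) e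
          have := a.2.1
          rw [e', orderOf_one] at this
          norm_num at this
        · exact a.2.2.2 (congrArg (fun z : S => ((z : C) : G)) e)
      · exfalso
        simp only [Sum.elim_inl, Sum.elim_inr] at e
        split_ifs at e
        · have e' : b.1 = 1 := congrArg (fun z : S => ((z : C) : G)) e.symm
          have := b.2.1
          rw [e', orderOf_one] at this
          norm_num at this
        · exact b.2.2.2 (congrArg (fun z : S => ((z : C) : G)) e.symm)
      · simp only [Sum.elim_inr] at e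
        refine congrArg Sum.inr ?_
        fin_cases a <;> fin_cases b <;> simp [ht'1, Ne.symm ht'1] at e ⊢
    rw [Nat.card_sum, Nat.card_fin, Nat.card_eq_finsetCard] at hinj
    omega
  have hpre : ∀ {g₁ g₂ : C}, ψ g₁ = ψ g₂ → g₁⁻¹ * g₂ ∈ K := fun e => by
    rw [hKdef, MonoidHom.mem_ker, map_mul, map_inv, e, inv_mul_cancel]
  rcases hKcases with hK | hK
  · -- the image is the symmetric group
    have hKmem : ∀ a ∈ K, a = 1 ∨ a = t' := by
      intro a ha
      have hz : zpowers t' = K := Subgroup.eq_of_le_of_card_ge (zpowers_le.mpr ht'K)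
        (by rw [hK, Nat.card_zpowers, ht'o])
      obtain ⟨i, rfl⟩ := mem_zpowers_iff.mp (hz.symm ▸ ha : a ∈ zpowers t')
      rw [← zpow_mod_orderOf, ht'o]
      rcases Int.emod_two_eq_zero_or_one i with e | e <;>
        rw [show ((2 : ℕ) : ℤ) = 2 from rfl, e] <;> simp
    have hKsq : ∀ a ∈ K, a * a = 1 ∧ ∀ g : C, Commute a g := fun a ha => by
      rcases hKmem a ha with rfl | rfl
      exacts [⟨one_mul 1, fun g => Commute.one_left g⟩, ⟨ht'2, htc⟩]
    have hsurj : Function.Surjective ψ := by
      rw [← MonoidHom.range_eq_top]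
      refine Subgroup.eq_top_of_card_eq _ ?_
      rw [Nat.card_perm, Nat.card_fin, show Nat.factorial 4 = 24 from rfl]
      rw [hK] at hrange
      omega
    set V := vFour.comap ψ with hVdef
    haveI := normal_vFour
    have hVn : V.Normal := Subgroup.Normal.comap normal_vFour ψ
    have hV : Nat.card V = 8 := by
      have h1 := V.card_mul_index
      rw [hC, hVdef, index_comap_of_surjective _ hsurj] at h1
      have h2 := vFour.card_mul_index
      rw [card_vFour, Nat.card_perm, Nat.card_fin] at h2
      rw [show Nat.factorial 4 = 24 from rfl] at h2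
      rw [show vFour.index = 6 by omega, ← hVdef] at h1
      omega
    have hVle : ∀ T : Sylow 2 C, V ≤ (T : Subgroup C) :=
      BrauerSuzuki.le_sylow_of_normal hVn (IsPGroup.of_card (n := 3) (by rw [hV]; norm_num))
    have hTc : ∀ T : Sylow 2 C, Nat.card (T : Subgroup C) = 16 := fun T =>
      (SmallGroups.card_sylow_eq T (k := 4) (m := 3) (by rw [hC]; norm_num) (by norm_num)).trans
        (by norm_num)
    -- the subgroup `V` has one involution
    have hVinv : ∀ x ∈ V, x * x = 1 → x ∈ K := by
      intro x hx hx2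
      by_contra hxK
      have hσ1 : ψ x ≠ 1 := fun e => hxK (MonoidHom.mem_ker.mpr e)
      have hexp : ∀ g ∈ V, g * g = 1 := by
        intro g hg
        have hrep : ∀ r : C, r * r = 1 → ψ g = ψ r → g * g = 1 := by
          intro r hr e
          obtain ⟨ha, hac⟩ := hKsq _ (hpre e.symm)
          have hg' : g = r * (r⁻¹ * g) := (mul_inv_cancel_left r g).symm
          rw [hg', (hac r).mul_mul_mul_comm, hr, ha, one_mul]
        have hc : ∀ a r : C, r * r = 1 → a * r * a⁻¹ * (a * r * a⁻¹) = 1 := fun a r hr => by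
          calc a * r * a⁻¹ * (a * r * a⁻¹) = a * (r * r) * a⁻¹ := by group
            _ = 1 := by rw [hr]; group
        rcases vFour_orbit (ψ x) (ψ u) (ψ g) hx hσ1 hu3 hu1 hg with e | e | e | e
        · exact hrep 1 (one_mul 1) (by rw [e, map_one])
        · exact hrep x hx2 e
        · exact hrep (u * x * u⁻¹) (hc u x hx2) (by rw [e]; simp)
        · exact hrep (u * (u * x * u⁻¹) * u⁻¹) (hc u _ (hc u x hx2)) (by rw [e]; simp)
      refine no_eight h (V.map C.subtype) (by rw [card_map_of_injective C.subtype_injective, hV]) ?_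
      rintro _ ⟨g, hg, rfl⟩
      exact congrArg Subtype.val (hexp g hg)
    have hI : ∀ T T' : Sylow 2 C, T ≠ T' →
        Cfsg.PRankLE 2 1 ↥((T : Subgroup C) ⊓ (T' : Subgroup C)) := by
      intro T T' hne A _ hA
      have key : ∀ x ∈ A, (x : C) ∈ K := by
        intro x hx
        have hx2 : (x : C) * x = 1 := by
          have := congrArg Subtype.val (hA x hx)
          simpa [pow_two] using this
        refine hVinv _ ?_ hx2
        by_contra hxV
        apply hne
        have hbig : ∀ T : Sylow 2 C, (x : C) ∈ (T : Subgroup C) → (T : Subgroup C) = V ⊔ zpowers (x : C) := by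
          intro T hxT
          have hle : V ⊔ zpowers (x : C) ≤ (T : Subgroup C) := sup_le (hVle T) (zpowers_le.mpr hxT)
          refine (Subgroup.eq_of_le_of_card_ge hle ?_).symm
          have h1 := card_dvd_of_le hle
          have h2 := card_dvd_of_le (le_sup_left : V ≤ V ⊔ zpowers (x : C))
          rw [hTc] at h1 ⊢
          rw [hV] at h2
          have h3 : Nat.card ↥(V ⊔ zpowers (x : C)) ≠ 8 := fun e => hxV ((Subgroup.eq_of_le_of_card_ge
            (le_sup_left : V ≤ V ⊔ zpowers (x : C)) (by rw [e, hV])).symm ▸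
              mem_sup_right (mem_zpowers _))
          obtain ⟨q, hq⟩ := h2
          have := Nat.le_of_dvd (by norm_num) h1
          have hpos : 0 < Nat.card ↥(V ⊔ zpowers (x : C)) := Nat.card_pos
          omega
        exact Sylow.ext ((hbig T x.2.1).trans (hbig T' x.2.2).symm)
      refine le_trans (Nat.card_le_card_of_injective
        (fun a : A => (⟨((a : ↥((T : Subgroup C) ⊓ (T' : Subgroup C))) : C), key a a.2⟩ : K)) ?_) ?_
      · intro a b e
        exact Subtype.ext (Subtype.ext (congrArg Subtype.val e :))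
      · rw [hK]; norm_num
    have hsol : Group.IsSolvable C := Burnside.isSolvable_of_card_eq_prime_pow_mul
      (p := 2) (q := 3) (a := 4) (b := 1) Nat.prime_two Nat.prime_three (by rw [hC]; norm_num)
    have hO : Cfsg.oddCore C = ⊥ := by
      have hodd : Odd (Nat.card (Cfsg.oddCore C)) :=
        Nat.coprime_two_right.1 PSolvable.pPrimeCore_coprime
      have hd := card_subgroup_dvd_card (Cfsg.oddCore C)
      rw [hC] at hd
      have hmem : Nat.card (Cfsg.oddCore C) ∈ (Nat.divisors 48).filter fun m => m % 2 = 1 :=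
        Finset.mem_filter.mpr ⟨Nat.mem_divisors.mpr ⟨hd, by norm_num⟩, Nat.odd_iff.mp hodd⟩
      rw [show (Nat.divisors 48).filter (fun m => m % 2 = 1) = {1, 3} by decide +kernel] at hmem
      simp only [Finset.mem_insert, Finset.mem_singleton] at hmem
      rcases hmem with e | e
      · exact Subgroup.card_eq_one.mp e
      · exfalso
        haveI : (Cfsg.oddCore C).Normal := Cfsg.pPrimeCore_normal 2 C
        let Q : Sylow 3 C := Sylow.ofCard (Cfsg.oddCore C) (by
          rw [e, hC, show (48 : ℕ).factorization 3 = 1 from ?_, pow_one]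
          rw [show (48 : ℕ) = 3 * 16 by norm_num, Nat.factorization_mul (by norm_num) (by norm_num)]
          simp [Nat.prime_three.factorization_self, Nat.factorization_eq_zero_of_not_dvd])
        haveI : Unique (Sylow 3 C) := Q.unique_of_normal (inferInstanceAs (Cfsg.oddCore C).Normal)
        have h1 : Nat.card (Sylow 3 C) = 1 := Nat.card_unique
        omega
    let q : C ⧸ Cfsg.oddCore C ≃* C :=
      (QuotientGroup.quotientMulEquivOfEq hO).trans QuotientGroup.quotientBot
    rcases Cfsg.Agent.S3304.result hsol hI with ⟨P, hP⟩ | ⟨⟨eGL⟩⟩ | ⟨-, -, -, hquat⟩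
    · exfalso
      have hnc := hP.map q.toMonoidHom q.surjective
      set S2 := (P : Subgroup (C ⧸ Cfsg.oddCore C)).map q.toMonoidHom with hS2def
      have hS2c : Nat.card S2 = 16 := by
        rw [hS2def, card_map_of_injective (f := q.toMonoidHom) q.injective,
          SmallGroups.card_sylow_eq P (k := 4) (m := 3) (by rw [Nat.card_congr q.toEquiv, hC]; norm_num)
            (by norm_num)]
        norm_num
      have hVS : ∀ s ∈ S2, s ∈ V := by
        intro s hs
        by_contra hsV
        set σ := ψ s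
        have hS2n : (S2.map ψ).Normal := hnc.map ψ hsurj
        have hcard8 : Nat.card (S2.map ψ) = 8 := by
          have hKle : K ≤ S2 := by
            obtain ⟨T, hT⟩ := (IsPGroup.of_card (p := 2) (n := 1) (G := K)
              (by rw [hK, pow_one])).exists_le_sylow
            have h4 := BrauerSuzuki.le_sylow_of_normal hnc
              (IsPGroup.of_card (n := 4) (by rw [hS2c]; norm_num)) T
            rw [Subgroup.eq_of_le_of_card_ge h4 (by rw [hS2c, hTc T])]
            exact hT
          have h1 := (S2.map ψ).card_mul_index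
          rw [Nat.card_perm, Nat.card_fin] at h1
          have h2 := S2.card_mul_index
          rw [hC, hS2c] at h2
          rw [index_map_eq S2 hsurj hKle, show S2.index = 3 by omega] at h1
          rw [show Nat.factorial 4 = 24 from rfl] at h1
          omega
        have h8 : σ ^ 8 = 1 := by
          have := pow_card_eq_one' (x := (⟨σ, ⟨s, hs, rfl⟩⟩ : S2.map ψ))
          rw [hcard8] at this
          exact congrArg Subtype.val this
        have hbig := two_elements_class σ h8 hsV
        have hVm : ∀ ρ ∈ vFour, ρ ∈ S2.map ψ := by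
          intro ρ hρ
          obtain ⟨g, rfl⟩ := hsurj ρ
          obtain ⟨T, hT⟩ := (IsPGroup.of_card (p := 2) (n := 4) (G := S2)
            (by rw [hS2c]; norm_num)).exists_le_sylow
          rw [Subgroup.eq_of_le_of_card_ge hT (by rw [hS2c, hTc T])]
          exact ⟨g, hVle T hρ, rfl⟩
        have hsub : (((Finset.univ.image fun τ : Equiv.Perm (Fin 4) => τ * σ * τ⁻¹) ∪
            Finset.univ.filter fun ρ => ρ ∈ vFour : Finset _) : Set (Equiv.Perm (Fin 4))) ⊆
            (S2.map ψ : Set (Equiv.Perm (Fin 4))) := by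
          intro ρ hρ
          rw [Finset.coe_union] at hρ
          rcases hρ with hρ | hρ
          · obtain ⟨τ, -, rfl⟩ := Finset.mem_image.mp (Finset.mem_coe.mp hρ)
            exact hS2n.conj_mem _ ⟨s, hs, rfl⟩ τ
          · exact hVm ρ (Finset.mem_filter.mp (Finset.mem_coe.mp hρ)).2
        have h1 := Set.ncard_le_ncard hsub (Set.toFinite _)
        rw [Set.ncard_coe_finset, ← Nat.card_coe_set_eq] at h1
        exact absurd (h1.trans_eq hcard8) (not_le.mpr hbig)
      have h1 := card_dvd_of_le (fun s hs => hVS s hs : S2 ≤ V)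
      rw [hS2c, hV] at h1
      norm_num at h1
    · exact ⟨q.symm.trans eGL⟩
    · exfalso
      -- a quaternion Sylow subgroup has one involution
      have hall : ∀ x ∈ S, x = 1 ∨ x = t' := by
        intro x hx
        have hx2 : x * x = 1 := (Finset.mem_filter.mp hx).2
        rcases eq_or_ne x 1 with e | e
        · exact Or.inl e
        right
        set A := zpowers x ⊔ zpowers t'
        have hx' : orderOf x = 2 := orderOf_eq_prime (by rw [pow_two, hx2]) e
        haveI hnt : (zpowers t').Normal := ⟨fun a ha g => by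
          obtain ⟨i, rfl⟩ := mem_zpowers_iff.mp ha
          rw [← ((htc g).zpow_left i).eq, mul_inv_cancel_right]
          exact zpow_mem (mem_zpowers _) i⟩
        have hA : IsPGroup 2 A := IsPGroup.to_sup_of_normal_right
          (IsPGroup.of_card (n := 1) (by rw [Nat.card_zpowers, hx', pow_one]))
          (IsPGroup.of_card (n := 1) (by rw [Nat.card_zpowers, ht'o, pow_one]))
        obtain ⟨T, hT⟩ := hA.exists_le_sylow
        obtain ⟨P, hP⟩ : ∃ P : Sylow 2 (C ⧸ Cfsg.oddCore C),
            (T : Subgroup C).map q.symm.toMonoidHom ≤ (P : Subgroup (C ⧸ Cfsg.oddCore C)) :=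
          (T.2.map _).exists_le_sylow
        obtain ⟨eQ⟩ := hquat P
        let f : (T : Subgroup C) →* QuaternionGroup 4 := eQ.toMonoidHom.comp
          ((inclusion hP).comp ((q.symm.toMonoidHom).subgroupMap (T : Subgroup C)))
        have hf : Function.Injective f := fun a b hab => by
          have h1 := congrArg Subtype.val (eQ.injective hab)
          exact Subtype.ext (q.symm.injective h1)
        have key : ∀ a : (T : Subgroup C), a * a = 1 → a ≠ 1 → f a = .a 4 := fun a ha ha1 =>
          (quat_unique (f a) (by rw [← map_mul, ha, map_one])).resolve_left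
            fun e => ha1 (hf (e.trans (map_one f).symm))
        exact congrArg Subtype.val (hf ((key ⟨x, hT (mem_sup_left (mem_zpowers x))⟩ (Subtype.ext hx2)
          (fun e' => e (congrArg Subtype.val e'))).trans (key ⟨t', hT (mem_sup_right (mem_zpowers t'))⟩
          (Subtype.ext ht'2) (fun e' => ht'1 (congrArg Subtype.val e'))).symm))
      have h1 : S ⊆ {1, t'} := fun x hx => by simpa using hall x hx
      have h2 := (Finset.card_le_card h1).trans Finset.card_le_two
      omega
  · -- the image is the alternating group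
    exfalso
    have hrange12 : Nat.card ψ.range = 12 := by rw [hK] at hrange; omega
    have hidx : ψ.range.index = 2 := by
      have h1 := ψ.range.card_mul_index
      rw [hrange12, Nat.card_perm, Nat.card_fin] at h1
      rw [show Nat.factorial 4 = 24 from rfl] at h1
      omega
    have hsign : ∀ g : C, Equiv.Perm.sign (ψ g) = 1 := fun g => by
      have h1 : ψ g ∈ ψ.range := ⟨g, rfl⟩
      rw [Equiv.Perm.eq_alternatingGroup_of_index_eq_two hidx] at h1
      exact h1
    haveI : IsMulCommutative K :=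
      IsPGroup.isMulCommutative_of_card_eq_prime_sq (p := 2) (by rw [hK]; norm_num)
    have hKc : ∀ a ∈ K, ∀ b ∈ K, Commute a b := fun a ha b hb =>
      congrArg Subtype.val (IsMulCommutative.is_comm.comm (⟨a, ha⟩ : K) ⟨b, hb⟩)
    obtain ⟨k, hk, hk1, hkt, hKmem⟩ := exists_k ht'K ht'1 ht'2 hK
    have hcomm : ∀ x : C, x * x = 1 → Commute x k := by
      intro x hx2
      by_cases hxK : x ∈ K
      · exact hKc x hxK k hk
      have hσ1 : ψ x ≠ 1 := fun e => hxK (MonoidHom.mem_ker.mpr e)
      have hxk : x * k * x⁻¹ ∈ K := (MonoidHom.normal_ker ψ).conj_mem _ hk x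
      rcases hKmem _ hxk with e | e | e | e
      · exact absurd (conj_eq_one_iff.mp e) hk1
      · exfalso
        apply hkt
        have e' : x * k = t' * x := mul_inv_eq_iff_eq_mul.mp e
        rw [(htc x).eq] at e'
        exact mul_left_cancel e'
      · exact mul_inv_eq_iff_eq_mul.mp e
      exfalso
      have huk : Commute u k := hu_fix u hu k hk
      have hconj : ∀ y : C, y * k * y⁻¹ = k * t' → u * y * u⁻¹ * k * (u * y * u⁻¹)⁻¹ = k * t' := by
        intro y hy
        calc u * y * u⁻¹ * k * (u * y * u⁻¹)⁻¹ = u * (y * (u⁻¹ * k * u) * y⁻¹) * u⁻¹ := by group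
          _ = u * (k * t') * u⁻¹ := by rw [huk.inv_left.eq, inv_mul_cancel_right, hy]
          _ = k * t' := by rw [(huk.mul_right (htc u).symm).eq, mul_inv_cancel_right]
      have ey := hconj x e
      have ez := hconj _ ey
      have hrel := even_three_conj (ψ x) (ψ u) (hsign x) (by rw [← map_mul, hx2, map_one]) hσ1 hu3 hu1
      set y := u * x * u⁻¹ with hy
      set z := u * y * u⁻¹ with hz
      have hψ : ψ (x * y) = ψ z := by
        rw [hy, hz, hy]
        simpa using hrel
      set a := (x * y)⁻¹ * z with ha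
      have haK : a ∈ K := hpre hψ
      have e1 : z * k * z⁻¹ = k := by
        rw [show z = x * y * a by rw [ha, mul_inv_cancel_left]]
        calc x * y * a * k * (x * y * a)⁻¹ = x * (y * (a * k * a⁻¹) * y⁻¹) * x⁻¹ := by group
          _ = x * (k * t') * x⁻¹ := by rw [(hKc a haK k hk).eq, mul_inv_cancel_right, ey]
          _ = x * k * x⁻¹ * t' := by
              rw [← mul_assoc, mul_assoc _ t' x⁻¹, (htc x⁻¹).eq, ← mul_assoc]
          _ = k := by rw [e, mul_assoc, ht'2, mul_one]
      rw [ez] at e1
      exact ht'1 (mul_eq_left.mp e1)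
    -- `k` has order four
    have hk2 : k * k ≠ 1 := by
      intro hkk
      obtain ⟨x, hx, hxK⟩ : ∃ x ∈ S, x ∉ K := by
        by_contra hno
        push Not at hno
        have h1 : S.card ≤ 4 := by
          rw [← hK, ← Nat.card_eq_finsetCard]
          exact Nat.card_le_card_of_injective (fun x : S => (⟨x.1, hno x.1 x.2⟩ : K))
            fun a b e => Subtype.ext (congrArg Subtype.val e :)
        omega
      have hx2 : x * x = 1 := (Finset.mem_filter.mp hx).2
      refine false_of_triple h (a := (t' : G)) (b := (k : G)) (c := (x : G)) (congrArg Subtype.val ht'2)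
        (congrArg Subtype.val hkk) (congrArg Subtype.val hx2) (Commute.map (htc k) C.subtype)
        (Commute.map (htc x) C.subtype) (Commute.map (hcomm x hx2).symm C.subtype)
        (fun e => ht'1 (Subtype.ext e)) (fun e => hk1 (Subtype.ext e))
        (fun e => hkt (Subtype.ext e).symm) ?_
      rintro (e | e | e | e)
      · exact hxK (Subtype.ext (p := (· ∈ C)) (a1 := x) (a2 := 1) e ▸ one_mem _)
      · exact hxK (Subtype.ext (p := (· ∈ C)) (a1 := x) (a2 := t') e ▸ ht'K)
      · exact hxK (Subtype.ext (p := (· ∈ C)) (a1 := x) (a2 := k) e ▸ hk)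
      · exact hxK (Subtype.ext (p := (· ∈ C)) (a1 := x) (a2 := t' * k) e ▸ mul_mem ht'K hk)
    have hfib : ∀ x ∈ S, ∀ y ∈ S, ψ x = ψ y → y = x ∨ y = x * t' := by
      intro x hx y hy e
      have hx2 : x * x = 1 := (Finset.mem_filter.mp hx).2
      have hy2 : y * y = 1 := (Finset.mem_filter.mp hy).2
      set a := x⁻¹ * y with ha
      have hya : y = x * a := by rw [ha, mul_inv_cancel_left]
      have hxa : Commute x a := by
        rcases hKmem a (hpre e) with e | e | e | e <;> rw [e]
        exacts [Commute.one_right x, (htc x).symm, hcomm x hx2, (hcomm x hx2).mul_right (htc x).symm]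
      have ha2 : a * a = 1 := by
        have := hy2
        rw [hya, hxa.symm.mul_mul_mul_comm, hx2, one_mul] at this
        exact this
      rcases hKmem a (hpre e) with e | e | e | e
      · exact Or.inl (by rw [hya, e, mul_one])
      · exact Or.inr (by rw [hya, e])
      · exact absurd (e ▸ ha2) hk2
      · rw [e, (htc k).mul_mul_mul_comm, ht'2, mul_one] at ha2
        exact absurd ha2 hk2
    have h8 : S.card ≤ 8 := by
      refine (Finset.card_le_mul_card_image (f := ψ) S 2 ?_).trans ?_
      · intro b hb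
        obtain ⟨x, hx, rfl⟩ := Finset.mem_image.mp hb
        refine (Finset.card_le_card (t := {x, x * t'}) fun y hy => ?_).trans Finset.card_le_two
        obtain ⟨hy, e⟩ := Finset.mem_filter.mp hy
        simpa using hfib x hx y hy e.symm
      · refine le_trans (Nat.mul_le_mul_left 2 (Finset.card_le_card ?_)) (by rw [even_squares])
        intro σ hσ
        obtain ⟨x, hx, rfl⟩ := Finset.mem_image.mp hσ
        refine Finset.mem_filter.mpr ⟨Finset.mem_univ _, hsign x, ?_⟩
        rw [← map_mul, (Finset.mem_filter.mp hx).2, map_one]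
    omega

end Cfsg.Agent.Lib.SmallSimple1.L33
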