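/-
The simple group of order 5616.
-/
import Mathlib
import Cfsg.Agent.Lib.SmallSimple1.L33Cent
import Cfsg.Agent.Lib.GLTwoThreeAmalgam.Entry

set_option autoImplicit false
set_option linter.style.haveILetI false

namespace Cfsg.Agent.Lib.SmallSimple1

open Cfsg.Agent.Lib.InvCentralizer Cfsg.Agent.Lib.GLTwoThreeAmalgam

universe u

/-- A simple group of order 5616 is the three-dimensional projective special linear group over
three elements. -/
theorem iso_of_card_5616 {G : Type u} [Group G] [Finite G] [IsSimpleGroup G]
    (h : Nat.card G = 5616) :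
    Nonempty (G ≃* Matrix.ProjectiveSpecialLinearGroup (Fin 3) (ZMod 3)) := by
  haveI : Fact (Nat.Prime 2) := ⟨Nat.prime_two⟩
  obtain ⟨t, ht⟩ := exists_prime_orderOf_dvd_card' (G := G) 2 (by rw [h]; norm_num)
  obtain ⟨e⟩ := L33.exists_centralizer_iso h ht
  have hno : ∀ K : Subgroup G, K.index ≠ 2 := by
    intro K hK
    rcases (Subgroup.normal_of_index_eq_two hK).eq_bot_or_eq_top with hb | hb
    · rw [hb, Subgroup.index_bot, h] at hK
      norm_num at hK
    · rw [hb, Subgroup.index_top] at hK
      norm_num at hK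
  obtain ⟨H⟩ := nonempty_hyp hno ht (e.trans glThreeEquiv)
  rcases classify H with hl | hf
  · exact hl
  · obtain ⟨f⟩ := id hf
    exfalso
    have h2 := Nat.card_congr f.toEquiv
    rw [h, Compute.Mathieu.card_m11] at h2
    norm_num at h2

end Cfsg.Agent.Lib.SmallSimple1
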