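import Mathlib
import Cfsg.Agent.Lib.SmallSimple1.Struct
import Cfsg.Agent.Lib.SmallSimple1.Models
import Cfsg.Agent.Lib.SmallSimple1.Degrees

/-!
Groups of order `360` with a section of order `60` do not have the degree graph of `A₆`.
-/

set_option autoImplicit false

namespace Cfsg.Agent.Lib.SmallSimple1

open Cfsg
open Cfsg.Agent.Lib
open scoped ComplexConjugate commutatorElement IsMulCommutative

universe u

variable {G : Type u} [Group G] [Finite G]

/-- A degree of a section `L/M` with both normal divides a degree of the group. -/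
theorem exists_degree_above_section (L : Subgroup G) [L.Normal] (M : Subgroup G) [M.Normal]
    {d : ℕ} (hd : d ∈ charDegrees (L ⧸ M.subgroupOf L)) : ∃ e ∈ charDegrees G, d ∣ e := by
  set f : L →* G ⧸ M := (QuotientGroup.mk' M).comp L.subtype with hf
  have hker : f.ker = M.subgroupOf L := by
    ext x
    simp [hf, Subgroup.mem_subgroupOf]
  haveI : f.range.Normal := by
    rw [hf, MonoidHom.range_comp, Subgroup.range_subtype]
    exact Subgroup.Normal.map inferInstance _ (QuotientGroup.mk'_surjective M)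
  rw [RankSeries.charDegrees_congr (QuotientGroup.quotientMulEquivOfEq hker.symm),
    RankSeries.charDegrees_congr (QuotientGroup.quotientKerEquivRange f)] at hd
  obtain ⟨e, he, hde⟩ := exists_degree_above f.range hd
  exact ⟨e, RankSeries.charDegrees_quotient_sub M he, hde⟩

omit [Finite G] in
/-- In a perfect group a normal subgroup of prime order is central. -/
theorem central_of_perfect {L : Type u} [Group L] (hperf : commutator L = ⊤) (N : Subgroup L)
    [N.Normal] {p : ℕ} [Fact p.Prime] (hN : Nat.card N = p) : N ≤ Subgroup.center L := by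
  haveI : IsCyclic N := isCyclic_of_prime_card hN
  intro z hz
  rw [Subgroup.mem_center_iff]
  intro g
  have hle : commutator L ≤ Subgroup.centralizer (N : Set L) := by
    rw [_root_.commutator_def, Subgroup.commutator_le]
    intro a _ b _
    rw [Subgroup.mem_centralizer_iff]
    intro y hy
    obtain ⟨i, hi⟩ := MonoidHom.map_cyclic (MulAut.conjNormal a : MulAut N).toMonoidHom
    obtain ⟨j, hj⟩ := MonoidHom.map_cyclic (MulAut.conjNormal b : MulAut N).toMonoidHom
    have hia : ∀ w : N, (a : L) * w * a⁻¹ = ((w ^ i : N) : L) := fun w => by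
      rw [← hi w]
      simp
    have hjb : ∀ w : N, (b : L) * w * b⁻¹ = ((w ^ j : N) : L) := fun w => by
      rw [← hj w]
      simp
    have hab : a * b * y * (a * b)⁻¹ = b * a * y * (b * a)⁻¹ := by
      have e1 : a * b * y * (a * b)⁻¹ = a * (b * y * b⁻¹) * a⁻¹ := by group
      have e2 : b * a * y * (b * a)⁻¹ = b * (a * y * a⁻¹) * b⁻¹ := by group
      rw [e1, e2, hjb ⟨y, hy⟩, hia ⟨y, hy⟩, hia, hjb, ← zpow_mul, ← zpow_mul, mul_comm i j]
    have h2 : (b * a)⁻¹ * (a * b) * y * ((b * a)⁻¹ * (a * b))⁻¹ = y := by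
      have e : (b * a)⁻¹ * (a * b) * y * ((b * a)⁻¹ * (a * b))⁻¹ =
          (b * a)⁻¹ * (a * b * y * (a * b)⁻¹) * (b * a) := by group
      rw [e, hab]
      group
    have hba : ∀ a b : L, ⁅a, b⁆ = (b * a) * ((b * a)⁻¹ * (a * b)) * (b * a)⁻¹ := fun a b => by
      rw [commutatorElement_def]; group
    rw [hba]
    have h3 : ∀ w ∈ N, (b * a)⁻¹ * (a * b) * w = w * ((b * a)⁻¹ * (a * b)) := by
      intro w hw
      have hab' : a * b * w * (a * b)⁻¹ = b * a * w * (b * a)⁻¹ := by
        have e1 : a * b * w * (a * b)⁻¹ = a * (b * w * b⁻¹) * a⁻¹ := by group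
        have e2 : b * a * w * (b * a)⁻¹ = b * (a * w * a⁻¹) * b⁻¹ := by group
        rw [e1, e2, hjb ⟨w, hw⟩, hia ⟨w, hw⟩, hia, hjb, ← zpow_mul, ← zpow_mul, mul_comm i j]
      rw [← mul_inv_eq_iff_eq_mul]
      have e : (b * a)⁻¹ * (a * b) * w * ((b * a)⁻¹ * (a * b))⁻¹ =
          (b * a)⁻¹ * (a * b * w * (a * b)⁻¹) * (b * a) := by group
      rw [e, hab']
      group
    have hy' : (b * a)⁻¹ * y * (b * a) ∈ N := Subgroup.Normal.conj_mem' inferInstance y hy _
    have := h3 _ hy'
    calc y * ((b * a) * ((b * a)⁻¹ * (a * b)) * (b * a)⁻¹)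
        = (b * a) * (((b * a)⁻¹ * y * (b * a)) * ((b * a)⁻¹ * (a * b))) * (b * a)⁻¹ := by group
      _ = (b * a) * ((b * a)⁻¹ * (a * b)) * (b * a)⁻¹ * y := by rw [← this]; group
  have h := hle (hperf ▸ Subgroup.mem_top g)
  exact (Subgroup.mem_centralizer_iff.1 h z hz).symm

omit [Finite G] in
/-- A perfect group with Sylow `p`-subgroups of order `p ^ 2` has no normal subgroup of order
`p`. -/
theorem false_of_perfect_normal_prime {L : Type u} [Group L] [Finite L]
    (hperf : commutator L = ⊤) {p : ℕ} [hp : Fact p.Prime] (hp2 : p ^ 2 ∣ Nat.card L)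
    (hp3 : ¬ p ^ 3 ∣ Nat.card L) (N : Subgroup L) [N.Normal] (hN : Nat.card N = p) : False := by
  obtain ⟨S, hS⟩ := (IsPGroup.of_card (n := 1) (by rw [hN, pow_one]) : IsPGroup p N).exists_le_sylow
  have hSc : Nat.card (S : Subgroup L) = p ^ 2 := by
    obtain ⟨k, hk⟩ := IsPGroup.iff_card.1 S.isPGroup'
    have h1 : p ^ 2 ∣ Nat.card (S : Subgroup L) :=
      Sylow.pow_dvd_card_of_pow_dvd_card S hp2
    rw [hk] at h1 ⊢
    have h2 : k < 3 := by
      by_contra h
      exact hp3 ((pow_dvd_pow p (by omega : 3 ≤ k)).trans (hk ▸ Subgroup.card_subgroup_dvd_card _))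
    have h3 : 2 ≤ k := (Nat.pow_dvd_pow_iff_le_right hp.out.one_lt).1 h1
    rw [show k = 2 by omega]
  haveI : IsMulCommutative (S : Subgroup L) := IsPGroup.isMulCommutative_of_card_eq_prime_sq hSc
  obtain ⟨⟨z, hzN⟩, hz⟩ := exists_prime_orderOf_dvd_card' p (hN ▸ dvd_rfl : p ∣ Nat.card N)
  rw [Subgroup.orderOf_mk] at hz
  have hzc := central_of_perfect hperf N hN hzN
  set τ := MonoidHom.transfer (MonoidHom.id (S : Subgroup L)) with hτ
  have hτ1 : τ z = 1 := by
    have hle : commutator L ≤ τ.ker := Abelianization.commutator_subset_ker τ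
    exact hle (hperf ▸ Subgroup.mem_top z)
  have key : ∀ (k : ℕ) (g₀ : L), g₀⁻¹ * z ^ k * g₀ ∈ (S : Subgroup L) →
      g₀⁻¹ * z ^ k * g₀ = z ^ k := fun k g₀ _ => by
    rw [mul_assoc, ← Subgroup.mem_center_iff.1 (Subgroup.pow_mem _ hzc k) g₀, inv_mul_cancel_left]
  rw [hτ, MonoidHom.transfer_eq_pow _ z key, MonoidHom.id_apply, ← Subtype.coe_inj] at hτ1
  simp only [OneMemClass.coe_one] at hτ1
  have hdvd := orderOf_dvd_of_pow_eq_one hτ1
  rw [hz] at hdvd
  exact S.not_dvd_index hdvd

variable (L : Subgroup G) [hLn : L.Normal]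

/-- `A₅` with a centralising subgroup of order three moved by the group gives a degree `6`. -/
theorem six_mem_of_moved (hLc : Nat.card L = 60) (h3 : 3 ∈ charDegrees L) (C : Subgroup G)
    [hCn : C.Normal] (hCc : Nat.card C = 3) (hdis : ∀ x ∈ C, x ∈ L → x = 1)
    (hcomm : ∀ c ∈ C, ∀ l ∈ L, c * l = l * c) (hidx : L.index = 6)
    {g : G} {c : G} (hc : c ∈ C) (hg : g * c * g⁻¹ ≠ c) : 6 ∈ charDegrees G := by
  classical
  haveI : Fact (Nat.Prime 3) := ⟨Nat.prime_three⟩
  set K := (C.map (QuotientGroup.mk' L)).comap (QuotientGroup.mk' L) with hK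
  haveI : (C.map (QuotientGroup.mk' L)).Normal := hCn.map _ (QuotientGroup.mk'_surjective L)
  haveI : K.Normal := inferInstance
  have hCK : C ≤ K := fun x hx => ⟨x, hx, rfl⟩
  have hLK : L ≤ K := fun x hx => by
    rw [hK, Subgroup.mem_comap, QuotientGroup.mk'_apply, (QuotientGroup.eq_one_iff x).2 hx]
    exact Subgroup.one_mem _
  have himg : Nat.card (C.map (QuotientGroup.mk' L)) = 3 := by
    rw [← hCc]
    refine (Nat.card_congr (Equiv.ofBijective
      (fun x : C => (⟨QuotientGroup.mk' L x, x, x.2, rfl⟩ : C.map (QuotientGroup.mk' L))) ⟨?_, ?_⟩)).symm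
    · intro a b hab
      have h := QuotientGroup.eq.1 (congrArg Subtype.val hab)
      have := hdis _ (C.mul_mem (C.inv_mem a.2) b.2) h
      exact Subtype.ext (inv_mul_eq_one.1 this)
    · rintro ⟨y, x, hx, rfl⟩
      exact ⟨⟨x, hx⟩, rfl⟩
  have hKidx : K.index = 2 := by
    rw [hK, Subgroup.index_comap_of_surjective _ (QuotientGroup.mk'_surjective L)]
    have h := (C.map (QuotientGroup.mk' L)).card_mul_index
    rw [himg, ← Subgroup.index_eq_card, hidx] at h
    omega
  have hKc : Nat.card K = 180 := by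
    have h1 := K.card_mul_index
    have h2 := L.card_mul_index
    rw [hKidx] at h1
    rw [hLc, hidx] at h2
    omega
  -- `K/C` is `L`
  set C' := C.subgroupOf K with hC'
  haveI : C'.Normal := inferInstance
  let ι : L →* K ⧸ C' := (QuotientGroup.mk' C').comp (Subgroup.inclusion hLK)
  have hι : Function.Injective ι := by
    rw [injective_iff_map_eq_one]
    intro l hl
    have hl' : ((Subgroup.inclusion hLK l : K) : K ⧸ C') = 1 := hl
    have hl2 : Subgroup.inclusion hLK l ∈ C' := (QuotientGroup.eq_one_iff _).1 hl'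
    have hlC : (l : G) ∈ C := Subgroup.mem_subgroupOf.1 hl2
    exact Subtype.ext (hdis _ hlC l.2)
  have hQc : Nat.card (K ⧸ C') = 60 := by
    have h := Subgroup.card_eq_card_quotient_mul_card_subgroup C'
    rw [hKc, Nat.card_congr (Subgroup.subgroupOfEquivOfLe hCK).toEquiv, hCc] at h
    omega
  let e : L ≃* K ⧸ C' := MulEquiv.ofBijective ι
    ((Nat.bijective_iff_injective_and_card _).2 ⟨hι, by rw [hLc, hQc]⟩)
  rw [RankSeries.charDegrees_congr e] at h3
  obtain ⟨ψ, hψ⟩ := h3
  set φ₀ := Chars.inflate C' ψ with hφ₀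
  have hφ₀1 : (φ₀ : K → ℂ) 1 = 3 := by
    rw [(Chars.charDegree_spec φ₀).2]
    exact_mod_cast hψ
  -- a linear character of `K` faithful on `C`
  set L' := L.subgroupOf K with hL'
  haveI : L'.Normal := inferInstance
  have hQL : Nat.card (K ⧸ L') = 3 := by
    have h := Subgroup.card_eq_card_quotient_mul_card_subgroup L'
    rw [hKc, Nat.card_congr (Subgroup.subgroupOfEquivOfLe hLK).toEquiv, hLc] at h
    omega
  haveI : IsCyclic (K ⧸ L') := isCyclic_of_prime_card hQL
  letI : CommGroup (K ⧸ L') := IsCyclic.commGroup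
  set cK : K := ⟨c, hCK hc⟩ with hcK
  have hc1 : c ≠ 1 := fun h => hg (by simp [h])
  have hcL : ((cK : K) : K ⧸ L') ≠ 1 := fun h => hc1
    (hdis c hc (Subgroup.mem_subgroupOf.1 ((QuotientGroup.eq_one_iff _).1 h)))
  obtain ⟨μ₀, hμ₀⟩ := CommGroup.exists_apply_ne_one_of_hasEnoughRootsOfUnity (K ⧸ L') ℂ hcL
  set μ : K →* ℂˣ := μ₀.comp (QuotientGroup.mk' L') with hμ
  have hirr := Chars.isIrrCharacter_hom_mul μ φ₀.2
  -- conjugation by `g` inverts `c`
  have hgc : g * c * g⁻¹ ∈ C := hCn.conj_mem c hc g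
  have hzc : Subgroup.zpowers c = C := Subgroup.eq_of_le_of_card_ge (Subgroup.zpowers_le.2 hc) (by
    rw [hCc, Nat.card_zpowers]
    refine le_of_eq (((Nat.dvd_prime Nat.prime_three).1 (hCc ▸ Subgroup.orderOf_dvd_natCard _ hc)
      ).resolve_left ?_).symm
    exact fun h => hc1 (orderOf_eq_one_iff.1 h))
  have hoc : orderOf c = 3 := by rw [← Nat.card_zpowers, hzc, hCc]
  have hinv : g * c * g⁻¹ = c⁻¹ := by
    have h := hgc
    rw [← hzc, mem_zpowers_iff_mem_range_orderOf, hoc, Finset.mem_image] at h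
    obtain ⟨i, hi, hgi⟩ := h
    rw [Finset.mem_range] at hi
    interval_cases i
    · exact absurd (conj_eq_one_iff.1 (hgi.symm.trans (pow_zero c))) hc1
    · exact absurd (hgi.symm.trans (pow_one c)) hg
    · rw [← hgi, eq_inv_iff_mul_eq_one, ← pow_succ, show 2 + 1 = orderOf c by omega, pow_orderOf_eq_one]
  have hφc : ∀ x : K, (x : G) ∈ C → (φ₀ : K → ℂ) x = 3 := fun x hx => by
    rw [← hφ₀1]
    show (ψ : K ⧸ C' → ℂ) _ = (ψ : K ⧸ C' → ℂ) _
    rw [(QuotientGroup.eq_one_iff x).2 (Subgroup.mem_subgroupOf.2 hx)]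
    rfl
  have hmoved : Clifford.conjFun g (fun x : K => (μ x : ℂ) * (φ₀ : K → ℂ) x) ≠
      fun x : K => (μ x : ℂ) * (φ₀ : K → ℂ) x := by
    intro h
    have h' := congrFun h cK
    simp only [Clifford.conjFun] at h'
    rw [hφc _ hgc, hφc cK hc] at h'
    have h'' := mul_right_cancel₀ (by norm_num : (3 : ℂ) ≠ 0) h'
    have e2 : (⟨g * cK * g⁻¹, Subgroup.Normal.conj_mem inferInstance _ cK.2 g⟩ : K) = cK⁻¹ :=
      Subtype.ext hinv
    rw [e2, Units.val_inj, map_inv] at h''
    have h2 : μ cK ^ 2 = 1 := by rw [pow_two]; nth_rw 1 [← h'']; exact inv_mul_cancel _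
    have h3 : μ cK ^ 3 = 1 := by
      rw [← map_pow, show cK ^ 3 = 1 from Subtype.ext (by simp [hcK, ← hoc, pow_orderOf_eq_one]),
        map_one]
    apply hμ₀
    have : μ cK = 1 := by
      rw [pow_succ, h2, one_mul] at h3
      exact h3
    simpa [hμ] using this
  have := two_mul_mem_charDegrees K hKidx ⟨_, hirr⟩ g hmoved
  have hdeg : charDegree (fun x : K => (μ x : ℂ) * (φ₀ : K → ℂ) x) = 3 := by
    simp [charDegree, hφ₀1]
  rw [show charDegree ((⟨_, hirr⟩ : IrrCharacter K) : K → ℂ) = 3 from hdeg] at this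
  exact this

/-- `A₅` with a central subgroup of order three and index six gives no degree divisible by `10`. -/
theorem not_ten_of_central (hLc : Nat.card L = 60) (hdeg : ∀ d ∈ charDegrees L, RankSeries.DegreesSL 4 d)
    (h3 : 3 ∈ charDegrees L) (h4 : 4 ∈ charDegrees L) (C : Subgroup G) (hCc : Nat.card C = 3)
    (hdis : ∀ x ∈ C, x ∈ L → x = 1) (hcen : C ≤ Subgroup.center G) (hidx : L.index = 6) :
    ∀ e ∈ charDegrees G, ¬ 10 ∣ e := by
  classical
  cases nonempty_fintype G
  cases nonempty_fintype L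
  cases nonempty_fintype C
  rintro e ⟨χ, rfl⟩ he
  have hc1 := (Chars.charDegree_spec χ).2
  have hch := Chars.isCharacter_restrict L (Chars.irr_isCharacter χ)
  -- every constituent has degree five
  have hfive : ∀ θ : IrrCharacter L, classInner (fun n : L => (χ : G → ℂ) n) (θ : L → ℂ) ≠ 0 →
      charDegree (θ : L → ℂ) = 5 := by
    intro θ hθ
    have h := (constituent_degree L χ θ hθ).2
    rw [hidx] at h
    have h10 := he.trans h
    have := hdeg _ ⟨θ, rfl⟩
    unfold RankSeries.DegreesSL at this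
    omega
  obtain ⟨θ, hθ⟩ : ∃ θ : IrrCharacter L,
      classInner (fun n : L => (χ : G → ℂ) n) (θ : L → ℂ) ≠ 0 := by
    by_contra! h0
    have := congrFun (Chars.isCharacter_eq_sum_classInner hch) 1
    simp [h0, Chars.irr_apply_one_ne_zero] at this
  have huniq : ∀ η : IrrCharacter L, η ≠ θ →
      classInner (fun n : L => (χ : G → ℂ) n) (η : L → ℂ) = 0 := by
    intro η hne
    by_contra hη
    obtain ⟨α, hα⟩ := h3
    obtain ⟨β, hβ⟩ := h4
    have h5 := hfive θ hθ
    have h5' := hfive η hη
    have hd : ({η, θ, α, β} : Finset (IrrCharacter L)).sum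
        (fun ψ => charDegree (ψ : L → ℂ) ^ 2) = 75 := by
      have n1 : θ ≠ α := fun h => by rw [h] at h5; omega
      have n2 : θ ≠ β := fun h => by rw [h] at h5; omega
      have n3 : η ≠ α := fun h => by rw [h] at h5'; omega
      have n4 : η ≠ β := fun h => by rw [h] at h5'; omega
      have n5 : α ≠ β := fun h => by rw [h] at hα; omega
      simp [Finset.sum_insert, hne, n1, n2, n3, n4, n5, h5, h5', hα, hβ]
    have := sum_sq_le (G := L) ({η, θ, α, β} : Finset (IrrCharacter L))
    omega
  have hres : (fun n : L => (χ : G → ℂ) n) =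
      classInner (fun n : L => (χ : G → ℂ) n) (θ : L → ℂ) • (θ : L → ℂ) := by
    refine (Chars.isCharacter_eq_sum_classInner hch).trans ?_
    exact Finset.sum_eq_single θ (fun η _ hne => by rw [huniq η hne, zero_smul]) (by simp)
  set m := classInner (fun n : L => (χ : G → ℂ) n) (θ : L → ℂ) with hm
  have hm5 : m * 5 = (charDegree (χ : G → ℂ) : ℂ) := by
    have h := congrFun hres 1
    simp only [Pi.smul_apply, smul_eq_mul, (Chars.charDegree_spec θ).2, hfive θ hθ] at h
    rw [← hc1]
    exact_mod_cast h.symm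
  have hL2 : ∑ n : L, ((χ : G → ℂ) n) * conj ((χ : G → ℂ) n) = 60 * (m * conj m) := by
    have h := congrArg (fun f : L → ℂ => classInner f f) hres
    simp only [Chars.classInner_smul_left, Chars.classInner_smul_right,
      Chars.classInner_irr_self, mul_one] at h
    rw [mul_comm m, ← h, classInner, hLc]
    push_cast
    ring
  have hG2 : ∑ x : G, ((χ : G → ℂ) x) * conj ((χ : G → ℂ) x) = 360 := by
    have h := Chars.classInner_irr_self χ
    rw [classInner, inv_mul_eq_one₀ Chars.natCard_ne_zero] at h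
    rw [← h, ← L.card_mul_index, hLc, hidx]
    norm_num
  have hreal : ∀ z : ℂ, (z * conj z).re = ‖z‖ ^ 2 := fun z => by
    rw [Complex.mul_conj']; norm_cast
  have hL3 : ∑ n : L, ‖(χ : G → ℂ) n‖ ^ 2 = 60 * ‖m‖ ^ 2 := by
    have h := congrArg Complex.re hL2
    simp only [Complex.re_sum, hreal, Complex.mul_re] at h
    simpa [hreal, ← Complex.mul_conj'] using h
  have hG3 : ∑ x : G, ‖(χ : G → ℂ) x‖ ^ 2 = 360 := by
    have h := congrArg Complex.re hG2
    simpa [Complex.re_sum, hreal] using h
  have hinj : Function.Injective (fun p : C × L => (p.1 : G) * p.2) := by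
    rintro ⟨a, b⟩ ⟨a', b'⟩ h
    have h' : (a' : G)⁻¹ * a = b' * (b : G)⁻¹ := by
      rw [eq_mul_inv_iff_mul_eq, mul_assoc, inv_mul_eq_iff_eq_mul]
      exact h
    have h1 := hdis _ (C.mul_mem (C.inv_mem a'.2) a.2) (h' ▸ L.mul_mem b'.2 (L.inv_mem b.2))
    have h2 : (a : G) = a' := (inv_mul_eq_one.1 h1).symm
    have h3 : (b : G) = b' := by
      have : (a : G) * b = a' * b' := h
      rw [h2] at this
      exact mul_left_cancel this
    exact Prod.ext (Subtype.ext h2) (Subtype.ext h3)
  have hle : ∑ p : C × L, ‖(χ : G → ℂ) ((p.1 : G) * p.2)‖ ^ 2 ≤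
      ∑ x : G, ‖(χ : G → ℂ) x‖ ^ 2 := by
    rw [← Finset.sum_image (f := fun x : G => ‖(χ : G → ℂ) x‖ ^ 2) (fun a _ b _ h => hinj h)]
    exact Finset.sum_le_univ_sum_of_nonneg fun _ => sq_nonneg _
  rw [Fintype.sum_prod_type,
    Finset.sum_congr rfl (fun a _ => Finset.sum_congr rfl fun b _ => by
      rw [norm_irr_mul_center χ (hcen a.2) (b : G)])] at hle
  simp only [hL3, Finset.sum_const, Finset.card_univ, nsmul_eq_mul, hG3,
    Fintype.card_eq_nat_card, hCc] at hle
  have hnorm : ‖m‖ * 5 = (charDegree (χ : G → ℂ) : ℝ) := by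
    have h := congrArg (‖·‖) hm5
    simpa using h
  have hge : (10 : ℝ) ≤ (charDegree (χ : G → ℂ) : ℝ) := by
    exact_mod_cast Nat.le_of_dvd (Chars.charDegree_spec χ).1 he
  push_cast at hle
  nlinarith [norm_nonneg m]

omit hLn in
/-- A nonsolvable group of order `360` with a section of order `60` has a degree divisible by `6`
or none divisible by `10`. -/
theorem false_360 [L.Normal] (hG : Nat.card G = 360) (hperf : commutator L = ⊤) (M : Subgroup L)
    [M.Normal] [IsSimpleGroup (L ⧸ M)] (hT : Nat.card (L ⧸ M) = 60)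
    (h10 : ∃ e ∈ charDegrees G, 10 ∣ e) (h6 : ∀ e ∈ charDegrees G, ¬ 6 ∣ e) : False := by
  classical
  haveI : Fact (Nat.Prime 3) := ⟨Nat.prime_three⟩
  have hdata := data_60 hT
  have hTL := Subgroup.card_eq_card_quotient_mul_card_subgroup M
  rw [hT] at hTL
  have hGL := L.card_mul_index
  rw [hG, hTL] at hGL
  have hprod : Nat.card M * L.index = 6 := by nlinarith
  obtain ⟨e, he, h10e⟩ := h10
  obtain ⟨d, hd, -, hed⟩ := exists_degree_below L he
  have hMne : Nat.card M ∣ 6 := ⟨_, hprod.symm⟩
  by_cases h3M : 3 ∣ Nat.card M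
  · obtain ⟨P, hPn, hPc⟩ := exists_normal_of_divisors (G := M) (r := 3) h3M
      (fun h => absurd (h.trans hMne) (by norm_num))
      fun d' hd' h1 => by
        have := Nat.le_of_dvd (by norm_num) (hd'.trans hMne)
        have h6' := hd'.trans hMne
        interval_cases d' <;> omega
    haveI := normal_of_le_normal Nat.prime_three (J := M) inferInstance
      (Subgroup.map_subtype_le P)
      (by
        rw [Subgroup.subgroupOf, Subgroup.comap_map_eq_self_of_injective M.subtype_injective]
        exact hPn)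
      (by rw [Subgroup.card_map_of_injective M.subtype_injective, hPc])
      (fun h => absurd (h.trans hMne) (by norm_num))
    have hML : Nat.card L = 180 ∨ Nat.card L = 360 := by
      obtain ⟨k, hk⟩ := h3M
      have hk2 := Nat.le_of_dvd (by norm_num) hMne
      rw [hTL, hk]
      have : k = 1 ∨ k = 2 := by
        have hk0 : k ≠ 0 := fun h => Nat.card_pos.ne' (hk.trans (by rw [h, mul_zero]))
        omega
      omega
    refine false_of_perfect_normal_prime hperf (p := 3) ?_ ?_ (P.map M.subtype)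
      (by rw [Subgroup.card_map_of_injective M.subtype_injective, hPc])
    · rcases hML with h | h <;> rw [h] <;> norm_num
    · rcases hML with h | h <;> rw [h] <;> norm_num
  have hMc : Nat.card M = 1 ∨ Nat.card M = 2 := by
    have := Nat.le_of_dvd (by norm_num) hMne
    interval_cases (Nat.card M) <;> omega
  have hsub := RankSeries.charDegrees_quotient_sub M
  rcases hMc with hM1 | hM2
  · -- `L` is simple of order `60`
    have hLc : Nat.card L = 60 := by rw [hTL, hM1]
    have hidx : L.index = 6 := by rw [hM1, one_mul] at hprod; exact hprod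
    have hMbot : M = ⊥ := Subgroup.eq_bot_of_card_eq M hM1
    let eL : L ≃* L ⧸ M := (QuotientGroup.quotientBot.symm).trans
      (QuotientGroup.quotientMulEquivOfEq hMbot.symm)
    have hdeg : charDegrees L = charDegrees (L ⧸ M) := RankSeries.charDegrees_congr eL
    haveI : IsSimpleGroup L := MulEquiv.isSimpleGroup eL
    have hnc : ¬ IsMulCommutative L := SmallGroups.not_isMulCommutative_of_not_prime
      (by rw [hLc]; norm_num)
    haveI hker : (MulAut.conjNormal : G →* MulAut L).ker.Normal := inferInstance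
    set f : G →* MulAut L := MulAut.conjNormal with hf
    have hfk : ∀ x ∈ f.ker, ∀ l ∈ L, x * l = l * x := by
      intro x hx l hl
      have h := congrArg Subtype.val (DFunLike.congr_fun (MonoidHom.mem_ker.1 hx) (⟨l, hl⟩ : L))
      simp only [hf, MulAut.conjNormal_apply, MulAut.one_apply] at h
      exact mul_inv_eq_iff_eq_mul.1 h
    have hdisk : ∀ x ∈ f.ker, x ∈ L → x = 1 := by
      intro x hx hxL
      have hZ : (⟨x, hxL⟩ : L) ∈ Subgroup.center L :=
        Subgroup.mem_center_iff.2 fun l => Subtype.ext (hfk x hx l l.2).symm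
      rcases (inferInstance : (Subgroup.center L).Normal).eq_bot_or_eq_top with h | h
      · rw [h, Subgroup.mem_bot] at hZ
        exact congrArg Subtype.val hZ
      · exact absurd ⟨⟨fun a b => (Subgroup.mem_center_iff.1 (h ▸ Subgroup.mem_top b) a)⟩⟩ hnc
    have hker6 : Nat.card f.ker ∣ 6 := by
      rw [← hidx, Subgroup.index_eq_card]
      refine Subgroup.card_dvd_of_injective ((QuotientGroup.mk' L).comp f.ker.subtype) ?_
      rw [injective_iff_map_eq_one]
      intro x hx
      exact Subtype.ext (hdisk x x.2 ((QuotientGroup.eq_one_iff _).1 hx))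
    have hrange : Nat.card f.range ∣ 120 := by
      rw [← hdata.aut, ← card_mulAut_congr eL]
      exact Subgroup.card_subgroup_dvd_card _
    have h3k : 3 ∣ Nat.card f.ker := by
      have h := f.ker.card_mul_index
      rw [Subgroup.index_ker, hG] at h
      rcases (Nat.prime_three.dvd_mul).1 (h.symm ▸ (by norm_num : 3 ∣ 360)) with h' | h'
      · exact h'
      · by_contra h3
        have h9 : 9 ∣ Nat.card f.range := by
          have : 9 ∣ Nat.card f.ker * Nat.card f.range := h.symm ▸ (by norm_num)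
          exact (((Nat.prime_three.coprime_iff_not_dvd.2 h3).pow_left 2).dvd_of_dvd_mul_left this)
        exact absurd (h9.trans hrange) (by norm_num)
    obtain ⟨P, hPn, hPc⟩ := exists_normal_of_divisors (G := f.ker) (r := 3) h3k
      (fun h => absurd (h.trans hker6) (by norm_num))
      fun d' hd' h1 => by
        have := Nat.le_of_dvd (by norm_num) (hd'.trans hker6)
        have h6' := hd'.trans hker6
        interval_cases d' <;> omega
    set C := P.map f.ker.subtype with hC
    have hCc : Nat.card C = 3 := by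
      rw [hC, Subgroup.card_map_of_injective f.ker.subtype_injective, hPc]
    haveI hCn : C.Normal := normal_of_le_normal Nat.prime_three hker
      (Subgroup.map_subtype_le P)
      (by
        rw [hC, Subgroup.subgroupOf,
          Subgroup.comap_map_eq_self_of_injective f.ker.subtype_injective]
        exact hPn)
      hCc (fun h => absurd (h.trans hker6) (by norm_num))
    have hCk : C ≤ f.ker := Subgroup.map_subtype_le P
    have hdis : ∀ x ∈ C, x ∈ L → x = 1 := fun x hx => hdisk x (hCk hx)
    have h3L : 3 ∈ charDegrees L := hdeg ▸ hdata.pred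
    have h4L : 4 ∈ charDegrees L := hdeg ▸ hdata.self
    by_cases hcen : C ≤ Subgroup.center G
    · exact not_ten_of_central L hLc (fun d hd => hdata.degrees d (hdeg ▸ hd)) h3L h4L C hCc hdis
        hcen hidx e he h10e
    · obtain ⟨c, hc, hnc'⟩ := SetLike.not_le_iff_exists.1 hcen
      obtain ⟨g, hg⟩ := not_forall.1 (mt Subgroup.mem_center_iff.2 hnc')
      exact h6 6 (six_mem_of_moved L hLc h3L C hCc hdis (fun c hc l hl => hfk c (hCk hc) l hl) hidx
        hc fun h => hg (mul_inv_eq_iff_eq_mul.1 h)) dvd_rfl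
  · -- `L` has order `120`
    have hLc : Nat.card L = 120 := by rw [hTL, hM2]
    have hidx : L.index = 3 := by rw [hM2] at hprod; omega
    rw [hidx] at hed
    have h10d : 10 ∣ d := (Nat.Coprime.dvd_of_dvd_mul_left (by norm_num) (h10e.trans hed))
    have hd0 : 0 < d := by
      obtain ⟨θ, rfl⟩ := hd
      exact (Chars.charDegree_spec θ).1
    have hd10 := Nat.le_of_dvd hd0 h10d
    have h5 : 5 ∈ charDegrees L := hsub hdata.succ
    have hsum := sum_sq_degrees_le (G := L) {1, 5, d} (fun x hx => by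
      simp only [Finset.mem_insert, Finset.mem_singleton] at hx
      rcases hx with rfl | rfl | rfl
      · exact one_mem_charDegrees
      · exact h5
      · exact hd)
    rw [Finset.sum_insert (by simp; omega), Finset.sum_insert (by simp; omega),
      Finset.sum_singleton, hLc] at hsum
    nlinarith

end Cfsg.Agent.Lib.SmallSimple1
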