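import Mathlib
import Cfsg.Agent.S0494
import Cfsg.Agent.S0495
import Cfsg.Agent.S0497
import Cfsg.Agent.S0498
import Cfsg.Agent.S1011
import Cfsg.Agent.S1020
import Cfsg.Agent.S1021
import Cfsg.Agent.S0981
import Cfsg.Agent.S0984
import Cfsg.Agent.Lib.SmallSimple1.Models
import Cfsg.Agent.Lib.SmallSimple1.Degrees
import Cfsg.Agent.Lib.SmallSimple1.StructExc
import Cfsg.Agent.Lib.SmallSimple1.Order360

/-!
Groups with the order and the degree graph of a small simple group.
-/

set_option autoImplicit false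

namespace Cfsg.Agent.Lib.SmallSimple1

open Cfsg
open Cfsg.Agent.Lib

universe u v

/-- The orders of the non-abelian simple groups below `6000`. -/
def smallOrders : List ℕ := [60, 168, 360, 504, 660, 1092, 2448, 2520, 3420, 4080, 5616]

/-- The list of orders holds in a universe. -/
def OrdersKnown : Prop :=
  ∀ (T : Type u) [Group T] [Finite T] [IsSimpleGroup T], ¬ IsMulCommutative T →
    Nat.card T < 6000 → Nat.card T ∈ smallOrders

/-- Simple groups of order `5616` are `PSL₃(3)`. -/
def UniqueLThreeThree : Prop :=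
  ∀ (T : Type u) [Group T] [Finite T] [IsSimpleGroup T], Nat.card T = 5616 →
    Nonempty (T ≃* Matrix.ProjectiveSpecialLinearGroup (Fin 3) (ZMod 3))

/-- The vertices needed of the two orders that are not of type `PSL₂`. -/
def SporadicVertices (T : Type u) [Group T] : Prop :=
  (Nat.card T = 2520 → 5 ∈ degreePrimes T ∧ 7 ∈ degreePrimes T) ∧
    (Nat.card T = 5616 → 3 ∈ degreePrimes T ∧ 13 ∈ degreePrimes T)

/-- Simple groups of the same small order are isomorphic. -/
theorem iso_of_card_eq {A : Type u} {B : Type v} [Group A] [Group B] [Finite A] [Finite B]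
    [IsSimpleGroup A] [IsSimpleGroup B] (huA : UniqueLThreeThree.{u}) (huB : UniqueLThreeThree.{v})
    {n : ℕ} (hn : n ∈ smallOrders) (hA : Nat.card A = n) (hB : Nat.card B = n) :
    Nonempty (A ≃* B) := by
  simp only [smallOrders, List.mem_cons, List.not_mem_nil, or_false] at hn
  rcases hn with rfl | rfl | rfl | rfl | rfl | rfl | rfl | rfl | rfl | rfl | rfl
  · obtain ⟨e⟩ := S0494.result hA
    obtain ⟨f⟩ := S0494.result hB
    exact ⟨e.trans f.symm⟩
  · haveI : Fact (Nat.Prime 7) := ⟨by norm_num⟩
    obtain ⟨e⟩ := S0495.result hA (F := ZMod 7) (ZMod.card 7)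
    obtain ⟨f⟩ := S0495.result hB (F := ZMod 7) (ZMod.card 7)
    exact ⟨e.trans f.symm⟩
  · obtain ⟨e⟩ := S0497.result hA
    obtain ⟨f⟩ := S0497.result hB
    exact ⟨e.trans f.symm⟩
  · haveI : Fact (Nat.Prime 2) := ⟨Nat.prime_two⟩
    letI : Fintype (GaloisField 2 3) := Fintype.ofFinite _
    have hF : Fintype.card (GaloisField 2 3) = 8 := galois_card 2 3 (by norm_num)
    obtain ⟨e⟩ := S1011.result hA hF
    obtain ⟨f⟩ := S1011.result hB hF
    exact ⟨e.trans f.symm⟩
  · haveI : Fact (Nat.Prime 11) := ⟨by norm_num⟩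
    obtain ⟨e⟩ := S0498.result (G := A) 11 (Or.inl rfl) (by rw [hA]; norm_num)
      (F := ZMod 11) (ZMod.card 11)
    obtain ⟨f⟩ := S0498.result (G := B) 11 (Or.inl rfl) (by rw [hB]; norm_num)
      (F := ZMod 11) (ZMod.card 11)
    exact ⟨e.trans f.symm⟩
  · haveI : Fact (Nat.Prime 13) := ⟨by norm_num⟩
    obtain ⟨e⟩ := S0498.result (G := A) 13 (Or.inr rfl) (by rw [hA]; norm_num)
      (F := ZMod 13) (ZMod.card 13)
    obtain ⟨f⟩ := S0498.result (G := B) 13 (Or.inr rfl) (by rw [hB]; norm_num)
      (F := ZMod 13) (ZMod.card 13)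
    exact ⟨e.trans f.symm⟩
  · haveI : Fact (Nat.Prime 17) := ⟨by norm_num⟩
    obtain ⟨e⟩ := S1020.result hA (F := ZMod 17) (ZMod.card 17)
    obtain ⟨f⟩ := S1020.result hB (F := ZMod 17) (ZMod.card 17)
    exact ⟨e.trans f.symm⟩
  · obtain ⟨e⟩ := S0984.result hA
    obtain ⟨f⟩ := S0984.result hB
    exact ⟨e.trans f.symm⟩
  · haveI : Fact (Nat.Prime 19) := ⟨by norm_num⟩
    obtain ⟨e⟩ := S1021.result hA (F := ZMod 19) (ZMod.card 19)
    obtain ⟨f⟩ := S1021.result hB (F := ZMod 19) (ZMod.card 19)
    exact ⟨e.trans f.symm⟩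
  · haveI : Fact (Nat.Prime 2) := ⟨Nat.prime_two⟩
    letI : Fintype (GaloisField 2 4) := Fintype.ofFinite _
    have hF : Fintype.card (GaloisField 2 4) = 16 := galois_card 2 4 (by norm_num)
    obtain ⟨e⟩ := S0981.result hA hF
    obtain ⟨f⟩ := S0981.result hB hF
    exact ⟨e.trans f.symm⟩
  · obtain ⟨e⟩ := huA A hA
    obtain ⟨f⟩ := huB B hB
    exact ⟨e.trans f.symm⟩

theorem mem_degreePrimes_of {T : Type u} [Group T] {p d : ℕ} (hp : p.Prime)
    (hd : d ∈ charDegrees T) (hpd : p ∣ d) : p ∈ degreePrimes T := ⟨hp, d, hd, hpd⟩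

/-- The prime powers dividing `n` avoid the residue `1` modulo `r`, except `q ^ a`. -/
def primePowerCheck (l : List ℕ) (n r q a : ℕ) : Bool :=
  l.all fun s => (List.range 14).all fun i =>
    i == 0 || n % s ^ i != 0 || s ^ i % r != 1 || (s == q && i == a)

theorem of_primePowerCheck {l : List ℕ} {n r q a : ℕ} (hl : ∀ s ∈ l, s.Prime)
    (hn : n ∣ l.prod) (h14 : n < 2 ^ 14) (h0 : n ≠ 0) (h : primePowerCheck l n r q a = true) :
    ∀ s i : ℕ, s.Prime → 1 ≤ i → s ^ i ∣ n → s ^ i % r = 1 → s = q ∧ i = a := by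
  intro s i hs hi hsi h1
  obtain ⟨t, ht, hst⟩ := (Prime.dvd_prod_iff hs.prime).1
    (((dvd_pow_self s (by omega : i ≠ 0)).trans hsi).trans hn)
  obtain rfl : s = t := (Nat.prime_dvd_prime_iff_eq hs (hl t ht)).1 hst
  have hlt : i < 14 := by
    by_contra hge
    have h2 : 2 ^ 14 ≤ s ^ i :=
      (Nat.pow_le_pow_left hs.two_le 14).trans (Nat.pow_le_pow_right hs.pos (by omega))
    have := Nat.le_of_dvd (Nat.pos_of_ne_zero h0) hsi
    omega
  simp only [primePowerCheck, List.all_eq_true, List.mem_range, Bool.or_eq_true, Bool.and_eq_true,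
    beq_iff_eq, bne_iff_ne] at h
  rcases h s ht i hlt with ((h' | h') | h') | h'
  · omega
  · exact absurd (Nat.mod_eq_zero_of_dvd hsi) h'
  · exact absurd h1 h'
  · exact h'

variable {G : Type u} [Group G] [Finite G]

/-- A vertex prime is not the order of a normal Sylow subgroup of prime order. -/
theorem false_of_normal_prime {r : ℕ} (hr : r.Prime) (hmem : r ∈ degreePrimes G)
    (hr2 : ¬ r ^ 2 ∣ Nat.card G) (h : ∃ P : Subgroup G, P.Normal ∧ Nat.card P = r) : False := by
  obtain ⟨P, hPn, hPc⟩ := h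
  haveI := hPn
  haveI := Fact.mk hr
  haveI : IsCyclic P := isCyclic_of_prime_card hPc
  refine not_mem_degreePrimes P (fun hd => hr2 ?_) hmem
  rw [← P.card_mul_index, hPc, pow_two]
  exact Nat.mul_dvd_mul_left r hd

/-- A solvable group does not have these vertices: generic case. -/
theorem not_solvable_of_check {n r : ℕ} (hr : r.Prime) (hG : Nat.card G = n)
    (hmem : r ∈ degreePrimes G) (hdvd : r ∣ n) (hr2 : ¬ r ^ 2 ∣ n) {l : List ℕ}
    (hl : ∀ s ∈ l, s.Prime) (hn : n ∣ l.prod) (h14 : n < 2 ^ 14)
    (h : primePowerCheck l n r 0 0 = true) : ¬ Group.IsSolvable G := fun hsol =>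
  false_of_normal_prime hr hmem (hG ▸ hr2) (exists_normal_of_solvable hr n G hG hsol hdvd hr2
    fun s i hs hi hsi h1 =>
      absurd (of_primePowerCheck hl hn h14 (fun h0 => hr2 (h0 ▸ dvd_zero _)) h s i hs hi hsi h1).1
        hs.ne_zero)

/-- A solvable group does not have these vertices: one exceptional prime power. -/
theorem not_solvable_of_check_exc {n r q a : ℕ} (hr : r.Prime) (hq : q.Prime) (hqr : q ≠ r)
    (hG : Nat.card G = n) (hmem : r ∈ degreePrimes G) (hmemq : q ∈ degreePrimes G) (hdvd : r ∣ n)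
    (hr2 : ¬ r ^ 2 ∣ n) (hqa : ¬ q ^ (a + 1) ∣ n) {l : List ℕ} (hl : ∀ s ∈ l, s.Prime)
    (hn : n ∣ l.prod) (h14 : n < 2 ^ 14) (h : primePowerCheck l n r q a = true) :
    ¬ Group.IsSolvable G := fun hsol => by
  rcases exists_normal_or_sylow hr hq hqr n G hG hsol hdvd hr2 hqa
    (of_primePowerCheck hl hn h14 (fun h0 => hr2 (h0 ▸ dvd_zero _)) h) with h' | ⟨A, hAn, hAc, hA⟩
  · exact false_of_normal_prime hr hmem (hG ▸ hr2) h'
  · haveI := hAn
    haveI := hA
    refine not_mem_degreePrimes A (fun hd => hqa ?_) hmemq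
    rw [← hG, ← A.card_mul_index, hAc, pow_succ]
    exact Nat.mul_dvd_mul_left _ hd

variable (L : Subgroup G) [L.Normal] (M : Subgroup L) [M.Normal]

/-- The contradiction from a section with a prime avoiding its automorphisms. -/
theorem false_of_section_aut [IsSimpleGroup (L ⧸ M)] (hT : ¬ IsMulCommutative (L ⧸ M))
    (hs : Group.IsSolvable M) {r c : ℕ} (hr : r.Prime) (hc : L.index * Nat.card M = c)
    (hmem : r ∈ degreePrimes G) (hr2 : ¬ r ^ 2 ∣ Nat.card G)
    (haut : ¬ r ∣ Nat.card (MulAut (L ⧸ M))) (hrT : ¬ r ∣ Nat.card (L ⧸ M)) (hrc : r ∣ c)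
    (hd : ∀ d ∈ List.range (c + 1), d ∣ c → d % r = 1 → d = 1) : False := by
  haveI := normal_map_of_solvable L M hT hs
  have hsub : (M.map L.subtype).subgroupOf L = M := by
    rw [Subgroup.subgroupOf, Subgroup.comap_map_eq_self_of_injective L.subtype_injective]
  have e := QuotientGroup.quotientMulEquivOfEq hsub
  have hMc : Nat.card (M.map L.subtype) = Nat.card M :=
    Subgroup.card_map_of_injective L.subtype_injective
  refine false_of_normal_prime hr hmem hr2 (exists_normal_of_section hr hr2 L (M.map L.subtype)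
    (Subgroup.map_subtype_le M) ?_ ?_ ?_ ?_)
  · rwa [card_mulAut_congr e]
  · rwa [Nat.card_congr e.toEquiv]
  · rwa [hMc, hc]
  · rw [hMc, hc]
    intro d hd' h1
    exact hd d (List.mem_range.2 (Nat.lt_succ_of_le (Nat.le_of_dvd
      (hc ▸ Nat.mul_pos (Nat.pos_of_ne_zero Subgroup.index_ne_zero_of_finite) Nat.card_pos) hd'))) hd' h1

omit [L.Normal] [M.Normal] in
/-- The kernel of the section is solvable. -/
theorem solvable_of_not_dvd (ho : OrdersKnown.{u}) {c : ℕ} (hc : Nat.card M ∣ c)
    (h6000 : c < 6000) (hc0 : c ≠ 0) (h : ∀ m ∈ smallOrders, ¬ m ∣ c) : Group.IsSolvable M := by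
  by_contra hns
  obtain ⟨L', hL'n, -, M', hM'n, hsimp, hnc⟩ := exists_section (G := M) hns
  haveI := hL'n
  haveI := hM'n
  haveI := hsimp
  have hdvd : Nat.card (L' ⧸ M') ∣ c :=
    ((dvd_trans (Dvd.intro _ (Subgroup.card_eq_card_quotient_mul_card_subgroup M').symm)
      (Subgroup.card_subgroup_dvd_card L')).trans hc)
  exact h _ (ho _ hnc (lt_of_le_of_lt (Nat.le_of_dvd (Nat.pos_of_ne_zero hc0) hdvd) h6000)) hdvd

/-- A group of order `504` with a section of order `168` has a degree divisible by `6`. -/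
theorem six_of_168 [IsSimpleGroup (L ⧸ M)] (hT : Nat.card (L ⧸ M) = 168)
    (hnc : ¬ IsMulCommutative (L ⧸ M)) (hs : Group.IsSolvable M) :
    ∃ e ∈ charDegrees G, 6 ∣ e := by
  haveI := normal_map_of_solvable L M hnc hs
  have hsub : (M.map L.subtype).subgroupOf L = M := by
    rw [Subgroup.subgroupOf, Subgroup.comap_map_eq_self_of_injective L.subtype_injective]
  have h6 : 6 ∈ charDegrees (L ⧸ M) := (data_168 hT).pred
  rw [← RankSeries.charDegrees_congr (QuotientGroup.quotientMulEquivOfEq hsub)] at h6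
  exact exists_degree_above_section L (M.map L.subtype) h6

omit L M in
/-- The main theorem, given the classification of orders below `6000`. -/
theorem iso_of_order_and_degree_graph {S : Type v} [Group S] [Finite S] [IsSimpleGroup S]
    (hoS : OrdersKnown.{v}) (hoG : OrdersKnown.{u}) (huS : UniqueLThreeThree.{v})
    (huG : UniqueLThreeThree.{u}) (hvS : SporadicVertices S)
    (hS : ¬ IsMulCommutative S) (hlt : Nat.card S < 6000) (hcard : Nat.card G = Nat.card S)
    (hP : degreePrimes G = degreePrimes S) (hΓ : degreeGraph G = degreeGraph S) :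
    Nonempty (G ≃* S) := by
  classical
  set n := Nat.card S with hn
  have hmem := hoS S hS hlt
  rw [← hn] at hmem
  have hv : ∀ p, p ∈ degreePrimes S → p ∈ degreePrimes G := fun p hp => hP.symm ▸ hp
  have hns : ¬ Group.IsSolvable G := by
    have hmem' := hmem
    simp only [smallOrders, List.mem_cons, List.not_mem_nil, or_false] at hmem'
    rcases hmem' with h | h | h | h | h | h | h | h | h | h | h
    · have hr := hv 5 (mem_degreePrimes_of (by norm_num) (data_60 (hn ▸ h)).succ dvd_rfl)
      exact not_solvable_of_check (n := 60) (r := 5) (l := [2, 2, 3, 5]) (by norm_num)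
        (hcard.trans h) hr (by norm_num) (by norm_num) (by decide) (by norm_num) (by norm_num)
        (by decide +kernel)
    · have d := data_168 (T := S) (hn ▸ h)
      have hr := hv 7 (mem_degreePrimes_of (by norm_num) d.self dvd_rfl)
      have hq := hv 2 (mem_degreePrimes_of Nat.prime_two d.succ (by norm_num))
      exact not_solvable_of_check_exc (n := 168) (r := 7) (q := 2) (a := 3) (l := [2, 2, 2, 3, 7])
        (by norm_num) Nat.prime_two (by norm_num) (hcard.trans h) hr hq (by norm_num) (by norm_num)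
        (by norm_num) (by decide) (by norm_num) (by norm_num) (by decide +kernel)
    · have hr := hv 5 (mem_degreePrimes_of (by norm_num) (data_360 (hn ▸ h)).succ (by norm_num))
      exact not_solvable_of_check (n := 360) (r := 5) (l := [2, 2, 2, 3, 3, 5]) (by norm_num)
        (hcard.trans h) hr (by norm_num) (by norm_num) (by decide) (by norm_num) (by norm_num)
        (by decide +kernel)
    · have d := data_504 (T := S) (hn ▸ h)
      have hr := hv 7 (mem_degreePrimes_of (by norm_num) d.pred (by norm_num))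
      have hq := hv 2 (mem_degreePrimes_of Nat.prime_two d.self (by norm_num))
      exact not_solvable_of_check_exc (n := 504) (r := 7) (q := 2) (a := 3)
        (l := [2, 2, 2, 3, 3, 7]) (by norm_num) Nat.prime_two (by norm_num) (hcard.trans h) hr hq
        (by norm_num) (by norm_num) (by norm_num) (by decide) (by norm_num) (by norm_num)
        (by decide +kernel)
    · have hr := hv 11 (mem_degreePrimes_of (by norm_num) (data_660 (hn ▸ h)).self dvd_rfl)
      exact not_solvable_of_check (n := 660) (r := 11) (l := [2, 2, 3, 5, 11]) (by norm_num)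
        (hcard.trans h) hr (by norm_num) (by norm_num) (by decide) (by norm_num) (by norm_num)
        (by decide +kernel)
    · have hr := hv 13 (mem_degreePrimes_of (by norm_num) (data_1092 (hn ▸ h)).self dvd_rfl)
      exact not_solvable_of_check (n := 1092) (r := 13) (l := [2, 2, 3, 7, 13]) (by norm_num)
        (hcard.trans h) hr (by norm_num) (by norm_num) (by decide) (by norm_num) (by norm_num)
        (by decide +kernel)
    · have hr := hv 17 (mem_degreePrimes_of (by norm_num) (data_2448 (hn ▸ h)).self dvd_rfl)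
      exact not_solvable_of_check (n := 2448) (r := 17) (l := [2, 2, 2, 2, 3, 3, 17]) (by norm_num)
        (hcard.trans h) hr (by norm_num) (by norm_num) (by decide) (by norm_num) (by norm_num)
        (by decide +kernel)
    · have hr := hv 5 (hvS.1 (hn ▸ h)).1
      exact not_solvable_of_check (n := 2520) (r := 5) (l := [2, 2, 2, 3, 3, 5, 7]) (by norm_num)
        (hcard.trans h) hr (by norm_num) (by norm_num) (by decide) (by norm_num) (by norm_num)
        (by decide +kernel)
    · have hr := hv 19 (mem_degreePrimes_of (by norm_num) (data_3420 (hn ▸ h)).self dvd_rfl)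
      exact not_solvable_of_check (n := 3420) (r := 19) (l := [2, 2, 3, 3, 5, 19]) (by norm_num)
        (hcard.trans h) hr (by norm_num) (by norm_num) (by decide) (by norm_num) (by norm_num)
        (by decide +kernel)
    · have hr := hv 17 (mem_degreePrimes_of (by norm_num) (data_4080 (hn ▸ h)).succ dvd_rfl)
      exact not_solvable_of_check (n := 4080) (r := 17) (l := [2, 2, 2, 2, 3, 5, 17]) (by norm_num)
        (hcard.trans h) hr (by norm_num) (by norm_num) (by decide) (by norm_num) (by norm_num)
        (by decide +kernel)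
    · have hr := hv 13 (hvS.2 (hn ▸ h)).2
      have hq := hv 3 (hvS.2 (hn ▸ h)).1
      exact not_solvable_of_check_exc (n := 5616) (r := 13) (q := 3) (a := 3)
        (l := [2, 2, 2, 2, 3, 3, 3, 13]) (by norm_num) Nat.prime_three (by norm_num)
        (hcard.trans h) hr hq (by norm_num) (by norm_num) (by norm_num) (by decide) (by norm_num)
        (by norm_num) (by decide +kernel)
  obtain ⟨L, hLn, hperf, M, hMn, hsimp, hnc⟩ := exists_section hns
  haveI := hLn
  haveI := hMn
  haveI := hsimp
  have hGc : n = L.index * Nat.card M * Nat.card (L ⧸ M) := by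
    rw [← hcard, ← L.card_mul_index, Subgroup.card_eq_card_quotient_mul_card_subgroup M]
    ring
  have hpos : 0 < n := Nat.card_pos
  have hmn : Nat.card (L ⧸ M) ∣ n := ⟨L.index * Nat.card M, by rw [hGc]; ring⟩
  have hm := hoG (L ⧸ M) hnc (lt_of_le_of_lt (Nat.le_of_dvd hpos hmn) hlt)
  by_cases heq : Nat.card (L ⧸ M) = n
  · have h1 : L.index * Nat.card M = 1 := by
      have := hGc
      rw [heq] at this
      exact Nat.eq_of_mul_eq_mul_right hpos (by rw [← this, one_mul])
    obtain ⟨e⟩ := iso_of_card_eq (A := L ⧸ M) (B := S) huG huS hmem heq rfl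
    have hLtop : L = ⊤ := Subgroup.index_eq_one.1 (Nat.eq_one_of_mul_eq_one_right h1)
    have hMbot : M = ⊥ := Subgroup.eq_bot_of_card_eq M (Nat.eq_one_of_mul_eq_one_left h1)
    exact ⟨(((Subgroup.topEquiv.symm.trans (MulEquiv.subgroupCongr hLtop.symm)).trans
      QuotientGroup.quotientBot.symm).trans
      (QuotientGroup.quotientMulEquivOfEq hMbot.symm)).trans e⟩
  exfalso
  have hMd : Nat.card M ∣ L.index * Nat.card M := dvd_mul_left _ _
  have hadj : ∀ p q : ℕ, (degreeGraph S).Adj p q ↔ (degreeGraph G).Adj p q := fun p q => by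
    rw [hΓ]
  have hr2 : ∀ {r N : ℕ}, n = N → ¬ r ^ 2 ∣ N → ¬ r ^ 2 ∣ Nat.card G := fun h h' => by
    rw [hcard, h]; exact h'
  have hsol : ∀ {c : ℕ}, L.index * Nat.card M = c → c < 6000 → c ≠ 0 →
      (∀ m ∈ smallOrders, ¬ m ∣ c) → Group.IsSolvable M := fun hc h1 h2 h3 =>
    solvable_of_not_dvd L M hoG (hc ▸ hMd) h1 h2 h3
  simp only [smallOrders, List.mem_cons, List.not_mem_nil, or_false] at hm hmem
  rcases hm with hm | hm | hm | hm | hm | hm | hm | hm | hm | hm | hm <;>
    rcases hmem with h | h | h | h | h | h | h | h | h | h | h <;>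
    first
      | (exfalso; rw [hm, h] at heq; exact heq rfl)
      | (exfalso; rw [hm, h] at hmn; norm_num at hmn; done)
      | skip
  all_goals rw [hm, h] at hGc
  · -- `(360, 60)`
    have d := data_360 (T := S) (hn ▸ h)
    have hA : (degreeGraph G).Adj 2 5 := (hadj 2 5).1
      ⟨by norm_num, Nat.prime_two, by norm_num, _, d.succ, by norm_num⟩
    obtain ⟨-, -, -, e, he, h10⟩ := hA
    refine false_360 L (hcard.trans h) hperf M hm ⟨e, he, h10⟩ fun e' he' h6 => ?_
    obtain ⟨-, -, -, d', hd', h6'⟩ := (hadj 2 3).2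
      ⟨by norm_num, Nat.prime_two, Nat.prime_three, e', he', h6⟩
    have := d.degrees d' hd'
    unfold RankSeries.DegreesSL at this
    omega
  · -- `(660, 60)`
    have hc : L.index * Nat.card M = 11 := by omega
    refine false_of_section_aut L M hnc (hsol hc (by norm_num) (by norm_num) (by decide))
      (r := 11) (by norm_num) hc
      (hv 11 (mem_degreePrimes_of (by norm_num) (data_660 (hn ▸ h)).self dvd_rfl))
      (hr2 h (by norm_num)) ?_ ?_ dvd_rfl (by decide +kernel)
    · rw [(data_60 hm).aut]; norm_num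
    · rw [hm]; norm_num
  · -- `(2520, 60)`
    have hc : L.index * Nat.card M = 42 := by omega
    refine false_of_section_aut L M hnc (hsol hc (by norm_num) (by norm_num) (by decide))
      (r := 7) (by norm_num) hc (hv 7 (hvS.1 (hn ▸ h)).2) (hr2 h (by norm_num)) ?_ ?_
      (by norm_num) (by decide +kernel)
    · rw [(data_60 hm).aut]; norm_num
    · rw [hm]; norm_num
  · -- `(3420, 60)`
    have hc : L.index * Nat.card M = 57 := by omega
    refine false_of_section_aut L M hnc (hsol hc (by norm_num) (by norm_num) (by decide))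
      (r := 19) (by norm_num) hc
      (hv 19 (mem_degreePrimes_of (by norm_num) (data_3420 (hn ▸ h)).self dvd_rfl))
      (hr2 h (by norm_num)) ?_ ?_ (by norm_num) (by decide +kernel)
    · rw [(data_60 hm).aut]; norm_num
    · rw [hm]; norm_num
  · -- `(4080, 60)`
    have hc : L.index * Nat.card M = 68 := by omega
    refine false_of_section_aut L M hnc (hsol hc (by norm_num) (by norm_num) (by decide))
      (r := 17) (by norm_num) hc
      (hv 17 (mem_degreePrimes_of (by norm_num) (data_4080 (hn ▸ h)).succ dvd_rfl))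
      (hr2 h (by norm_num)) ?_ ?_ (by norm_num) (by decide +kernel)
    · rw [(data_60 hm).aut]; norm_num
    · rw [hm]; norm_num
  · -- `(504, 168)`
    have hc : L.index * Nat.card M = 3 := by omega
    obtain ⟨e, he, h6⟩ := six_of_168 L M hm hnc (hsol hc (by norm_num) (by norm_num) (by decide))
    obtain ⟨-, -, -, d', hd', h6'⟩ := (hadj 2 3).2
      ⟨by norm_num, Nat.prime_two, Nat.prime_three, e, he, h6⟩
    have := (data_504 (T := S) (hn ▸ h)).degrees d' hd'
    unfold RankSeries.DegreesSL at this
    omega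
  · -- `(2520, 168)`
    have hc : L.index * Nat.card M = 15 := by omega
    refine false_of_section_aut L M hnc (hsol hc (by norm_num) (by norm_num) (by decide))
      (r := 5) (by norm_num) hc (hv 5 (hvS.1 (hn ▸ h)).1) (hr2 h (by norm_num)) ?_ ?_
      (by norm_num) (by decide +kernel)
    · rw [(data_168 hm).aut]; norm_num
    · rw [hm]; norm_num
  · -- `(2520, 360)`
    have hc : L.index * Nat.card M = 7 := by omega
    refine false_of_section_aut L M hnc (hsol hc (by norm_num) (by norm_num) (by decide))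
      (r := 7) (by norm_num) hc (hv 7 (hvS.1 (hn ▸ h)).2) (hr2 h (by norm_num)) ?_ ?_
      dvd_rfl (by decide +kernel)
    · rw [(data_360 hm).aut]; norm_num
    · rw [hm]; norm_num
  · -- `(2520, 504)`
    have hc : L.index * Nat.card M = 5 := by omega
    refine false_of_section_aut L M hnc (hsol hc (by norm_num) (by norm_num) (by decide))
      (r := 5) (by norm_num) hc (hv 5 (hvS.1 (hn ▸ h)).1) (hr2 h (by norm_num)) ?_ ?_
      dvd_rfl (by decide +kernel)
    · rw [(data_504 hm).aut]; norm_num
    · rw [hm]; norm_num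

end Cfsg.Agent.Lib.SmallSimple1
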