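/-
No non-abelian simple group has one of the orders 2268, 2400, 2464, 2475, 2688, 2700, 2800, 2940,
2976, 3080, 3120, 3168, 3360, 3432, 3444, 3528, 3600.
-/
import Mathlib
import Cfsg.Agent.Lib.SmallGroups.Below6232.Single
import Cfsg.Agent.Lib.SmallGroups.Below6232.Orders
import Cfsg.Agent.S0996

set_option autoImplicit false
set_option linter.style.haveILetI false

namespace Cfsg.Agent.Lib.SmallSimple1

open Subgroup MulAction
open Cfsg.Agent.Lib.SmallGroups
open Cfsg.Agent.Lib.SmallGroups.Below6232

universe u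

variable {G : Type u} [Group G] [Finite G] [IsSimpleGroup G]

theorem false_2268 (hG : ¬ IsMulCommutative G) (h : Nat.card G = 2268) : False :=
  false_of_simple_order hG 7 3 4 4 (by norm_num) (by norm_num) (by norm_num) (by rw [h]; norm_num)
    (by norm_num) (by rw [h]; norm_num) (by rw [h]; norm_num)

theorem false_2464 (hG : ¬ IsMulCommutative G) (h : Nat.card G = 2464) : False :=
  false_of_simple_order hG 11 2 5 7 (by norm_num) (by norm_num) (by norm_num) (by rw [h]; norm_num)
    (by norm_num) (by rw [h]; norm_num) (by rw [h]; norm_num)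

theorem false_2475 (hG : ¬ IsMulCommutative G) (h : Nat.card G = 2475) : False :=
  false_of_simple_order hG 11 5 2 9 (by norm_num) (by norm_num) (by norm_num) (by rw [h]; norm_num)
    (by norm_num) (by rw [h]; norm_num) (by rw [h]; norm_num)

theorem false_2688 (hG : ¬ IsMulCommutative G) (h : Nat.card G = 2688) : False :=
  false_of_simple_order hG 7 2 7 3 (by norm_num) (by norm_num) (by norm_num) (by rw [h]; norm_num)
    (by norm_num) (by rw [h]; norm_num) (by rw [h]; norm_num)

theorem false_3168 (hG : ¬ IsMulCommutative G) (h : Nat.card G = 3168) : False :=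
  false_of_simple_order hG 11 2 5 9 (by norm_num) (by norm_num) (by norm_num) (by rw [h]; norm_num)
    (by norm_num) (by rw [h]; norm_num) (by rw [h]; norm_num)

theorem false_2976 (hG : ¬ IsMulCommutative G) (h : Nat.card G = 2976) : False :=
  false_of_cube hG (p := 31) (by norm_num) (by rw [h]; norm_num) (by rw [h]; norm_num)
    (by rw [h]; norm_num) (by rw [h]; norm_num)

theorem false_3444 (hG : ¬ IsMulCommutative G) (h : Nat.card G = 3444) : False :=
  false_of_cube hG (p := 41) (by norm_num) (by rw [h]; norm_num) (by rw [h]; norm_num)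
    (by rw [h]; norm_num) (by rw [h]; norm_num)

theorem false_2940 (hG : ¬ IsMulCommutative G) (h : Nat.card G = 2940) : False := by
  haveI : Fact (Nat.Prime 5) := ⟨by norm_num⟩
  obtain ⟨P⟩ := (inferInstance : Nonempty (Sylow 5 G))
  obtain ⟨-, t, ht, -⟩ := exists_choice hG h (m := 588) (by norm_num) (by norm_num) P
  rw [show choices 2940 5 = [] from by decide +kernel] at ht
  exact List.not_mem_nil ht

theorem false_3080 (hG : ¬ IsMulCommutative G) (h : Nat.card G = 3080) : False := by
  haveI : Fact (Nat.Prime 7) := ⟨by norm_num⟩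
  obtain ⟨P⟩ := (inferInstance : Nonempty (Sylow 7 G))
  obtain ⟨-, t, ht, -⟩ := exists_choice hG h (m := 440) (by norm_num) (by norm_num) P
  rw [show choices 3080 7 = [] from by decide +kernel] at ht
  exact List.not_mem_nil ht

theorem false_2400 (hG : ¬ IsMulCommutative G) (h : Nat.card G = 2400) : False := by
  haveI : Fact (Nat.Prime 5) := ⟨by norm_num⟩
  have hc : Nat.card G = 5 ^ 2 * 96 := by rw [h]; norm_num
  have hP : ∀ Q : Sylow 5 G, Nat.card (Q : Subgroup G) = 5 ^ 2 := fun Q =>
    card_sylow_eq Q hc (by norm_num)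
  have hn := card_sylow_mem hG (p := 5) hc (by norm_num) two_ne_zero
  rw [show (Nat.divisors 96).filter (fun d => d % 5 = 1 ∧ d ≠ 1) = {6, 16, 96} from by
    decide +kernel] at hn
  simp only [Finset.mem_insert, Finset.mem_singleton] at hn
  have hfac := two_mul_card_dvd_factorial_card_sylow hG (p := 5) (by rw [h]; norm_num)
  have hn' : Nat.card (Sylow 5 G) = 16 ∨ Nat.card (Sylow 5 G) = 96 := by
    rcases hn with hn | hn | hn
    · rw [hn, h] at hfac; norm_num [Nat.factorial] at hfac
    · exact Or.inl hn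
    · exact Or.inr hn
  obtain ⟨P, R, D, hne, hD, -, hD1⟩ := exists_meet hP (by rcases hn' with e | e <;> rw [e] <;> decide)
  obtain ⟨t, ht, hH, -, -⟩ := exists_localOrder hG h (m := 96) (by norm_num) (by norm_num) P R hne
    (D := D) (hD ▸ inf_le_left) (hD ▸ inf_le_right) hD1
  have hmul := card_normalizer_sylow_mul P
  rw [h] at hmul
  have ht' : t = (150, 6, 25) := by
    rcases hn' with e | e <;> rw [e] at hmul
    · rw [show Nat.card (normalizer ((P : Subgroup G) : Set G)) = 150 by omega,
        show localOrders 2400 5 150 = [(150, 6, 25)] from by decide +kernel] at ht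
      simpa using ht
    · rw [show Nat.card (normalizer ((P : Subgroup G) : Set G)) = 25 by omega,
        show localOrders 2400 5 25 = [(150, 6, 25)] from by decide +kernel] at ht
      simpa using ht
  subst ht'
  exact false_of_half hne (le_normalizer_of_sq (hP P) (hD ▸ inf_le_left))
    (le_normalizer_of_sq (hP R) (hD ▸ inf_le_right)) hP (m := 3) (by rw [hH]; norm_num) (by decide)
    (by norm_num) (by decide +kernel)

theorem false_2700 (hG : ¬ IsMulCommutative G) (h : Nat.card G = 2700) : False := by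
  haveI : Fact (Nat.Prime 5) := ⟨by norm_num⟩
  have hc : Nat.card G = 5 ^ 2 * 108 := by rw [h]; norm_num
  have hP : ∀ Q : Sylow 5 G, Nat.card (Q : Subgroup G) = 5 ^ 2 := fun Q =>
    card_sylow_eq Q hc (by norm_num)
  have hn := card_sylow_mem hG (p := 5) hc (by norm_num) two_ne_zero
  rw [show (Nat.divisors 108).filter (fun d => d % 5 = 1 ∧ d ≠ 1) = {6, 36} from by
    decide +kernel] at hn
  simp only [Finset.mem_insert, Finset.mem_singleton] at hn
  have hfac := two_mul_card_dvd_factorial_card_sylow hG (p := 5) (by rw [h]; norm_num)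
  have hn' : Nat.card (Sylow 5 G) = 36 := by
    rcases hn with hn | hn
    · rw [hn, h] at hfac; norm_num [Nat.factorial] at hfac
    · exact hn
  obtain ⟨P, R, D, hne, hD, -, hD1⟩ := exists_meet hP (by rw [hn']; decide)
  obtain ⟨t, ht, hH, -, -⟩ := exists_localOrder hG h (m := 108) (by norm_num) (by norm_num) P R hne
    (D := D) (hD ▸ inf_le_left) (hD ▸ inf_le_right) hD1
  have hmul := card_normalizer_sylow_mul P
  rw [h, hn'] at hmul
  rw [show Nat.card (normalizer ((P : Subgroup G) : Set G)) = 75 by omega,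
    show localOrders 2700 5 75 = [(150, 6, 25)] from by decide +kernel] at ht
  simp only [List.mem_cons, List.not_mem_nil, or_false] at ht
  subst ht
  exact false_of_half hne (le_normalizer_of_sq (hP P) (hD ▸ inf_le_left))
    (le_normalizer_of_sq (hP R) (hD ▸ inf_le_right)) hP (m := 3) (by rw [hH]; norm_num) (by decide)
    (by norm_num) (by decide +kernel)

theorem false_2800 (hG : ¬ IsMulCommutative G) (h : Nat.card G = 2800) : False := by
  haveI : Fact (Nat.Prime 5) := ⟨by norm_num⟩
  have hc : Nat.card G = 5 ^ 2 * 112 := by rw [h]; norm_num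
  have hP : ∀ Q : Sylow 5 G, Nat.card (Q : Subgroup G) = 5 ^ 2 := fun Q =>
    card_sylow_eq Q hc (by norm_num)
  have hn := card_sylow_mem hG (p := 5) hc (by norm_num) two_ne_zero
  rw [show (Nat.divisors 112).filter (fun d => d % 5 = 1 ∧ d ≠ 1) = {16, 56} from by
    decide +kernel] at hn
  simp only [Finset.mem_insert, Finset.mem_singleton] at hn
  obtain ⟨P, R, D, hne, hD, -, hD1⟩ := exists_meet hP (by rcases hn with e | e <;> rw [e] <;> decide)
  obtain ⟨t, ht, -⟩ := exists_localOrder hG h (m := 112) (by norm_num) (by norm_num) P R hne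
    (D := D) (hD ▸ inf_le_left) (hD ▸ inf_le_right) hD1
  have hmul := card_normalizer_sylow_mul P
  rw [h] at hmul
  rcases hn with e | e <;> rw [e] at hmul
  · rw [show Nat.card (normalizer ((P : Subgroup G) : Set G)) = 175 by omega,
      show localOrders 2800 5 175 = [] from by decide +kernel] at ht
    exact List.not_mem_nil ht
  · rw [show Nat.card (normalizer ((P : Subgroup G) : Set G)) = 50 by omega,
      show localOrders 2800 5 50 = [] from by decide +kernel] at ht
    exact List.not_mem_nil ht

theorem false_3528 (hG : ¬ IsMulCommutative G) (h : Nat.card G = 3528) : False := by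
  haveI : Fact (Nat.Prime 7) := ⟨by norm_num⟩
  have hc : Nat.card G = 7 ^ 2 * 72 := by rw [h]; norm_num
  have hP : ∀ Q : Sylow 7 G, Nat.card (Q : Subgroup G) = 7 ^ 2 := fun Q =>
    card_sylow_eq Q hc (by norm_num)
  have hn := card_sylow_mem hG (p := 7) hc (by norm_num) two_ne_zero
  rw [show (Nat.divisors 72).filter (fun d => d % 7 = 1 ∧ d ≠ 1) = {8, 36} from by
    decide +kernel] at hn
  simp only [Finset.mem_insert, Finset.mem_singleton] at hn
  have hfac := two_mul_card_dvd_factorial_card_sylow hG (p := 7) (by rw [h]; norm_num)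
  have hn' : Nat.card (Sylow 7 G) = 36 := by
    rcases hn with hn | hn
    · rw [hn, h] at hfac; norm_num [Nat.factorial] at hfac
    · exact hn
  obtain ⟨P, R, D, hne, hD, -, hD1⟩ := exists_meet hP (by rw [hn']; decide)
  obtain ⟨t, ht, -⟩ := exists_localOrder hG h (m := 72) (by norm_num) (by norm_num) P R hne
    (D := D) (hD ▸ inf_le_left) (hD ▸ inf_le_right) hD1
  have hmul := card_normalizer_sylow_mul P
  rw [h, hn'] at hmul
  rw [show Nat.card (normalizer ((P : Subgroup G) : Set G)) = 98 by omega,
    show localOrders 3528 7 98 = [] from by decide +kernel] at ht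
  exact List.not_mem_nil ht

theorem false_3600 (hG : ¬ IsMulCommutative G) (h : Nat.card G = 3600) : False := by
  haveI : Fact (Nat.Prime 5) := ⟨by norm_num⟩
  have hc : Nat.card G = 5 ^ 2 * 144 := by rw [h]; norm_num
  have hP : ∀ Q : Sylow 5 G, Nat.card (Q : Subgroup G) = 5 ^ 2 := fun Q =>
    card_sylow_eq Q hc (by norm_num)
  have hn := card_sylow_mem hG (p := 5) hc (by norm_num) two_ne_zero
  rw [show (Nat.divisors 144).filter (fun d => d % 5 = 1 ∧ d ≠ 1) = {6, 16, 36} from by
    decide +kernel] at hn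
  simp only [Finset.mem_insert, Finset.mem_singleton] at hn
  have hfac := two_mul_card_dvd_factorial_card_sylow hG (p := 5) (by rw [h]; norm_num)
  have hn' : Nat.card (Sylow 5 G) = 16 ∨ Nat.card (Sylow 5 G) = 36 := by
    rcases hn with hn | hn | hn
    · rw [hn, h] at hfac; norm_num [Nat.factorial] at hfac
    · exact Or.inl hn
    · exact Or.inr hn
  obtain ⟨P, R, D, hne, hD, hDc, hD1⟩ := exists_meet hP
    (by rcases hn' with e | e <;> rw [e] <;> decide)
  have hDP : D ≤ (P : Subgroup G) := hD ▸ inf_le_left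
  obtain ⟨t, ht, hH, -, hj⟩ := exists_localOrder hG h (m := 144) (by norm_num) (by norm_num) P R hne
    hDP (hD ▸ inf_le_right) hD1
  have hmul := card_normalizer_sylow_mul P
  rw [h] at hmul
  have h150 : t.1 ≠ 150 := fun e => false_of_half hne (le_normalizer_of_sq (hP P) hDP)
    (le_normalizer_of_sq (hP R) (hD ▸ inf_le_right)) hP (m := 3) (by rw [hH, e]; norm_num)
    (by decide) (by norm_num) (by decide +kernel)
  rcases hn' with e | e <;> rw [e] at hmul
  · rw [show Nat.card (normalizer ((P : Subgroup G) : Set G)) = 225 by omega,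
      show localOrders 3600 5 225 = [(150, 6, 25)] from by decide +kernel] at ht
    simp only [List.mem_cons, List.not_mem_nil, or_false] at ht
    subst ht
    exact h150 rfl
  · set N := normalizer ((P : Subgroup G) : Set G) with hNdef
    have hN : Nat.card N = 100 := by omega
    rw [hN, show localOrders 3600 5 100 = [(150, 6, 25), (300, 6, 50)] from by
      decide +kernel] at ht
    simp only [List.mem_cons, List.not_mem_nil, or_false] at ht
    rcases ht with rfl | rfl
    · exact h150 rfl
    set H := normalizer (D : Set G) with hHdef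
    set K := H ⊓ centralizer (D : Set G) with hK
    have hR' : D ≤ (R : Subgroup G) := hD ▸ inf_le_right
    have habel : ∀ Q : Sylow 5 G, D ≤ (Q : Subgroup G) → (Q : Subgroup G) ≤ K := fun Q hQ =>
      le_inf (le_normalizer_of_sq (hP Q) hQ) fun x hx => mem_centralizer_iff.mpr fun y hy =>
        commute_of_sq (hP Q) (hQ hy) hx
    have hKdvd : K.relIndex H ∣ 4 := by
      rw [hK, inf_relIndex_left]
      exact relIndex_centralizer_dvd hDc
    have hKmul : Nat.card K * K.relIndex H = 300 := by
      have h1 := (K.subgroupOf H).card_mul_index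
      rwa [Nat.card_congr (subgroupOfEquivOfLe (inf_le_left : K ≤ H)).toEquiv, hH] at h1
    by_cases hone : K.relIndex H = 1
    · -- `D` is central in its normalizer and normal in no larger group
      have hle : H ≤ K := relIndex_eq_one.mp hone
      obtain ⟨d, hd, hd1⟩ := (Subgroup.ne_bot_iff_exists_ne_one).mp hD1 |>.elim
        fun d hd => (⟨(d : G), d.2, fun e => hd (Subtype.ext e)⟩ : ∃ d : G, d ∈ D ∧ d ≠ 1)
      have hdgen : zpowers d = D := zpowers_eq_of_prime (p := 5) hDc hd hd1
      set J := H.subgroupOf N with hJdef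
      have hJc : Nat.card J = 50 := by
        rw [hJdef, ← inf_subgroupOf_left,
          Nat.card_congr (subgroupOfEquivOfLe (inf_le_left : N ⊓ H ≤ N)).toEquiv, hj]
      have hJ : J.index = 2 := by
        have h1 := J.card_mul_index
        rw [hJc, hN] at h1
        omega
      have hJd : ∀ k : N, k ∈ J → (k : G) * d = d * k := fun k hk =>
        (mem_centralizer_iff.mp (hle (mem_subgroupOf.mp hk)).2 d hd).symm
      obtain ⟨g, hg⟩ : ∃ g : N, g ∉ J := by
        by_contra hall
        push Not at hall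
        rw [eq_top_iff' J |>.mpr hall, index_top] at hJ
        norm_num at hJ
      haveI : J.Normal := Subgroup.normal_of_index_eq_two hJ
      haveI : IsMulCommutative (P : Subgroup G) :=
        ⟨⟨(IsPGroup.isMulCommutative_of_card_eq_prime_sq (p := 5) (hP P)).is_comm.comm⟩⟩
      set d' := (g : G) * d * (g : G)⁻¹ with hd'
      have hd'P : d' ∈ (P : Subgroup G) := (mem_normalizer_iff.mp g.2 d).mp (hDP hd)
      have hk' : ∀ k : N, k ∈ J → (k : G) * d' = d' * k := fun k hk => by
        have h1 := hJd (g⁻¹ * k * g) (by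
          simpa using ‹J.Normal›.conj_mem k hk g⁻¹)
        simp only [Subgroup.coe_mul, Subgroup.coe_inv] at h1
        calc (k : G) * d' = (g : G) * ((g : G)⁻¹ * k * g * d) * (g : G)⁻¹ := by rw [hd']; group
          _ = (g : G) * (d * ((g : G)⁻¹ * k * g)) * (g : G)⁻¹ := by rw [h1]
          _ = d' * k := by rw [hd']; group
      have hgg : g * g ∈ J := Subgroup.mul_self_mem_of_index_two hJ g
      have hgd : (g : G) * d' = d * g := by
        have h1 := hJd _ hgg
        simp only [Subgroup.coe_mul] at h1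
        calc (g : G) * d' = (g : G) * g * d * (g : G)⁻¹ := by rw [hd']; group
          _ = d * ((g : G) * g) * (g : G)⁻¹ := by rw [h1]
          _ = d * g := by group
      have hcomm : d * d' = d' * d := commute_of_sq (hP P) (hDP hd) hd'P
      have hd'g : d' * (g : G) = (g : G) * d := by rw [hd']; group
      have hge : (g : G) * (d * d') = d * d' * g := by
        rw [← mul_assoc, ← hd'g, mul_assoc, hgd, ← mul_assoc, ← hcomm]
      have he : d * d' = 1 := eq_one_of_centralized_by_normalizer hG P (mul_mem (hDP hd) hd'P)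
        fun x hx => by
          have hJe : ∀ k : N, k ∈ J → (k : G) * (d * d') = d * d' * k := fun k hk => by
            calc (k : G) * (d * d') = (k : G) * d * d' := (mul_assoc _ _ _).symm
              _ = d * (k : G) * d' := by rw [hJd k hk]
              _ = d * ((k : G) * d') := mul_assoc _ _ _
              _ = d * (d' * k) := by rw [hk' k hk]
              _ = d * d' * k := (mul_assoc _ _ _).symm
          by_cases hxJ : (⟨x, hx⟩ : N) ∈ J
          · exact hJe _ hxJ
          · have h1 : g⁻¹ * ⟨x, hx⟩ ∈ J :=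
              (Subgroup.mul_mem_iff_of_index_two hJ).mpr
                ⟨fun h => absurd (inv_mem_iff.mp h) hg, fun h => absurd h hxJ⟩
            have h2 := hJe _ h1
            simp only [Subgroup.coe_mul, Subgroup.coe_inv] at h2
            calc x * (d * d') = (g : G) * ((g : G)⁻¹ * x * (d * d')) := by group
              _ = (g : G) * (d * d') * ((g : G)⁻¹ * x) := by rw [h2]; group
              _ = d * d' * x := by rw [hge]; group
      have hgd' : d' = d⁻¹ := (inv_eq_of_mul_eq_one_right he).symm
      refine hg (mem_subgroupOf.mpr ?_)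
      have hgn : ∀ y ∈ D, (g : G) * y * (g : G)⁻¹ ∈ D := by
        intro y hy
        rw [← hdgen] at hy
        obtain ⟨i, rfl⟩ := mem_zpowers_iff.mp hy
        rw [show (g : G) * d ^ i * (g : G)⁻¹ = d' ^ i by rw [hd', conj_zpow], hgd']
        exact zpow_mem (inv_mem hd) i
      rw [hHdef, mem_normalizer_iff]
      intro y
      refine ⟨hgn y, fun hy => ?_⟩
      rw [← hdgen] at hy
      obtain ⟨i, hi⟩ := mem_zpowers_iff.mp hy
      have h3 : y = d⁻¹ ^ i := by
        have h5 : (g : G) * d⁻¹ ^ i * (g : G)⁻¹ = (g : G) * y * (g : G)⁻¹ := by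
          rw [← conj_zpow, show (g : G) * d⁻¹ * (g : G)⁻¹ = d'⁻¹ by rw [hd']; group, hgd', inv_inv,
            hi]
        exact (mul_left_cancel (mul_right_cancel h5)).symm
      rw [h3]
      exact zpow_mem (inv_mem hd) i
    · have h4 := Nat.le_of_dvd (by norm_num) hKdvd
      rcases (show Nat.card K = 2 * (5 ^ 2 * 3) ∨ Nat.card K = 5 ^ 2 * 3 by
        interval_cases K.relIndex H <;> omega) with hK1 | hK1
      · exact false_of_half hne (habel P hDP) (habel R hR') hP hK1 (by decide) (by norm_num)
          (by decide +kernel)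
      · exact hne (eq_of_small (habel P hDP) (habel R hR') hK1 (by norm_num) (by decide +kernel))

/-- When `8` exactly divides the order it divides the centralizer order of each involution. -/
theorem rangeB_eight_dvd_centralizer (hG : ¬ IsMulCommutative G) {m : ℕ}
    (h : Nat.card G = 2 ^ 3 * m) (hm : ¬ 2 ∣ m) {u : G} (hu : orderOf u = 2) :
    8 ∣ Nat.card (centralizer ({u} : Set G)) := by
  haveI : Fact (Nat.Prime 2) := ⟨Nat.prime_two⟩
  obtain ⟨T⟩ := (inferInstance : Nonempty (Sylow 2 G))
  have hT : Nat.card (T : Subgroup G) = 8 := (card_sylow_eq T h hm).trans (by norm_num)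
  -- a conjugate of `u` centralized by `T`
  suffices hs : ∃ g : G, (T : Subgroup G) ≤ centralizer ({g * u * g⁻¹} : Set G) by
    obtain ⟨g, hg⟩ := hs
    have h1 := card_dvd_of_le hg
    rw [hT] at h1
    have h2 : Nat.card (centralizer ({g * u * g⁻¹} : Set G)) =
        Nat.card (centralizer ({u} : Set G)) := by
      refine (Nat.card_congr ((MulAut.conj g).toEquiv.subtypeEquiv fun x => ?_)).symm
      rw [mem_centralizer_singleton_iff, mem_centralizer_singleton_iff]
      simp only [MulEquiv.toEquiv_eq_coe, MulEquiv.coe_toEquiv, MulAut.conj_apply]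
      constructor
      · intro hx
        calc g * x * g⁻¹ * (g * u * g⁻¹) = g * (x * u) * g⁻¹ := by group
          _ = g * u * g⁻¹ * (g * x * g⁻¹) := by rw [hx]; group
      · intro hx
        calc x * u = g⁻¹ * (g * x * g⁻¹ * (g * u * g⁻¹)) * g := by group
          _ = u * x := by rw [hx]; group
    exact h2 ▸ h1
  obtain ⟨Q, hQ⟩ := (IsPGroup.of_card (p := 2) (n := 1) (G := zpowers u)
    (by rw [Nat.card_zpowers, hu, pow_one])).exists_le_sylow
  by_cases hab : ∀ a ∈ (T : Subgroup G), ∀ b ∈ (T : Subgroup G), a * b = b * a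
  · obtain ⟨x, hx⟩ := MulAction.exists_smul_eq G Q T
    refine ⟨x, fun y hy => mem_centralizer_singleton_iff.mpr (hab y hy _ ?_)⟩
    rw [← hx, Sylow.coe_subgroup_smul]
    exact ⟨u, hQ (mem_zpowers u), rfl⟩
  · obtain ⟨c, hcT, hc4⟩ : ∃ c ∈ (T : Subgroup G), orderOf c = 4 := by
      by_contra hall
      push Not at hall
      refine hab fun a ha b hb => ?_
      have hsq : ∀ c ∈ (T : Subgroup G), c ^ 2 = 1 := by
        intro c hc
        have hd := orderOf_dvd_natCard (⟨c, hc⟩ : (T : Subgroup G))
        rw [Subgroup.orderOf_mk, hT, show (8 : ℕ) = 2 ^ 3 by norm_num,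
          Nat.dvd_prime_pow Nat.prime_two] at hd
        obtain ⟨k, hk, hck⟩ := hd
        rcases Nat.lt_or_ge k 2 with hk2 | hk2
        · exact orderOf_dvd_iff_pow_eq_one.mp (hck ▸ Nat.pow_dvd_pow 2 (show k ≤ 1 by omega))
        · exfalso
          rcases (show k = 2 ∨ k = 3 by omega) with rfl | rfl
          · exact hall c hc (by rw [hck]; norm_num)
          · refine hall (c ^ 2) (pow_mem hc 2) ?_
            rw [orderOf_pow' c (by norm_num), hck]
            norm_num
      have h1 : ∀ c ∈ (T : Subgroup G), c⁻¹ = c := fun c hc =>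
        inv_eq_of_mul_eq_one_right (by rw [← pow_two]; exact hsq c hc)
      rw [← h1 _ (mul_mem ha hb), mul_inv_rev, h1 a ha, h1 b hb]
    have hcle : zpowers c ≤ (T : Subgroup G) := zpowers_le.mpr hcT
    have hrel : (zpowers c).relIndex (T : Subgroup G) = 2 := by
      have h1 := ((zpowers c).subgroupOf (T : Subgroup G)).card_mul_index
      rw [Nat.card_congr (subgroupOfEquivOfLe hcle).toEquiv, Nat.card_zpowers, hc4, hT] at h1
      rw [relIndex]
      omega
    have hno : ∀ H : Subgroup G, H.index ≠ 2 := by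
      intro H hH
      haveI := Subgroup.normal_of_index_eq_two hH
      rcases (inferInstance : H.Normal).eq_bot_or_eq_top with e | e
      · rw [e, index_bot] at hH
        exact not_prime_card hG (hH ▸ Nat.prime_two)
      · rw [e, index_top] at hH
        norm_num at hH
    obtain ⟨g, hg⟩ := Involution.exists_conj_mem_of_no_index_two hno T (zpowers c) hcle hrel u hu
    refine ⟨g, fun y hy => mem_centralizer_singleton_iff.mpr ?_⟩
    -- the involution of `zpowers c` is unique, so fixed by `T`
    have key : ∀ z ∈ zpowers c, orderOf z = 2 → z = c ^ 2 := by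
      intro z hz hz2
      obtain ⟨i, hi, rfl⟩ : ∃ i, i < 4 ∧ c ^ i = z := by
        obtain ⟨j, rfl⟩ := mem_zpowers_iff.mp hz
        refine ⟨(j % (4 : ℕ)).toNat, by omega, ?_⟩
        rw [← zpow_natCast, Int.toNat_of_nonneg (Int.emod_nonneg _ (by norm_num)), ← hc4,
          zpow_mod_orderOf]
      interval_cases i
      · rw [pow_zero, orderOf_one] at hz2; norm_num at hz2
      · rw [pow_one, hc4] at hz2; norm_num at hz2
      · rfl
      · rw [orderOf_pow' c (by norm_num), hc4] at hz2; norm_num at hz2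
    have hn : ((zpowers c).subgroupOf (T : Subgroup G)).Normal :=
      Subgroup.normal_of_index_eq_two hrel
    have hz : g * u * g⁻¹ = c ^ 2 := key _ hg (by
      rw [← MulAut.conj_apply, MulEquiv.orderOf_eq, hu])
    have hyc : y * c ^ 2 * y⁻¹ ∈ zpowers c := by
      have := hn.conj_mem ⟨c ^ 2, pow_mem hcT 2⟩ (mem_subgroupOf.mpr (pow_mem (mem_zpowers c) 2))
        ⟨y, hy⟩
      exact mem_subgroupOf.mp this
    have hyo : orderOf (y * c ^ 2 * y⁻¹) = 2 := by
      rw [← MulAut.conj_apply, MulEquiv.orderOf_eq, orderOf_pow' c (by norm_num), hc4]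
      norm_num
    rw [hz]
    exact mul_inv_eq_iff_eq_mul.mp (key _ hyc hyo)

/-- A self-centralizing Sylow subgroup of order 13 with at most 104 conjugates gives `PSL(2,13)`. -/
theorem rangeB_false_thirteen (hG : ¬ IsMulCommutative G) [Fact (Nat.Prime 13)] (P : Sylow 13 G)
    (hP : Nat.card (P : Subgroup G) = 13)
    (hC : Nat.card (centralizer ((P : Subgroup G) : Set G)) = 13)
    (hn : Nat.card (Sylow 13 G) ≤ 104) (hne : Nat.card G ≠ 1092) : False := by
  obtain ⟨⟨z, hz⟩, hz'⟩ := exists_prime_orderOf_dvd_card' (G := (P : Subgroup G)) 13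
    (dvd_of_eq hP.symm)
  rw [Subgroup.orderOf_mk] at hz'
  have hz1 : z ≠ 1 := fun e => by rw [e, orderOf_one] at hz'; norm_num at hz'
  have hCz : centralizer ({z} : Set G) = zpowers z := by
    rw [centralizer_eq_of_prime hP hz hz1, zpowers_eq_of_prime hP hz hz1]
    exact (Subgroup.eq_of_le_of_card_ge (le_centralizer_of_prime hP) (by rw [hC, hP])).symm
  rcases Cfsg.Agent.S0996.result (commutator_eq_top hG) 13 z hz' hCz (by omega) with
    ⟨F, iF, iFt, hF, -, ⟨e⟩⟩ | ⟨m, F, iF, iFt, -, hm, -, -⟩
  · have h := @LinGroup.card_PSL_two_mul F iF iFt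
    rw [← Nat.card_congr e.toEquiv, hF] at h
    norm_num at h
    omega
  · rcases Nat.lt_or_ge m 4 with h4 | h4
    · interval_cases m <;> norm_num at hm
    · have := Nat.pow_le_pow_right (show 0 < 2 by norm_num) h4
      omega

theorem false_3432 (hG : ¬ IsMulCommutative G) (h : Nat.card G = 3432) : False := by
  haveI : Fact (Nat.Prime 13) := ⟨by norm_num⟩
  obtain ⟨P⟩ := (inferInstance : Nonempty (Sylow 13 G))
  obtain ⟨hP, t, ht, hn, hC, hN⟩ := exists_choice hG h (m := 264) (by norm_num) (by norm_num) P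
  rw [show choices 3432 13 = [(66, 2, 26), (66, 4, 13)] from by decide +kernel] at ht
  simp only [List.mem_cons, List.not_mem_nil, or_false] at ht
  rcases ht with rfl | rfl
  swap
  · exact rangeB_false_thirteen hG P hP hC (by rw [hn]; norm_num) (by omega)
  simp only [] at hn hC hN
  haveI : Fact (Nat.Prime 2) := ⟨Nat.prime_two⟩
  obtain ⟨⟨u, huC⟩, hu⟩ := exists_prime_orderOf_dvd_card'
    (G := centralizer ((P : Subgroup G) : Set G)) 2 (by rw [hC]; norm_num)
  rw [Subgroup.orderOf_mk] at hu
  set H := centralizer ({u} : Set G) with hH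
  have h8 : 8 ∣ Nat.card H :=
    rangeB_eight_dvd_centralizer hG (m := 429) (by rw [h]; norm_num) (by norm_num) hu
  have hPH : (P : Subgroup G) ≤ H := fun y hy =>
    mem_centralizer_singleton_iff.mpr (mem_centralizer_iff.mp huC y hy)
  have h13 : 13 ∣ Nat.card H := hP ▸ card_dvd_of_le hPH
  have hHt : H ≠ ⊤ := centralizer_ne_top hG fun e => by rw [e, orderOf_one] at hu; norm_num at hu
  have hidx : 13 ≤ H.index := by
    by_contra hlt
    push Not at hlt
    have h1 := (two_mul_card_dvd_factorial hG hHt).trans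
      (Nat.factorial_dvd_factorial (show H.index ≤ 12 by omega))
    rw [h] at h1
    norm_num [Nat.factorial] at h1
  obtain ⟨c, hc⟩ := Nat.Coprime.mul_dvd_of_dvd_of_dvd (show Nat.Coprime 8 13 by norm_num) h8 h13
  have hmul := H.card_mul_index
  rw [h, hc] at hmul
  have hc33 : c ∣ 33 := ⟨H.index, by
    refine Nat.eq_of_mul_eq_mul_left (show 0 < 104 by norm_num) ?_
    rw [← mul_assoc]
    exact hmul.symm⟩
  have hcle : c ≤ 2 := by
    by_contra hlt
    push Not at hlt
    have := Nat.mul_le_mul hlt hidx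
    nlinarith
  have hH104 : Nat.card H = 104 := by
    interval_cases c
    · simp at hmul
    · omega
    · norm_num at hc33
  obtain ⟨hmod, hcard, hdN, hd13, hle⟩ := sylow_count_of_le P hPH
  have hone : Nat.card (Sylow 13 H) = 1 := by
    obtain ⟨j, hj⟩ := hd13
    rw [hP] at hj
    rw [hH104, hj] at hcard
    have h8' : Nat.card (Sylow 13 H) ∣ 8 := ⟨j, by nlinarith⟩
    have := Nat.le_of_dvd (by norm_num) h8'
    omega
  have h1 := card_dvd_of_le (hle hone)
  rw [hH104, hN] at h1
  norm_num at h1

theorem false_3120 (hG : ¬ IsMulCommutative G) (h : Nat.card G = 3120) : False := by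
  haveI : Fact (Nat.Prime 13) := ⟨by norm_num⟩
  haveI : Fact (Nat.Prime 3) := ⟨Nat.prime_three⟩
  haveI : Fact (Nat.Prime 2) := ⟨Nat.prime_two⟩
  obtain ⟨P⟩ := (inferInstance : Nonempty (Sylow 13 G))
  obtain ⟨hP, t, ht, hn, hC, hN⟩ := exists_choice hG h (m := 240) (by norm_num) (by norm_num) P
  rw [show choices 3120 13 = [(40, 2, 39), (40, 3, 26), (40, 6, 13)] from by decide +kernel] at ht
  simp only [List.mem_cons, List.not_mem_nil, or_false] at ht
  rcases ht with rfl | rfl | rfl
  rotate_left
  · -- an involution centralizing `P` would fix one coset of its normalizer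
    simp only [] at hn hC hN
    set M := normalizer ((P : Subgroup G) : Set G) with hM
    have hidx : M.index = 40 := by rw [← hn, P.card_eq_index_normalizer]; rfl
    obtain ⟨⟨u, huC⟩, hu⟩ := exists_prime_orderOf_dvd_card'
      (G := centralizer ((P : Subgroup G) : Set G)) 2 (by rw [hC]; norm_num)
    rw [Subgroup.orderOf_mk] at hu
    have hMt : M ≠ ⊤ := fun hh => by rw [hh, index_top] at hidx; norm_num at hidx
    have h4 := card_fixedBy_mod_four hG (X := G ⧸ M) hu
    rw [← index_eq_card, hidx] at h4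
    have h13 : Nat.card (fixedBy (G ⧸ M) u) ≡ 1 [MOD 13] :=
      Order5040.card_fixedBy_modEq_one P hP le_rfl huC
    have hlt : Nat.card (fixedBy (G ⧸ M) u) < 40 := by
      refine lt_of_le_of_ne ?_ (fun e => Order5040.card_fixedBy_ne_index hMt hu (by rw [e, hidx]))
      rw [← hidx, index_eq_card]
      exact Nat.card_le_card_of_injective Subtype.val Subtype.val_injective
    unfold Nat.ModEq at h13
    omega
  · exact rangeB_false_thirteen hG P hP hC (by rw [hn]; norm_num) (by omega)
  -- the centralizer is cyclic of order 39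
  simp only [] at hn hC hN
  set M := normalizer ((P : Subgroup G) : Set G) with hM
  set A := centralizer ((P : Subgroup G) : Set G) with hA
  have hidx : M.index = 40 := by rw [← hn, P.card_eq_index_normalizer]; rfl
  obtain ⟨Q⟩ := (inferInstance : Nonempty (Sylow 3 G))
  obtain ⟨hQ, s, hs, -, hCQ, hNQ⟩ := exists_choice hG h (m := 1040) (by norm_num) (by norm_num) Q
  rw [show choices 3120 3 = [(40, 2, 39), (52, 2, 30), (130, 2, 12), (520, 2, 3)] from by
    decide +kernel] at hs
  simp only [List.mem_cons, List.not_mem_nil, or_false] at hs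
  have h13 := dvd_centralizer_symm P hP Q hQ (by rw [hC]; norm_num)
  rw [hCQ] at h13
  have hs' : s = (40, 2, 39) := by
    rcases hs with rfl | rfl | rfl | rfl <;> first | rfl | norm_num at h13
  subst hs'
  simp only [] at hCQ hNQ
  have hMle : ∀ x : G, x ∈ A → x ∈ M := fun x hx => centralizer_le_normalizer' _ hx
  -- elements of prime order in `A`
  have key : ∀ y ∈ A, orderOf y = 3 ∨ orderOf y = 13 →
      Nat.card (fixedBy (G ⧸ M) y) = 1 ∧ Nat.card (centralizer ({y} : Set G)) = 39 := by
    intro y hy hy'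
    rcases hy' with hyo | hyo
    · obtain ⟨R, hR0, -⟩ := existsUnique_sylow_of_orderOf Q hQ hyo
      have hR := hR0.symm
      have hRc : Nat.card (R : Subgroup G) = 3 := by
        rw [← hR, Nat.card_zpowers, hyo]
      have hyC : Nat.card (centralizer ({y} : Set G)) = 39 :=
        (card_centralizer_of_orderOf Q hQ hyo).trans hCQ
      refine ⟨?_, hyC⟩
      have hPy : (P : Subgroup G) ≤ centralizer ({y} : Set G) := fun z hz =>
        mem_centralizer_singleton_iff.mpr (mem_centralizer_iff.mp hy z hz)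
      -- `A` is contained in the centralizer of `y`
      have hle : A ≤ centralizer ({y} : Set G) := by
        have h1 : A ⊓ centralizer ({y} : Set G) = A := by
          refine Subgroup.eq_of_le_of_card_ge inf_le_left (Nat.le_of_dvd Nat.card_pos ?_)
          rw [hC, show (39 : ℕ) = 13 * 3 by norm_num]
          refine Nat.Coprime.mul_dvd_of_dvd_of_dvd (by norm_num) ?_ ?_
          · exact hP ▸ card_dvd_of_le (le_inf (le_centralizer_of_prime hP) hPy)
          · have h2 := card_dvd_of_le (show zpowers y ≤ A ⊓ centralizer ({y} : Set G) from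
              zpowers_le.mpr ⟨hy, mem_centralizer_singleton_iff.mpr rfl⟩)
            rwa [Nat.card_zpowers, hyo] at h2
        exact h1 ▸ inf_le_right
      have hMR : M ≤ normalizer ((R : Subgroup G) : Set G) := by
        intro g hg
        have hgy : g * y * g⁻¹ ∈ A := by
          refine mem_centralizer_iff.mpr fun z hz => ?_
          have h1 : g⁻¹ * z * g ∈ (P : Subgroup G) :=
            (mem_normalizer_iff''.mp hg z).mp hz
          have h2 := mem_centralizer_iff.mp hy _ h1
          calc z * (g * y * g⁻¹) = g * (g⁻¹ * z * g * y) * g⁻¹ := by group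
            _ = g * y * g⁻¹ * z := by rw [h2]; group
        have hgo : orderOf (g * y * g⁻¹) = 3 := by
          rw [← MulAut.conj_apply, MulEquiv.orderOf_eq, hyo]
        have hgC : g * y * g⁻¹ ∈ centralizer ((R : Subgroup G) : Set G) := by
          rw [← hR, mem_centralizer_iff]
          intro z hz
          obtain ⟨i, rfl⟩ := mem_zpowers_iff.mp hz
          exact (Commute.zpow_left (mem_centralizer_singleton_iff.mp (hle hgy)).symm i).eq
        have hgR : g * y * g⁻¹ ∈ (R : Subgroup G) := by
          have hpg : IsPGroup 3 (zpowers (g * y * g⁻¹)) :=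
            IsPGroup.of_card (n := 1) (by rw [Nat.card_zpowers, hgo, pow_one])
          have h1 := hpg.inf_normalizer_sylow R
          rw [inf_eq_left.mpr (show zpowers (g * y * g⁻¹) ≤ normalizer (R : Set G) from
              zpowers_le.mpr (centralizer_le_normalizer' _ hgC)), eq_comm, inf_eq_left] at h1
          exact h1 (mem_zpowers _)
        have hgen : zpowers (g * y * g⁻¹) = (R : Subgroup G) :=
          zpowers_eq_of_prime hRc hgR fun e => by rw [e, orderOf_one] at hgo; norm_num at hgo
        refine Sylow.smul_eq_iff_mem_normalizer.mp (Sylow.ext ?_)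
        rw [Sylow.coe_subgroup_smul, ← hR]
        refine le_antisymm ?_ ?_
        · rintro _ ⟨z, hz, rfl⟩
          obtain ⟨i, rfl⟩ := mem_zpowers_iff.mp hz
          change g * y ^ i * g⁻¹ ∈ zpowers y
          rw [← conj_zpow, hR]
          exact zpow_mem hgR i
        · conv_lhs => rw [hR, ← hgen]
          rw [zpowers_le]
          exact ⟨y, mem_zpowers y, rfl⟩
      have hRN : Nat.card (normalizer ((R : Subgroup G) : Set G)) = 78 := by
        have h1 := card_normalizer_sylow_mul R
        have h2 := card_normalizer_sylow_mul Q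
        rw [hNQ] at h2
        exact Nat.eq_of_mul_eq_mul_right (Nat.card_pos (α := Sylow 3 G)) (h1.trans h2.symm)
      have hMeq : M = normalizer ((R : Subgroup G) : Set G) :=
        Subgroup.eq_of_le_of_card_ge hMR (by rw [hN, hRN])
      rw [hMeq]
      exact card_fixedBy_of_orderOf R hRc hyo
    · exact ⟨card_fixedBy_of_orderOf P hP hyo, (card_centralizer_of_orderOf P hP hyo).trans hC⟩
  have exy : ∀ c ∈ A, c ≠ 1 → ∃ k : ℕ, orderOf (c ^ k) = 3 ∨ orderOf (c ^ k) = 13 := by
    intro c hc hc1
    have hd := orderOf_dvd_natCard (⟨c, hc⟩ : A)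
    rw [Subgroup.orderOf_mk, hC, show (39 : ℕ) = 3 * 13 by norm_num] at hd
    have h1 : orderOf c ≠ 1 := fun e => hc1 (orderOf_eq_one_iff.mp e)
    have hmp := Nat.minFac_prime h1
    refine ⟨orderOf c / (orderOf c).minFac, ?_⟩
    rw [orderOf_pow_orderOf_div (orderOf_pos c).ne' (Nat.minFac_dvd _)]
    rcases hmp.dvd_mul.mp ((Nat.minFac_dvd _).trans hd) with h3 | h3
    · exact Or.inl ((Nat.prime_dvd_prime_iff_eq hmp Nat.prime_three).mp h3)
    · exact Or.inr ((Nat.prime_dvd_prime_iff_eq hmp (by norm_num)).mp h3)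
  have hbase : ∀ x ∈ M, x • ((1 : G) : G ⧸ M) = ((1 : G) : G ⧸ M) := fun x hx => by
    change QuotientGroup.mk (x * 1) = QuotientGroup.mk 1
    rw [QuotientGroup.eq, mul_one, mul_one]
    exact M.inv_mem hx
  have hfree : ∀ c ∈ A, c ≠ 1 → ∀ q : G ⧸ M, c • q = q → q = ((1 : G) : G ⧸ M) := by
    intro c hc hc1 q hq
    obtain ⟨k, hk⟩ := exy c hc hc1
    have hone := (key _ (pow_mem hc k) hk).1
    haveI := (Nat.card_eq_one_iff_unique.mp hone).1
    have hqk : c ^ k • q = q := (stabilizer G q).pow_mem hq k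
    exact congrArg Subtype.val (Subsingleton.elim (⟨q, hqk⟩ : fixedBy (G ⧸ M) (c ^ k))
      ⟨_, hbase _ (hMle _ (pow_mem hc k))⟩)
  obtain ⟨t, htM, ht2⟩ : ∃ t ∈ M, orderOf t = 2 := by
    obtain ⟨⟨t, ht⟩, ht2⟩ := exists_prime_orderOf_dvd_card' (G := M) 2 (by rw [hN]; norm_num)
    exact ⟨t, ht, by rwa [Subgroup.orderOf_mk] at ht2⟩
  have hX : Nat.card (G ⧸ M) = 40 := by rw [← index_eq_card, hidx]
  have hMt : M ≠ ⊤ := fun hh => by rw [hh, index_top] at hidx; norm_num at hidx
  have h4 := card_fixedBy_mod_four hG (X := G ⧸ M) ht2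
  rw [hX] at h4
  classical
  haveI := Fintype.ofFinite (fixedBy (G ⧸ M) t)
  obtain ⟨q, r, hq, hr, hq1, hr1, hqr⟩ : ∃ q r : G ⧸ M, t • q = q ∧ t • r = r ∧
      q ≠ ((1 : G) : G ⧸ M) ∧ r ≠ ((1 : G) : G ⧸ M) ∧ q ≠ r := by
    let b : fixedBy (G ⧸ M) t := ⟨_, hbase t htM⟩
    have hpos : 0 < Nat.card (fixedBy (G ⧸ M) t) := Nat.card_pos_iff.mpr ⟨⟨b⟩, inferInstance⟩
    have hcard : 1 < (Finset.univ.erase b).card := by
      rw [Finset.card_erase_of_mem (Finset.mem_univ b), Finset.card_univ, ← Nat.card_eq_fintype_card]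
      omega
    obtain ⟨q, hq, r, hr, hne⟩ := Finset.one_lt_card.mp hcard
    exact ⟨q.1, r.1, q.2, r.2, fun e => (Finset.mem_erase.mp hq).1 (Subtype.ext e),
      fun e => (Finset.mem_erase.mp hr).1 (Subtype.ext e), fun e => hne (Subtype.ext e)⟩
  haveI := Fintype.ofFinite (G ⧸ M)
  let f : A → {x : G ⧸ M // x ≠ ((1 : G) : G ⧸ M)} := fun c => ⟨(c : G) • q, fun e => hq1 (by
    rw [← inv_smul_smul (c : G) q, e]
    exact hbase _ (hMle _ (A.inv_mem c.2)))⟩
  have hinj : Function.Injective f := by
    intro a b hab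
    have h1 : (a : G) • q = (b : G) • q := congrArg Subtype.val hab
    by_contra hne
    refine hq1 (hfree ((b : G)⁻¹ * a) (A.mul_mem (A.inv_mem b.2) a.2) (fun e => hne ?_) q ?_)
    · exact Subtype.ext (inv_mul_eq_one.mp e).symm
    · rw [mul_smul, h1, inv_smul_smul]
  have hbij : Function.Bijective f := by
    refine (Nat.bijective_iff_injective_and_card f).mpr ⟨hinj, ?_⟩
    rw [hC, Nat.card_eq_fintype_card, Fintype.card_subtype_compl, Fintype.card_subtype_eq,
      ← Nat.card_eq_fintype_card, hX]
  obtain ⟨⟨c, hc⟩, hcr⟩ := hbij.2 ⟨r, hr1⟩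
  have hcq : c • q = r := congrArg Subtype.val hcr
  have htc : t * c * t⁻¹ ∈ A := by
    refine mem_centralizer_iff.mpr fun z hz => ?_
    have h1 : t⁻¹ * z * t ∈ (P : Subgroup G) := (mem_normalizer_iff''.mp htM z).mp hz
    have h2 := mem_centralizer_iff.mp hc _ h1
    calc z * (t * c * t⁻¹) = t * (t⁻¹ * z * t * c) * t⁻¹ := by group
      _ = t * c * t⁻¹ * z := by rw [h2]; group
  have hcomm : t * c * t⁻¹ = c := congrArg Subtype.val (hinj (a₁ := ⟨_, htc⟩) (a₂ := ⟨c, hc⟩)
    (Subtype.ext (show (t * c * t⁻¹) • q = c • q by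
      rw [mul_smul, mul_smul, inv_smul_eq_iff.mpr hq.symm, hcq, hr])))
  have hc1 : c ≠ 1 := fun e => hqr (by rw [← hcq, e, one_smul])
  obtain ⟨k, hk⟩ := exy c hc hc1
  have hC39 := (key _ (pow_mem hc k) hk).2
  have htk : t ∈ centralizer ({c ^ k} : Set G) :=
    mem_centralizer_singleton_iff.mpr (Commute.pow_right (mul_inv_eq_iff_eq_mul.mp hcomm) k).eq
  have h2 := orderOf_dvd_natCard (⟨t, htk⟩ : centralizer ({c ^ k} : Set G))
  rw [Subgroup.orderOf_mk, ht2, hC39] at h2
  norm_num at h2

omit [IsSimpleGroup G] in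
/-- If the Sylow `r`-subgroup of `C(Q)` is unique then it is normalized by `N(Q)`. -/
theorem rangeB_normalizer_le {q r k : ℕ} [Fact q.Prime] [Fact r.Prime] (hqr : q ≠ r)
    (Q : Sylow q G) (hQ : Nat.card (Q : Subgroup G) = q) (R : Sylow r G)
    (hR : Nat.card (R : Subgroup G) = r)
    (hRC : (R : Subgroup G) ≤ centralizer ((Q : Subgroup G) : Set G))
    (hC : Nat.card (centralizer ((Q : Subgroup G) : Set G)) = q * r * k)
    (hk : ∀ d ∈ Nat.divisors k, d % r = 1 → d = 1) :
    normalizer ((Q : Subgroup G) : Set G) ≤ normalizer ((R : Subgroup G) : Set G) := by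
  set C := centralizer ((Q : Subgroup G) : Set G) with hCdef
  obtain ⟨hmod, hcard, -, -, hle⟩ := sylow_count_of_le R hRC
  have hQN : (Q : Subgroup G) ≤ normalizer ((R : Subgroup G) : Set G) ⊓ C :=
    le_inf (fun x hx => centralizer_le_normalizer' _ (mem_centralizer_iff.mpr fun y hy =>
      (mem_centralizer_iff.mp (hRC hy) x hx).symm)) (le_centralizer_of_prime hQ)
  have h1 := hQ ▸ card_dvd_of_le hQN
  have h2 := hR ▸ card_dvd_of_le (le_inf le_normalizer hRC :
    (R : Subgroup G) ≤ normalizer ((R : Subgroup G) : Set G) ⊓ C)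
  obtain ⟨j, hj⟩ := Nat.Coprime.mul_dvd_of_dvd_of_dvd
    ((Nat.coprime_primes Fact.out Fact.out).mpr hqr) h1 h2
  rw [hC, hj] at hcard
  have hkn : Nat.card (Sylow r C) * j = k := by
    refine Nat.eq_of_mul_eq_mul_left (Nat.mul_pos (Fact.out : q.Prime).pos (Fact.out : r.Prime).pos) ?_
    rw [hcard]; ring
  have hone : Nat.card (Sylow r C) = 1 := by
    refine hk _ (Nat.mem_divisors.mpr ⟨Dvd.intro j hkn, fun e => ?_⟩) hmod
    have h3 : 0 < Nat.card C := Nat.card_pos
    rw [hC, e, mul_zero] at h3
    exact lt_irrefl 0 h3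
  intro g hg
  refine Sylow.smul_eq_iff_mem_normalizer.mp (eq_of_le_normalizer R (g • R) ?_)
  refine le_trans ?_ (hle hone)
  rw [Sylow.coe_subgroup_smul]
  rintro _ ⟨z, hz, rfl⟩
  refine mem_centralizer_iff.mpr fun y hy => ?_
  have h4 := mem_centralizer_iff.mp (hRC hz) _ ((mem_normalizer_iff''.mp hg y).mp hy)
  change y * (g * z * g⁻¹) = g * z * g⁻¹ * y
  calc y * (g * z * g⁻¹) = g * (g⁻¹ * y * g * z) * g⁻¹ := by group
    _ = g * z * g⁻¹ * y := by rw [h4]; group

theorem false_3360 (hG : ¬ IsMulCommutative G) (h : Nat.card G = 3360) : False := by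
  haveI : Fact (Nat.Prime 7) := ⟨by norm_num⟩
  haveI : Fact (Nat.Prime 5) := ⟨by norm_num⟩
  haveI : Fact (Nat.Prime 3) := ⟨Nat.prime_three⟩
  obtain ⟨P⟩ := (inferInstance : Nonempty (Sylow 7 G))
  obtain ⟨Q⟩ := (inferInstance : Nonempty (Sylow 5 G))
  obtain ⟨R⟩ := (inferInstance : Nonempty (Sylow 3 G))
  obtain ⟨hP, t, ht, hnP, hCP, -⟩ := exists_choice hG h (m := 480) (by norm_num) (by norm_num) P
  obtain ⟨hQ, s, hs, hnQ, hCQ, hNQ⟩ := exists_choice hG h (m := 672) (by norm_num) (by norm_num) Q
  obtain ⟨hR, r, hr, hnR, hCR, hNR⟩ := exists_choice hG h (m := 1120) (by norm_num) (by norm_num) R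
  rw [show choices 3360 7 = [(120, 2, 14)] from by decide +kernel] at ht
  rw [show choices 3360 5 = [(56, 2, 30), (56, 4, 15), (336, 2, 5)] from by decide +kernel] at hs
  rw [show choices 3360 3 = [(28, 2, 60), (40, 2, 42), (70, 2, 24), (112, 2, 15), (280, 2, 6)] from by
    decide +kernel] at hr
  simp only [List.mem_cons, List.not_mem_nil, or_false] at ht hs hr
  subst ht
  simp only [] at hnP hCP
  -- no element of order 15
  have h35 : ¬ 3 ∣ Nat.card (centralizer ((Q : Subgroup G) : Set G)) := by
    intro h3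
    obtain ⟨R', hR'⟩ := exists_sylow_le (p := 3) (k := 1) (m := 1120) (by rw [h]; norm_num)
      (by norm_num) (H := centralizer ((Q : Subgroup G) : Set G)) (by simpa using h3)
    obtain ⟨hR'c, r', hr', -, hCR', hNR'⟩ :=
      exists_choice hG h (m := 1120) (by norm_num) (by norm_num) R'
    rw [show choices 3360 3 = [(28, 2, 60), (40, 2, 42), (70, 2, 24), (112, 2, 15), (280, 2, 6)] from by
      decide +kernel] at hr'
    simp only [List.mem_cons, List.not_mem_nil, or_false] at hr'
    have hQC : (Q : Subgroup G) ≤ centralizer ((R' : Subgroup G) : Set G) := fun x hx =>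
      mem_centralizer_iff.mpr fun y hy => (mem_centralizer_iff.mp (hR' hy) x hx).symm
    have h5 : 5 ∣ Nat.card (centralizer ((R' : Subgroup G) : Set G)) := hQ ▸ card_dvd_of_le hQC
    obtain ⟨k, hk, hk'⟩ : ∃ k ∈ [1, 2],
        Nat.card (centralizer ((Q : Subgroup G) : Set G)) = 5 * 3 * k := by
      rw [hCQ] at h3 ⊢
      rcases hs with rfl | rfl | rfl
      · exact ⟨2, by simp, by norm_num⟩
      · exact ⟨1, by simp, by norm_num⟩
      · norm_num at h3
    obtain ⟨k', hk1', hk2'⟩ : ∃ k ∈ [1, 4],
        Nat.card (centralizer ((R' : Subgroup G) : Set G)) = 3 * 5 * k := by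
      rw [hCR'] at h5 ⊢
      rcases hr' with rfl | rfl | rfl | rfl | rfl
      · exact ⟨4, by simp, by norm_num⟩
      · norm_num at h5
      · norm_num at h5
      · exact ⟨1, by simp, by norm_num⟩
      · norm_num at h5
    have hk0 : ∀ d ∈ Nat.divisors k, d % 3 = 1 → d = 1 := by
      simp only [List.mem_cons, List.not_mem_nil, or_false] at hk
      rcases hk with rfl | rfl <;> decide +kernel
    have hk0' : ∀ d ∈ Nat.divisors k', d % 5 = 1 → d = 1 := by
      simp only [List.mem_cons, List.not_mem_nil, or_false] at hk1'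
      rcases hk1' with rfl | rfl <;> decide +kernel
    have e1 := rangeB_normalizer_le (q := 5) (r := 3) (by norm_num) Q hQ R' hR'c hR' hk' hk0
    have e2 := rangeB_normalizer_le (q := 3) (r := 5) (by norm_num) R' hR'c Q hQ hQC hk2' hk0'
    have e3 : Nat.card (normalizer ((Q : Subgroup G) : Set G)) =
        Nat.card (normalizer ((R' : Subgroup G) : Set G)) := by rw [le_antisymm e1 e2]
    rw [hCQ] at h3
    rw [hCR'] at h5
    rw [hNQ, hNR'] at e3
    rcases hs with rfl | rfl | rfl <;> rcases hr' with rfl | rfl | rfl | rfl | rfl <;>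
      first | norm_num at e3 | norm_num at h3 | norm_num at h5
  have hs' : s = (336, 2, 5) := by
    rw [hCQ] at h35
    rcases hs with rfl | rfl | rfl <;> first | rfl | norm_num at h35
  subst hs'
  simp only [] at hnQ hCQ
  have h53 : ¬ 5 ∣ Nat.card (centralizer ((R : Subgroup G) : Set G)) := fun h5 =>
    h35 (dvd_centralizer_symm R hR Q hQ h5)
  have h73 : ¬ 7 ∣ Nat.card (centralizer ((R : Subgroup G) : Set G)) := fun h7 => by
    have h1 := dvd_centralizer_symm R hR P hP h7
    rw [hCP] at h1
    norm_num at h1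
  have hA := le_card_dvd_orderOf P hP (m := 2) (by rw [hCP])
  have hB := le_card_dvd_orderOf Q hQ (m := 1) (by rw [hCQ])
  rw [hnP] at hA
  rw [hnQ] at hB
  have hE : 1120 ≤ Nat.card {g : G // 3 ∣ orderOf g} := by
    rw [hCR] at h53 h73
    rcases hr with rfl | rfl | rfl | rfl | rfl
    · norm_num at h53
    · norm_num at h73
    · have := le_card_dvd_orderOf R hR (m := 8) (by rw [hCR])
      rw [hnR] at this
      norm_num at this ⊢
      omega
    · norm_num at h53
    · have := le_card_dvd_orderOf R hR (m := 2) (by rw [hCR])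
      rw [hnR] at this
      norm_num at this ⊢
      omega
  have h75 : ∀ g : G, 7 ∣ orderOf g → ¬ 5 ∣ orderOf g := fun g hg => not_dvd_orderOf (fun y hy => by
    rw [card_centralizer_of_orderOf P hP hy, hCP]; norm_num) hg
  have h37 : ∀ g : G, 7 ∣ orderOf g → ¬ 3 ∣ orderOf g := fun g hg => not_dvd_orderOf (fun y hy => by
    rw [card_centralizer_of_orderOf P hP hy, hCP]; norm_num) hg
  have h35' : ∀ g : G, 5 ∣ orderOf g → ¬ 3 ∣ orderOf g := fun g hg => not_dvd_orderOf (fun y hy => by
    rw [card_centralizer_of_orderOf Q hQ hy, hCQ]; norm_num) hg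
  have c1 := card_add_card_le (G := G) (p := fun g => 7 ∣ orderOf g) (q := fun g => 5 ∣ orderOf g)
    h75 (r := fun g => 7 ∣ orderOf g ∨ 5 ∣ orderOf g) (fun _ => Or.inl) (fun _ => Or.inr)
  have c2 := card_add_card_le (G := G) (p := fun g => 7 ∣ orderOf g ∨ 5 ∣ orderOf g)
    (q := fun g => 3 ∣ orderOf g) (fun g a b => a.elim (fun a => h37 g a b) fun a => h35' g a b)
    (r := fun _ => True) (fun _ _ => trivial) (fun _ _ => trivial)
  rw [Nat.card_congr (Equiv.subtypeUnivEquiv (p := fun _ : G => True) fun _ => trivial), h] at c2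
  norm_num at hA hB
  omega

end Cfsg.Agent.Lib.SmallSimple1
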