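/-
A decidable filter excluding most orders in `(1092, 3640]` as orders of non-abelian simple groups.
-/
import Mathlib
import Cfsg.Agent.Lib.SmallGroups.Below6232.Filter

set_option autoImplicit false

namespace Cfsg.Agent.Lib.SmallSimple1

open Cfsg.Agent.Lib.SmallGroups.Below6232 (excluded false_of_excluded)

/-- The orders in `(1092, 3640]` left by the filter. -/
def midSurvivors : List ℕ :=
  [1200, 1224, 1232, 1260, 1344, 1400, 1404, 1512, 1560, 1575, 1620, 1680, 1716, 1764, 1800, 1920,
    1980, 2080, 2100, 2160, 2268, 2400, 2448, 2464, 2475, 2520, 2688, 2700, 2800, 2940, 2976, 3080,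
    3120, 3168, 3360, 3420, 3432, 3444, 3528, 3600]

/-- the orders left by the filter -/
theorem excluded_or_mem_mid : (List.range 2548).all (fun i => excluded (1093 + i) ||
    midSurvivors.contains (1093 + i)) = true := by
  decide +kernel

/-- The orders in `(1092, 3640]` that need individual treatment. -/
theorem mem_midSurvivors {G : Type*} [Group G] [Finite G] [IsSimpleGroup G]
    (hG : ¬ IsMulCommutative G) (h1 : 1092 < Nat.card G) (h2 : Nat.card G ≤ 3640) :
    Nat.card G ∈ midSurvivors := by
  have h3 := List.all_eq_true.mp excluded_or_mem_mid (Nat.card G - 1093)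
    (List.mem_range.mpr (by omega))
  rw [show 1093 + (Nat.card G - 1093) = Nat.card G by omega, Bool.or_eq_true] at h3
  rcases h3 with h3 | h3
  · exact (false_of_excluded hG h3).elim
  · rwa [List.contains_iff_mem] at h3

end Cfsg.Agent.Lib.SmallSimple1
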