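import Mathlib
import Cfsg.Agent.S0496
import Cfsg.Agent.S0983
import Cfsg.Agent.S1015
import Cfsg.Agent.Lib.SmallSimple1.RangeFilter
import Cfsg.Agent.Lib.SmallSimple1.RangeA
import Cfsg.Agent.Lib.SmallSimple1.RangeB
import Cfsg.Agent.Lib.SmallSimple1.Main

/-!
The orders of the non-abelian simple groups below `6000`.
-/

set_option autoImplicit false

namespace Cfsg.Agent.Lib.SmallSimple1

universe u

theorem ordersKnown : OrdersKnown.{u} := by
  intro T _ _ _ hT hlt
  simp only [smallOrders, List.mem_cons, List.not_mem_nil, or_false]
  rcases le_or_gt (Nat.card T) 1092 with h | h
  · rcases S0496.result hT h with h | h | h | h | h | h <;> omega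
  rcases le_or_gt (Nat.card T) 3640 with h' | h'
  · have hs := mem_midSurvivors hT h h'
    simp only [midSurvivors, List.mem_cons, List.not_mem_nil, or_false] at hs
    rcases hs with e | e | e | e | e | e | e | e | e | e | e | e | e | e | e | e | e | e | e | e |
      e | e | e | e | e | e | e | e | e | e | e | e | e | e | e | e | e | e | e | e
    all_goals first
      | omega
      | exact absurd e S1015.result
      | exact (false_1224 hT e).elim
      | exact (false_1232 hT e).elim
      | exact (false_1260 hT e).elim
      | exact (false_1344 hT e).elim
      | exact (false_1400 hT e).elim
      | exact (false_1404 hT e).elim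
      | exact (false_1512 hT e).elim
      | exact (false_1560 hT e).elim
      | exact (false_1575 hT e).elim
      | exact (false_1620 hT e).elim
      | exact (false_1680 hT e).elim
      | exact (false_1716 hT e).elim
      | exact (false_1764 hT e).elim
      | exact (false_1800 hT e).elim
      | exact (false_1920 hT e).elim
      | exact (false_1980 hT e).elim
      | exact (false_2080 hT e).elim
      | exact (false_2100 hT e).elim
      | exact (false_2160 hT e).elim
      | exact (false_2268 hT e).elim
      | exact (false_2400 hT e).elim
      | exact (false_2464 hT e).elim
      | exact (false_2475 hT e).elim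
      | exact (false_2688 hT e).elim
      | exact (false_2700 hT e).elim
      | exact (false_2800 hT e).elim
      | exact (false_2940 hT e).elim
      | exact (false_2976 hT e).elim
      | exact (false_3080 hT e).elim
      | exact (false_3120 hT e).elim
      | exact (false_3168 hT e).elim
      | exact (false_3360 hT e).elim
      | exact (false_3432 hT e).elim
      | exact (false_3444 hT e).elim
      | exact (false_3528 hT e).elim
      | exact (false_3600 hT e).elim
  · rcases S0983.result hT h' (by omega) with h | h | h | h <;> omega

end Cfsg.Agent.Lib.SmallSimple1
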