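import Mathlib
import Cfsg.Prelude.Def_DegreeGraph
import Cfsg.Agent.Lib.Chars.Induced
import Cfsg.Agent.Lib.Chars.Ops
import Cfsg.Agent.Lib.Chars.PermChar
import Cfsg.Agent.Lib.GaloisPos.Basic
import Cfsg.Agent.Lib.KGV.Basic
import Cfsg.Agent.Lib.NoDivDeg.Values
import Cfsg.Agent.Lib.RankSeries.PSLDegrees
import Cfsg.Agent.S0984

/-!
Degree primes of `PSL₃(3)` and of the simple group of order `2520`.

The degree `12` of `PSL₃(3)` comes from the doubly transitive action on thirteen points, the degree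
`13` from a linear character of a point stabiliser. For a prime `p` and an element `y` of order
`p`, if the centralizer of `y` is smaller than the number of classes, then some degree is
divisible by `p`, by column orthogonality and positivity of the conjugate values.
-/

set_option autoImplicit false

namespace Cfsg.Agent.Lib.SmallSimple1

open Cfsg.Agent.Lib
open scoped ComplexConjugate LinearAlgebra.Projectivization

universe u

/-- A prime dividing no irreducible degree bounds the number of classes by the centralizer order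
of each element of that order. -/
theorem classes_le_centralizer_of_not_mem_degreePrimes {G : Type u} [Group G] [Finite G] {p : ℕ}
    (hp : p.Prime) {y : G} (hy : orderOf y = p) (hd : p ∉ degreePrimes G) :
    Nat.card (ConjClasses G) ≤ Nat.card (Subgroup.centralizer ({y} : Set G)) := by
  classical
  cases nonempty_fintype G
  set s : Finset G := Finset.univ.filter fun g => g ∈ Subgroup.zpowers y ∧ g ≠ 1 with hsdef
  have hord : ∀ g ∈ s, orderOf g = p := by
    intro g hg
    obtain ⟨-, hg, hg1⟩ := Finset.mem_filter.1 hg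
    rcases (Nat.dvd_prime hp).1 (hy ▸ orderOf_dvd_of_mem_zpowers hg) with h | h
    · exact absurd (orderOf_eq_one_iff.1 h) hg1
    · exact h
  have hne : ∀ χ : IrrCharacter G, ∀ g ∈ s, (χ : G → ℂ) g ≠ 0 := by
    intro χ g hg
    obtain ⟨d, -, hd1⟩ := Chars.isIrrCharacter_exists_degree_pos χ.2
    refine NoDivDeg.apply_ne_zero_of_primePow χ hd1 hp (j := 1) (by rw [hord g hg, pow_one])
      fun hpd => hd ⟨hp, d, ⟨χ, ?_⟩, hpd⟩
    simp [charDegree, hd1]
  have hC : ∀ g ∈ s, Subgroup.centralizer ({g} : Set G) = Subgroup.centralizer ({y} : Set G) := by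
    intro g hg
    have hgz : Subgroup.zpowers g = Subgroup.zpowers y :=
      Subgroup.eq_of_le_of_card_ge (Subgroup.zpowers_le.2 (Finset.mem_filter.1 hg).2.1)
        (by rw [Nat.card_zpowers, Nat.card_zpowers, hord g hg, hy])
    rw [← Subgroup.centralizer_closure, ← Subgroup.zpowers_eq_closure, hgz,
      Subgroup.zpowers_eq_closure, Subgroup.centralizer_closure]
  have hs : ∀ k : ℕ, k.Coprime (Nat.card G) → ∀ g ∈ s, g ^ k ∈ s := by
    intro k hk g hg
    refine Finset.mem_filter.2 ⟨Finset.mem_univ _,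
      Subgroup.pow_mem _ (Finset.mem_filter.1 hg).2.1 k, fun h => (Finset.mem_filter.1 hg).2.2 ?_⟩
    exact (powCoprime hk.symm).injective (show g ^ k = (1 : G) ^ k by rw [h, one_pow])
  have hsne : 0 < s.card := Finset.card_pos.2 ⟨y, Finset.mem_filter.2
    ⟨Finset.mem_univ _, Subgroup.mem_zpowers y, fun h => hp.ne_one (by rw [← hy, h, orderOf_one])⟩⟩
  have hsum : ∑ χ : IrrCharacter G, ∑ g ∈ s, Complex.normSq ((χ : G → ℂ) g) =
      (s.card : ℝ) * Nat.card (Subgroup.centralizer ({y} : Set G)) := by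
    rw [Finset.sum_comm, Finset.sum_congr rfl fun g hg => by
      rw [KGV.sum_normSq_eq_card_centralizer, hC g hg]]
    simp
  have hle : (Fintype.card (IrrCharacter G) : ℝ) * s.card ≤
      ∑ χ : IrrCharacter G, ∑ g ∈ s, Complex.normSq ((χ : G → ℂ) g) := by
    have h := Finset.sum_le_sum (s := (Finset.univ : Finset (IrrCharacter G))) fun χ _ => by
      have := GaloisPos.card_ne_zero_le_sum_normSq (Chars.irr_isCharacter χ) s hs
      rwa [Finset.filter_true_of_mem (hne χ)] at this
    simpa using h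
  rw [hsum, mul_comm] at hle
  have := le_of_mul_le_mul_left hle (by exact_mod_cast hsne)
  rw [← Chars.card_irrCharacter (G := G), Nat.card_eq_fintype_card]
  exact_mod_cast this

section Mackey

variable {G : Type u} [Group G] [Finite G]

/-- A real linear character of the point stabiliser of a doubly transitive action induces an
irreducible character, if it differs from its conjugate somewhere. -/
theorem isIrrCharacter_indFun_of_witness [Fintype G] (H : Subgroup G) (μ : H →* ℂˣ)
    (hreal : ∀ h : H, (μ h : ℂ) = 1 ∨ (μ h : ℂ) = -1) (s : G)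
    (hdc : ∀ x : G, x ∉ H → ∃ a ∈ H, ∃ b ∈ H, x = a * s * b) (h0 : H)
    (hs0 : s⁻¹ * (h0 : G) * s ∈ H) (hw : μ h0 ≠ μ ⟨_, hs0⟩) :
    IsIrrCharacter G (indFun H fun h => (μ h : ℂ)) := by
  classical
  have hch := Chars.isCharacter_indFun H (Chars.isCharacter_hom μ)
  rw [Chars.isIrrCharacter_iff_classInner_eq_one hch,
    Chars.classInner_indFun_left H _ _ (Chars.isClassFunction_of_isCharacter hch)]
  have hconj : ∀ h : H, conj (μ h : ℂ) = μ h := fun h => by
    rcases hreal h with e | e <;> simp [e]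
  have hsq : ∀ h : H, (μ h : ℂ) * μ h = 1 := fun h => by
    rcases hreal h with e | e <;> simp [e]
  set f : G → H → ℂ := fun x h =>
    (μ h : ℂ) * extendByZero H (fun k => (μ k : ℂ)) (x⁻¹ * h * x) with hf
  have hin : ∀ x : G, x ∈ H → ∑ h : H, f x h = (Nat.card H : ℂ) := by
    intro x hx
    rw [← Fintype.card_eq_nat_card, ← Finset.card_univ, Finset.cast_card]
    refine Finset.sum_congr rfl fun h _ => ?_
    have e : x⁻¹ * (h : G) * x = (((⟨x, hx⟩ : H)⁻¹ * h * ⟨x, hx⟩ : H) : G) := by simp
    rw [hf]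
    simp only
    rw [e, Chars.extendByZero_coe, map_mul, map_mul, map_inv,
      mul_comm ((μ ⟨x, hx⟩)⁻¹) (μ h), inv_mul_cancel_right, hsq]
  have hout : ∀ x : G, x ∉ H → ∑ h : H, f x h = 0 := by
    intro x hx
    obtain ⟨a, ha, b, hb, rfl⟩ := hdc x hx
    set h1 : H := ⟨a, ha⟩ * h0 * (⟨a, ha⟩ : H)⁻¹ with hh1
    set k1 : H := (⟨b, hb⟩ : H)⁻¹ * ⟨_, hs0⟩ * ⟨b, hb⟩ with hk1
    have hk : (a * s * b)⁻¹ * (h1 : G) * (a * s * b) = k1 := by
      simp [h1, k1, mul_assoc]
    have hμ1 : μ h1 = μ h0 := by rw [hh1, map_mul, map_mul, map_inv, mul_comm (μ _) (μ h0), mul_inv_cancel_right]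
    have hμ2 : μ k1 = μ ⟨_, hs0⟩ := by
      rw [hk1, map_mul, map_mul, map_inv, mul_comm ((μ _)⁻¹) (μ ⟨_, hs0⟩), inv_mul_cancel_right]
    set c : ℂ := (μ h0 : ℂ) * μ ⟨_, hs0⟩ with hc
    have hc1 : c ≠ 1 := by
      intro h
      refine hw (Units.ext ?_)
      linear_combination (μ ⟨_, hs0⟩ : ℂ) * h - (μ h0 : ℂ) * hsq ⟨_, hs0⟩
    have hstep : ∀ h : H, f (a * s * b) (h1 * h) = c * f (a * s * b) h := by
      intro h
      simp only [hf]
      have e : (a * s * b)⁻¹ * ((h1 * h : H) : G) * (a * s * b) =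
          (k1 : G) * ((a * s * b)⁻¹ * (h : G) * (a * s * b)) := by
        rw [← hk]; push_cast; group
      rw [e, map_mul, Units.val_mul, hμ1, hc]
      by_cases hm : (a * s * b)⁻¹ * (h : G) * (a * s * b) ∈ H
      · rw [Chars.extendByZero_of_mem _ (H.mul_mem k1.2 hm), Chars.extendByZero_of_mem _ hm]
        rw [show (⟨_, H.mul_mem k1.2 hm⟩ : H) = k1 * ⟨_, hm⟩ from rfl, map_mul, Units.val_mul, hμ2]
        ring
      · rw [Chars.extendByZero_of_not_mem _ (fun h' => hm ((H.mul_mem_cancel_left k1.2).1 h')),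
          Chars.extendByZero_of_not_mem _ hm]
        ring
    have hsum : ∑ h : H, f (a * s * b) h = c * ∑ h : H, f (a * s * b) h := by
      rw [Finset.mul_sum, ← Finset.sum_congr rfl fun h _ => hstep h]
      exact (Fintype.sum_equiv (Equiv.mulLeft h1) _ _ fun _ => rfl).symm
    by_contra h
    exact hc1 (mul_right_cancel₀ h (by rw [one_mul]; exact hsum.symm))
  have hconjext : ∀ g : G, conj (extendByZero H (fun k => (μ k : ℂ)) g) =
      extendByZero H (fun k => (μ k : ℂ)) g := fun g => by
    by_cases hg : g ∈ H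
    · rw [Chars.extendByZero_of_mem _ hg]; exact hconj _
    · rw [Chars.extendByZero_of_not_mem _ hg, map_zero]
  simp only [classInner, indFun, map_mul, map_sum, hconjext, map_inv₀, Complex.conj_natCast]
  have hswap : ∑ h : H, (μ h : ℂ) * ((Nat.card H : ℂ)⁻¹ *
      ∑ x : G, extendByZero H (fun k => (μ k : ℂ)) (x⁻¹ * h * x)) =
      (Nat.card H : ℂ)⁻¹ * ∑ x : G, ∑ h : H, f x h := by
    rw [Finset.sum_comm, Finset.mul_sum Finset.univ]
    refine Finset.sum_congr rfl fun h _ => ?_
    rw [Finset.mul_sum, Finset.mul_sum, Finset.mul_sum]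
    exact Finset.sum_congr rfl fun x _ => by simp only [hf]; ring
  rw [hswap, ← Finset.sum_subset (Finset.subset_univ (Finset.univ.filter (· ∈ H)))
      (fun x _ hx => hout x (by simpa using hx)),
    Finset.sum_congr rfl fun x hx => hin x (Finset.mem_filter.1 hx).2, Finset.sum_const,
    nsmul_eq_mul, show (Finset.univ.filter (· ∈ H)).card = Nat.card H by
      rw [Nat.card_eq_fintype_card]; exact (Fintype.card_subtype _).symm]
  have := (Chars.natCard_ne_zero (G := H))
  field_simp

end Mackey

section L33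

local notation "SL33" => Matrix.SpecialLinearGroup (Fin 3) (ZMod 3)
local notation "PT" => ℙ (ZMod 3) (Fin 3 → ZMod 3)

local instance fact_three : Fact (Nat.Prime 3) := ⟨Nat.prime_three⟩

theorem center_SL33 : Subgroup.center SL33 = ⊥ := by
  refine (Subgroup.eq_bot_iff_forall _).2 fun m hm => ?_
  obtain ⟨r, hr, hrm⟩ := Matrix.SpecialLinearGroup.mem_center_iff.1 hm
  have h1 : ∀ x : ZMod 3, x ^ 3 = 1 → x = 1 := by decide
  rw [Fintype.card_fin] at hr
  refine Subtype.ext ?_
  rw [← hrm, h1 r hr, map_one]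
  rfl

theorem card_PT : Nat.card PT = 13 := by
  have h := Projectivization.card (ZMod 3) (Fin 3 → ZMod 3)
  simp at h
  omega

def base : PT := Projectivization.mk (ZMod 3) (Pi.single 0 1) (by simp)

theorem smul_base_eq_iff (g : SL33) : g • base = base ↔ g.1 1 0 = 0 ∧ g.1 2 0 = 0 := by
  rw [base, Projectivization.smul_mk, Projectivization.mk_eq_mk_iff']
  have hcol : g • (Pi.single 0 1 : Fin 3 → ZMod 3) = fun i => g.1 i 0 := by
    show g.1.mulVec _ = _
    rw [Matrix.mulVec_single_one]
    rfl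
  rw [hcol]
  constructor
  · rintro ⟨a, ha⟩
    exact ⟨by simpa using (congrFun ha 1).symm, by simpa using (congrFun ha 2).symm⟩
  · rintro ⟨h1, h2⟩
    exact ⟨g.1 0 0, funext fun i => by fin_cases i <;> simp [h1, h2]⟩

theorem corner_ne_zero {g : SL33} (hg : g • base = base) : g.1 0 0 ≠ 0 := by
  intro h
  have hd : g.1.det = 1 := g.2
  rw [smul_base_eq_iff] at hg
  rw [Matrix.det_fin_three, h, hg.1, hg.2] at hd
  simp at hd

/-- The sign of the first diagonal entry on the stabiliser of the first coordinate point. -/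
def cornerHom : MulAction.stabilizer SL33 base →* ℤˣ where
  toFun g := if g.1.1 0 0 = 1 then 1 else -1
  map_one' := by simp
  map_mul' g k := by
    have hg := corner_ne_zero g.2
    have hk := corner_ne_zero k.2
    obtain ⟨k1, k2⟩ := (smul_base_eq_iff _).1 k.2
    have e : (g * k).1.1 0 0 = g.1.1 0 0 * k.1.1 0 0 := by
      show (g.1.1 * k.1.1) 0 0 = _
      rw [Matrix.mul_apply, Fin.sum_univ_three, k1, k2]
      ring
    rw [e]
    have key : ∀ x y : ZMod 3, x ≠ 0 → y ≠ 0 → (if x * y = 1 then 1 else -1 : ℤˣ) =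
      (if x = 1 then 1 else -1) * (if y = 1 then 1 else -1) := by decide
    exact key _ _ hg hk

theorem cornerHom_apply (g : MulAction.stabilizer SL33 base) :
    cornerHom g = if g.1.1 0 0 = 1 then 1 else -1 := rfl

def swapPt : SL33 := ⟨!![0, 1, 0; 1, 0, 0; 0, 0, -1], by decide⟩

def signDiag : SL33 := ⟨!![1, 0, 0; 0, -1, 0; 0, 0, -1], by decide⟩

theorem twelve_mem_charDegrees_SL33 : 12 ∈ charDegrees SL33 := by
  haveI : Finite PT := Nat.finite_of_card_ne_zero (by rw [card_PT]; norm_num)
  haveI : Nontrivial PT := Finite.one_lt_card_iff_nontrivial.1 (by rw [card_PT]; norm_num)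
  haveI : MulAction.IsPretransitive SL33 PT := MulAction.isPretransitive_of_is_two_pretransitive
  refine ⟨⟨_, (Chars.isIrrCharacter_permChar_sub_one_iff PT).2 inferInstance⟩, ?_⟩
  simp [charDegree, Chars.permChar, MulAction.fixedBy, card_PT]

theorem thirteen_mem_charDegrees_SL33 : 13 ∈ charDegrees SL33 := by
  classical
  haveI : Finite PT := Nat.finite_of_card_ne_zero (by rw [card_PT]; norm_num)
  haveI h2 : MulAction.IsMultiplyPretransitive SL33 PT 2 := inferInstance
  haveI : MulAction.IsPretransitive SL33 PT := MulAction.isPretransitive_of_is_two_pretransitive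
  let H : Subgroup SL33 := MulAction.stabilizer SL33 base
  let μ : H →* ℂˣ := (Units.map (Int.castRingHom ℂ).toMonoidHom).comp cornerHom
  have hmem : ∀ g : SL33, g.1 1 0 = 0 → g.1 2 0 = 0 → g ∈ H := fun g h1 h2 =>
    (smul_base_eq_iff g).2 ⟨h1, h2⟩
  have hs : swapPt ∉ H := fun h => by
    have := ((smul_base_eq_iff _).1 h).1
    simp [swapPt] at this
  have hdc : ∀ x : SL33, x ∉ H → ∃ a ∈ H, ∃ b ∈ H, x = a * swapPt * b := by
    intro x hx
    obtain ⟨a, ha, ha'⟩ := MulAction.is_two_pretransitive_iff.1 h2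
      (show base ≠ swapPt • base from fun e => hs e.symm)
      (show base ≠ x • base from fun e => hx e.symm)
    refine ⟨a, ha, swapPt⁻¹ * a⁻¹ * x, ?_, by group⟩
    show _ • base = base
    rw [mul_smul, mul_smul, ← ha', inv_smul_smul, inv_smul_smul]
  have hconjm : (swapPt⁻¹ * signDiag * swapPt).1 1 0 = 0 ∧
      (swapPt⁻¹ * signDiag * swapPt).1 2 0 = 0 ∧
      (swapPt⁻¹ * signDiag * swapPt).1 0 0 ≠ 1 := by decide +kernel
  have hirr := isIrrCharacter_indFun_of_witness H μ
    (fun h => by
      rcases Int.units_eq_one_or (cornerHom h) with e | e <;> simp [μ, e])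
    swapPt hdc ⟨signDiag, hmem _ (by decide) (by decide)⟩ (hmem _ hconjm.1 hconjm.2.1)
    (by
      intro e
      have e' := congrArg (fun u : ℂˣ => (u : ℂ)) e
      have e1 : cornerHom ⟨signDiag, hmem _ (by decide) (by decide)⟩ = 1 := by
        rw [cornerHom_apply, if_pos (show signDiag.1 0 0 = 1 by decide)]
      have e2 : cornerHom ⟨_, hmem _ hconjm.1 hconjm.2.1⟩ = -1 := by
        rw [cornerHom_apply, if_neg hconjm.2.2]
      simp only [μ, MonoidHom.coe_comp, Function.comp_apply] at e'
      erw [e1, e2] at e'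
      norm_num at e')
  refine ⟨⟨_, hirr⟩, ?_⟩
  have hidx : H.index = 13 := by
    rw [MulAction.index_stabilizer, MulAction.orbit_eq_univ, Set.ncard_univ, card_PT]
  show charDegree (indFun H fun h => (μ h : ℂ)) = 13
  rw [charDegree, Chars.indFun_one_eq, hidx]
  simp

/-- `3` and `13` are vertices of the degree graph of `PSL₃(3)`. -/
theorem vertices_L33 :
    3 ∈ degreePrimes (Matrix.ProjectiveSpecialLinearGroup (Fin 3) (ZMod 3)) ∧
      13 ∈ degreePrimes (Matrix.ProjectiveSpecialLinearGroup (Fin 3) (ZMod 3)) := by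
  have e : Matrix.ProjectiveSpecialLinearGroup (Fin 3) (ZMod 3) ≃* SL33 :=
    (QuotientGroup.quotientMulEquivOfEq center_SL33).trans QuotientGroup.quotientBot
  have he := RankSeries.charDegrees_congr e
  exact ⟨⟨Nat.prime_three, 12, he ▸ twelve_mem_charDegrees_SL33, by norm_num⟩,
    ⟨by norm_num, 13, he ▸ thirteen_mem_charDegrees_SL33, dvd_rfl⟩⟩

end L33

section Alt7

local notation "A7" => alternatingGroup (Fin 7)

def fixedCount (g : Equiv.Perm (Fin 7)) : ℕ := (Finset.univ.filter fun x => g x = x).card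

theorem fixedCount_conj (c g : Equiv.Perm (Fin 7)) : fixedCount (c * g * c⁻¹) = fixedCount g := by
  unfold fixedCount
  refine Finset.card_bij' (fun x _ => c⁻¹ x) (fun x _ => c x) ?_ ?_ ?_ ?_
  · intro x hx
    rw [Finset.mem_filter] at hx ⊢
    refine ⟨Finset.mem_univ _, c.injective ?_⟩
    simpa using hx.2
  · intro x hx
    rw [Finset.mem_filter] at hx ⊢
    exact ⟨Finset.mem_univ _, by simp [hx.2]⟩
  · simp
  · simp

/-- Fixed point counts of the first three powers, a class invariant. -/
def signature (g : A7) : ℕ × ℕ × ℕ :=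
  (fixedCount g.1, fixedCount (g.1 ^ 2), fixedCount (g.1 ^ 3))

theorem signature_isConj {g k : A7} (h : IsConj g k) : signature g = signature k := by
  obtain ⟨c, rfl⟩ := isConj_iff.1 h
  simp only [signature, Subgroup.coe_mul, InvMemClass.coe_inv, conj_pow, fixedCount_conj]

def reps : Fin 8 → A7 :=
  ![1,
    ⟨c[0, 1] * c[2, 3], Equiv.Perm.mem_alternatingGroup.2 (by decide +kernel)⟩,
    ⟨c[0, 1, 2], Equiv.Perm.mem_alternatingGroup.2 (by decide +kernel)⟩,
    ⟨c[0, 1, 2] * c[3, 4, 5], Equiv.Perm.mem_alternatingGroup.2 (by decide +kernel)⟩,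
    ⟨c[0, 1, 2] * c[3, 4] * c[5, 6], Equiv.Perm.mem_alternatingGroup.2 (by decide +kernel)⟩,
    ⟨c[0, 1, 2, 3] * c[4, 5], Equiv.Perm.mem_alternatingGroup.2 (by decide +kernel)⟩,
    ⟨c[0, 1, 2, 3, 4], Equiv.Perm.mem_alternatingGroup.2 (by decide +kernel)⟩,
    ⟨c[0, 1, 2, 3, 4, 5, 6], Equiv.Perm.mem_alternatingGroup.2 (by decide +kernel)⟩]

theorem reps_signature_injective : Function.Injective fun i => signature (reps i) := by
  decide +kernel

theorem eight_le_classes : 8 ≤ Nat.card (ConjClasses A7) := by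
  have hinj : Function.Injective fun i => ConjClasses.mk (reps i) := fun i j h =>
    reps_signature_injective (signature_isConj (ConjClasses.mk_eq_mk_iff_isConj.1 h))
  simpa using Nat.card_le_card_of_injective _ hinj

def cyc5 : A7 := ⟨c[0, 1, 2, 3, 4], Equiv.Perm.mem_alternatingGroup.2 (by decide +kernel)⟩

def cyc7 : A7 := ⟨c[0, 1, 2, 3, 4, 5, 6], Equiv.Perm.mem_alternatingGroup.2 (by decide +kernel)⟩

/-- The centralizer in `A7` embeds in the even part of the centralizer in the symmetric group. -/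
theorem centralizer_le (y : A7) {m : ℕ}
    (hm : Nat.card (Subgroup.centralizer ({y.1} : Set (Equiv.Perm (Fin 7)))) = m) :
    Nat.card (Subgroup.centralizer ({y} : Set A7)) ≤ m ∧
      ((∃ c ∈ Subgroup.centralizer ({y.1} : Set (Equiv.Perm (Fin 7))), Equiv.Perm.sign c = -1) →
        2 * Nat.card (Subgroup.centralizer ({y} : Set A7)) ≤ m) := by
  set C := Subgroup.centralizer ({y.1} : Set (Equiv.Perm (Fin 7))) with hC
  let φ : C →* ℤˣ := Equiv.Perm.sign.comp C.subtype
  let f : Subgroup.centralizer ({y} : Set A7) → φ.ker := fun g =>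
    ⟨⟨g.1.1, Subgroup.mem_centralizer_singleton_iff.2
      (congrArg Subtype.val (Subgroup.mem_centralizer_singleton_iff.1 g.2))⟩,
      Equiv.Perm.mem_alternatingGroup.1 g.1.2⟩
  have hf : Function.Injective f := fun a b h => Subtype.ext (Subtype.ext
    (congrArg (fun z : φ.ker => (z.1 : Equiv.Perm (Fin 7))) h))
  have h1 := Nat.card_le_card_of_injective f hf
  have h2 := φ.ker.card_mul_index
  rw [hm] at h2
  have hidx : 0 < φ.ker.index := Nat.pos_of_ne_zero Subgroup.index_ne_zero_of_finite
  refine ⟨h1.trans (h2 ▸ Nat.le_mul_of_pos_right _ hidx), ?_⟩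
  rintro ⟨c, hc, hsc⟩
  have hne : φ.ker.index ≠ 1 := fun h => by
    have hmem : (⟨c, hc⟩ : C) ∈ φ.ker := by rw [Subgroup.index_eq_one.1 h]; exact trivial
    rw [MonoidHom.mem_ker] at hmem
    exact absurd (hsc.symm.trans hmem) (by decide)
  calc 2 * Nat.card (Subgroup.centralizer ({y} : Set A7)) ≤ φ.ker.index * Nat.card φ.ker :=
        Nat.mul_le_mul (by omega) h1
    _ = m := by rw [mul_comm, h2]

theorem cycleType_cyc5 : (cyc5.1 : Equiv.Perm (Fin 7)).cycleType = {5} := by decide +kernel

theorem cycleType_cyc7 : (cyc7.1 : Equiv.Perm (Fin 7)).cycleType = {7} := by decide +kernel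

theorem card_centralizer_cyc5 : Nat.card (Subgroup.centralizer ({cyc5} : Set A7)) ≤ 5 := by
  have hm := Equiv.Perm.nat_card_centralizer cyc5.1
  rw [cycleType_cyc5] at hm
  have := (centralizer_le cyc5 hm).2 ⟨Equiv.swap 5 6,
    Subgroup.mem_centralizer_singleton_iff.2 (by decide +kernel), by decide +kernel⟩
  norm_num [Nat.factorial] at this
  omega

theorem card_centralizer_cyc7 : Nat.card (Subgroup.centralizer ({cyc7} : Set A7)) ≤ 7 := by
  have hm := Equiv.Perm.nat_card_centralizer cyc7.1
  rw [cycleType_cyc7] at hm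
  simpa [Nat.factorial] using (centralizer_le cyc7 hm).1

theorem vertices_alt7 : 5 ∈ degreePrimes A7 ∧ 7 ∈ degreePrimes A7 := by
  have h8 := eight_le_classes
  constructor
  · by_contra h
    have := classes_le_centralizer_of_not_mem_degreePrimes (by norm_num)
      (orderOf_eq_prime (hp := ⟨by norm_num⟩) (show cyc5 ^ 5 = 1 by decide +kernel)
        (by decide +kernel)) h
    have := card_centralizer_cyc5
    omega
  · by_contra h
    have := classes_le_centralizer_of_not_mem_degreePrimes (by norm_num)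
      (orderOf_eq_prime (hp := ⟨by norm_num⟩) (show cyc7 ^ 7 = 1 by decide +kernel)
        (by decide +kernel)) h
    have := card_centralizer_cyc7
    omega

/-- `5` and `7` are vertices of the degree graph of a simple group of order `2520`. -/
theorem vertices_2520 {G : Type u} [Group G] [Finite G] [IsSimpleGroup G]
    (h : Nat.card G = 2520) : 5 ∈ degreePrimes G ∧ 7 ∈ degreePrimes G := by
  obtain ⟨e⟩ := S0984.result h
  have he : degreePrimes G = degreePrimes A7 := by
    simp only [degreePrimes, RankSeries.charDegrees_congr e]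
  rw [he]
  exact vertices_alt7

end Alt7

end Cfsg.Agent.Lib.SmallSimple1
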